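import Groth.Agent.CAlgH3.RGam.Coreflect
import Groth.Agent.DualLib.LocDualizing

/-!
Change of ring for `Dual2.HDI`: restriction of scalars and flat base change.
-/

set_option autoImplicit false
set_option backward.isDefEq.respectTransparency false
set_option backward.defeqAttrib.useBackward true
set_option linter.style.haveILetI false

universe u

open CategoryTheory CategoryTheory.Limits
open scoped TensorProduct

attribute [local instance] HasDerivedCategory.standard

namespace Groth.Agent.CAlgH3.RGam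

open Groth.Agent.DualLib.GammaHDI (GC)
open Groth.Agent.DCat

variable {A B : Type u} [CommRing A] [CommRing B]

theorem hasRgammaI (I : Ideal A) : DRing.HasRgammaI I :=
  hasRightDerivedFunctor_of_enoughKInj (enoughKInj_of_isGrothendieckAbelian (A := ModuleCat.{u} A)) _

/-- A functor commuting with torsion commutes with torsion subcomplexes. -/
theorem nonempty_gc_map (F : ModuleCat.{u} A ⥤ ModuleCat.{u} B) [F.Additive] {I : Ideal A} {I' : Ideal B}
    (hinj : ∀ M : ModuleCat.{u} A, Function.Injective (F.map ((DRing.gammaIι I).app M)).hom)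
    (hrange : ∀ M : ModuleCat.{u} A, LinearMap.range (F.map ((DRing.gammaIι I).app M)).hom =
      DRing.torsionSub I' (F.obj M)) (J : DRing.Cx A) :
    Nonempty (GC I' ((F.mapHomologicalComplex (ComplexShape.up ℤ)).obj J) ≅
      (F.mapHomologicalComplex (ComplexShape.up ℤ)).obj (GC I J)) := by
  let e : ∀ M : ModuleCat.{u} A, F.obj ((DRing.gammaI I).obj M) ≅ (DRing.gammaI I').obj (F.obj M) := fun M =>
    ((LinearEquiv.ofInjective _ (hinj M)).trans (LinearEquiv.ofEq _ _ (hrange M))).toModuleIso
  have he : ∀ M, (e M).hom ≫ (DRing.gammaIι I').app (F.obj M) = F.map ((DRing.gammaIι I).app M) := fun M => rfl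
  refine ⟨(HomologicalComplex.Hom.isoOfComponents (fun i => e (J.X i)) fun i j _ => ?_).symm⟩
  haveI : Mono ((DRing.gammaIι I').app (F.obj (J.X j))) :=
    (ModuleCat.mono_iff_injective _).2 Subtype.val_injective
  rw [← cancel_mono ((DRing.gammaIι I').app (F.obj (J.X j))), Category.assoc, Category.assoc]
  show (e (J.X i)).hom ≫ (DRing.gammaI I').map (F.map (J.d i j)) ≫ (DRing.gammaIι I').app (F.obj (J.X j)) =
    F.map ((DRing.gammaI I).map (J.d i j)) ≫ (e (J.X j)).hom ≫ (DRing.gammaIι I').app (F.obj (J.X j))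
  rw [(DRing.gammaIι I').naturality (F.map (J.d i j)), ← Category.assoc, he, he, ← F.map_comp,
    (DRing.gammaIι I).naturality (J.d i j)]
  exact (F.map_comp _ _).symm

/-- `HDI` computed by an adapted complex. -/
theorem nonempty_HDI_of_model [IsNoetherianRing A] {I : Ideal A} {s : List A} (hs : Ideal.ofList s = I)
    (P : DRing.Cx A) (hP : AdC P s) {K : Dual.D A} (e : DerivedCategory.Q.obj P ≅ K) (i : ℤ) :
    Nonempty (Dual2.HDI A I K i ≃ₗ[A] (GC I P).homology i) := by
  haveI := hasRgammaI I
  haveI := isIso_theta hs P hP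
  obtain ⟨f⟩ := DualLib.GammaHDI.nonempty_HDI_RgammaI I K i
  exact ⟨f.trans ((((DerivedCategory.homologyFunctor (ModuleCat.{u} A) i).mapIso
    ((asIso (theta I P)) ≪≫ (DRing.RgammaI I).mapIso e)).toLinearEquiv).symm.trans (hdQ (GC I P) i))⟩

/-- Homology commutes with an exact functor. -/
noncomputable def homologyMapIso (F : ModuleCat.{u} A ⥤ ModuleCat.{u} B) [F.Additive] [F.PreservesHomology]
    (C : DRing.Cx A) (i : ℤ) :
    ((F.mapHomologicalComplex (ComplexShape.up ℤ)).obj C).homology i ≅ F.obj (C.homology i) :=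
  (C.sc i).mapHomologyIso F

section restrict

variable [Algebra A B]

theorem mem_tor_restrict {N : Type u} [AddCommGroup N] [Module A N] [Module B N] [IsScalarTower A B N] (x : N) :
    ∀ t : List A, x ∈ tor t N ↔ x ∈ tor (t.map (algebraMap A B)) N
  | [] => by simp only [List.map_nil]; exact ⟨fun _ => mem_tor_nil x, fun _ => mem_tor_nil x⟩
  | f :: t => by
    rw [List.map_cons, mem_tor_cons, mem_tor_cons, mem_tor_restrict x t]
    refine and_congr_right fun _ => exists_congr fun k => ?_
    rw [← map_pow, IsScalarTower.algebraMap_smul]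

theorem ad_restrict {N : Type u} [AddCommGroup N] [Module A N] [Module B N] [IsScalarTower A B N] :
    ∀ t : List A, Ad N (t.map (algebraMap A B)) → Ad N t
  | [], _ => trivial
  | f :: t, h => by
    rw [List.map_cons] at h
    refine ⟨ad_restrict t h.1, fun m => ?_⟩
    obtain ⟨x, hx, k, hk⟩ := Ad.div h ((mem_tor_restrict m.1 t).1 m.2) 1
    refine ⟨⟨x, (mem_tor_restrict x t).2 hx⟩, k, Subtype.ext ?_⟩
    rw [← map_pow, ← map_pow, IsScalarTower.algebraMap_smul, IsScalarTower.algebraMap_smul] at hk
    exact hk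

theorem nonempty_HDI_restrictD [IsNoetherianRing A] [IsNoetherianRing B] (I : Ideal A) (K : Dual.D B) (i : ℤ) :
    Nonempty (Dual2.HDI A I ((DRing.restrictD (algebraMap A B)).obj K) i ≅
      (ModuleCat.restrictScalars (algebraMap A B)).obj (Dual2.HDI B (I.map (algebraMap A B)) K i)) := by
  obtain ⟨s, rfl⟩ := exists_list I
  obtain ⟨J, e, -, -, hJ⟩ := exists_model K
  let F := ModuleCat.restrictScalars.{u} (algebraMap A B)
  let J' := (F.mapHomologicalComplex (ComplexShape.up ℤ)).obj J
  have hJ' : AdC J' s := fun n => by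
    letI : Module A (J.X n) := Module.compHom _ (algebraMap A B)
    haveI : IsScalarTower A B (J.X n) := ⟨fun a b x => by
      show (a • b) • x = algebraMap A B a • b • x
      rw [Algebra.smul_def, mul_smul]⟩
    exact ad_restrict (N := J.X n) s (hJ (s.map (algebraMap A B)) n)
  obtain ⟨f⟩ := nonempty_HDI_of_model rfl J' hJ'
    ((F.mapDerivedCategoryFactors.app J).symm ≪≫ (DRing.restrictD (algebraMap A B)).mapIso e) i
  obtain ⟨g⟩ := nonempty_gc_map F (I := (Ideal.ofList s).map (algebraMap A B)) (I' := Ideal.ofList s)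
    (fun M => Subtype.val_injective) (fun M => by
      letI : Module A M := Module.compHom _ (algebraMap A B)
      haveI : IsScalarTower A B M := ⟨fun a b x => by
        show (a • b) • x = algebraMap A B a • b • x
        rw [Algebra.smul_def, mul_smul]⟩
      ext x
      rw [Ideal.map_ofList]
      exact ⟨fun ⟨y, hy⟩ => hy ▸ (mem_tor_restrict (B := B) (N := M) (show tor (s.map (algebraMap A B)) M from y).1 s).2 (show tor (s.map (algebraMap A B)) M from y).2,
        fun hx => ⟨(⟨x, (mem_tor_restrict (B := B) (N := M) x s).1 hx⟩ : tor (s.map (algebraMap A B)) M), rfl⟩⟩) J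
  obtain ⟨h⟩ := nonempty_HDI_of_model (Ideal.map_ofList _ s).symm J (hJ _) e i
  let p : Dual2.HDI A (Ideal.ofList s) ((DRing.restrictD (algebraMap A B)).obj K) i ≃ₗ[A]
      F.obj ((GC ((Ideal.ofList s).map (algebraMap A B)) J).homology i) :=
    f.trans (((HomologicalComplex.homologyFunctor _ _ i).mapIso g) ≪≫ homologyMapIso F _ i).toLinearEquiv
  exact ⟨(p.trans
    { toFun := fun x => h.symm x
      map_add' := fun x y => map_add h.symm x y
      map_smul' := fun a x => map_smul h.symm (algebraMap A B a) x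
      invFun := fun y => h y
      left_inv := h.apply_symm_apply
      right_inv := h.symm_apply_apply } : _ ≃ₗ[A]
      (ModuleCat.restrictScalars (algebraMap A B)).obj (Dual2.HDI B ((Ideal.ofList s).map (algebraMap A B)) K i)).toModuleIso⟩

end restrict

section flat

variable [Algebra A B] [Module.Flat A B]

theorem div_baseChange {f : A} {M : Type u} [AddCommGroup M] [Module A M] (h : Div f M) :
    Div (algebraMap A B f) (B ⊗[A] M) := fun z => by
  suffices ∃ (x : B ⊗[A] M) (k : ℕ), f ^ k • z = f ^ (k + 1) • x by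
    obtain ⟨x, k, hk⟩ := this
    exact ⟨x, k, by rw [← map_pow, ← map_pow, IsScalarTower.algebraMap_smul, IsScalarTower.algebraMap_smul]; exact hk⟩
  induction z using TensorProduct.induction_on with
  | zero => exact ⟨0, 0, by simp⟩
  | tmul b m =>
    obtain ⟨x, k, hk⟩ := h m
    exact ⟨b ⊗ₜ x, k, by rw [← TensorProduct.tmul_smul, hk, TensorProduct.tmul_smul]⟩
  | add y z hy hz =>
    obtain ⟨x, k, hk⟩ := hy
    obtain ⟨x', k', hk'⟩ := hz
    refine ⟨x + x', k + k', ?_⟩
    rw [smul_add, smul_add]
    congr 1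
    · rw [add_comm k, pow_add, mul_smul, hk, ← mul_smul, ← pow_add]; ring_nf
    · rw [pow_add, mul_smul, hk', ← mul_smul, ← pow_add]; ring_nf

variable [IsNoetherianRing A] [IsNoetherianRing B]

theorem tor_baseChange (t : List A) (M : Type u) [AddCommGroup M] [Module A M] :
    tor (t.map (algebraMap A B)) (B ⊗[A] M) = LinearMap.range ((tor t M).subtype.baseChange B) := by
  rw [show tor (t.map (algebraMap A B)) (B ⊗[A] M) =
      DRing.torsionSub ((Ideal.ofList t).map (algebraMap A B)) (B ⊗[A] M) by rw [Ideal.map_ofList]]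
  exact LocCoh.powTorsion_baseChange A B (Ideal.ofList t) M

theorem ad_baseChange {M : Type u} [AddCommGroup M] [Module A M] :
    ∀ t : List A, Ad M t → Ad (B ⊗[A] M) (t.map (algebraMap A B))
  | [], _ => trivial
  | f :: t, h => by
    rw [List.map_cons]
    refine ⟨ad_baseChange t h.1, fun z => ?_⟩
    have hz : (z : B ⊗[A] M) ∈ LinearMap.range ((tor t M).subtype.baseChange B) := (tor_baseChange (B := B) t M) ▸ z.2
    obtain ⟨w, hw⟩ := hz
    obtain ⟨x, k, hk⟩ := div_baseChange (B := B) h.2 w
    refine ⟨⟨(tor t M).subtype.baseChange B x, (tor_baseChange (B := B) t M).symm ▸ LinearMap.mem_range_self _ x⟩, k,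
      Subtype.ext ?_⟩
    rw [Submodule.coe_smul, ← hw, ← map_smul, hk, map_smul]
    rfl

theorem nonempty_HDI_LBaseChange [DRing.HasLBaseChange (algebraMap A B)] (I : Ideal A) (K : Dual.D A) (i : ℤ) :
    Nonempty (Dual2.HDI B (I.map (algebraMap A B)) ((DRing.LBaseChange (algebraMap A B)).obj K) i ≅
      (ModuleCat.extendScalars (algebraMap A B)).obj (Dual2.HDI A I K i)) := by
  obtain ⟨s, rfl⟩ := exists_list I
  obtain ⟨J, e, -, -, hJ⟩ := exists_model K
  let φ := algebraMap A B
  have hφ : φ.Flat := RingHom.flat_algebraMap_iff.2 ‹_›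
  haveI := CAlgSmall.PCZariski.preservesHomology_ext φ hφ
  let F := ModuleCat.extendScalars.{u, u, u} φ
  let J' := (F.mapHomologicalComplex (ComplexShape.up ℤ)).obj J
  have key : ∀ (ψ : A →+* B) (i' : Algebra A B), ψ.toAlgebra = i' →
      ((letI := i'; (∀ n, Ad (B ⊗[A] (J.X n)) (s.map φ)) ∧
        ∀ M : ModuleCat.{u} A, Function.Injective ((tor s M).subtype.baseChange B) ∧
          LinearMap.range ((tor s M).subtype.baseChange B) =
            DRing.torsionSub ((Ideal.ofList s).map φ) (B ⊗[A] M))) →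
      (∀ n, Ad ((ModuleCat.extendScalars.{u, u, u} ψ).obj (J.X n)) (s.map φ)) ∧
      (∀ M : ModuleCat.{u} A, Function.Injective ((ModuleCat.extendScalars.{u, u, u} ψ).map
          ((DRing.gammaIι (Ideal.ofList s)).app M)).hom ∧
        LinearMap.range ((ModuleCat.extendScalars.{u, u, u} ψ).map ((DRing.gammaIι (Ideal.ofList s)).app M)).hom =
          DRing.torsionSub ((Ideal.ofList s).map φ) ((ModuleCat.extendScalars.{u, u, u} ψ).obj M)) := by
    rintro ψ _ rfl h
    exact h
  obtain ⟨hJ', hF⟩ := key φ inferInstance (Algebra.algebra_ext _ _ fun _ => rfl)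
    ⟨fun n => ad_baseChange (B := B) s (hJ s n), fun M =>
      ⟨Module.Flat.lTensor_preserves_injective_linearMap (M := B) (tor s M).subtype Subtype.val_injective,
        (LocCoh.powTorsion_baseChange A B (Ideal.ofList s) M).symm⟩⟩
  obtain ⟨lb⟩ := CAlgSmall.PCZariski.nonempty_lbaseChange_iso φ hφ J
  obtain ⟨f⟩ := nonempty_HDI_of_model (Ideal.map_ofList φ s).symm J' hJ'
    (lb.symm ≪≫ (DRing.LBaseChange φ).mapIso e) i
  obtain ⟨g⟩ := nonempty_gc_map F (I := Ideal.ofList s) (I' := (Ideal.ofList s).map φ)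
    (fun M => (hF M).1) (fun M => (hF M).2) J
  obtain ⟨h⟩ := nonempty_HDI_of_model rfl J (hJ s) e i
  let p := f.trans (((HomologicalComplex.homologyFunctor _ _ i).mapIso g) ≪≫ homologyMapIso F _ i).toLinearEquiv
  exact ⟨(p.trans ((letI := φ.toAlgebra; LinearEquiv.baseChange A B _ _ h.symm) :
    F.obj ((GC (Ideal.ofList s) J).homology i) ≃ₗ[B] (ModuleCat.extendScalars φ).obj (Dual2.HDI A (Ideal.ofList s) K i))).toModuleIso⟩

end flat

end Groth.Agent.CAlgH3.RGam
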