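import Groth.Agent.CAlgH3.RGam.Completion
import Groth.Agent.CAlgH3.RGam.BaseChange
import Groth.Agent.HenselLib.TorsBaseChange
import Groth.Agent.Matlis6.CompletionNoetherian
import Mathlib.RingTheory.AdicCompletion.AsTensorProduct
import Mathlib.RingTheory.AdicCompletion.Completeness

/-!
The adic completion of a finite module over a Noetherian algebra is invertible after derived completion.
-/

set_option autoImplicit false
set_option backward.isDefEq.respectTransparency false
set_option backward.defeqAttrib.useBackward true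
set_option backward.isDefEq.respectTransparency.types false
set_option linter.style.haveILetI false

universe u

open CategoryTheory CategoryTheory.Limits
open scoped TensorProduct

attribute [local instance] HasDerivedCategory.standard

namespace Groth.Agent.CAlgH3.RGam.Lam

open Groth.Agent.DualLib.GammaHDI (GC)
open Groth.Agent.DCat Groth.Agent.DCat.DC

variable {A : Type u} [CommRing A]

/-- A module in degree zero. -/
noncomputable abbrev sgl (A : Type u) [CommRing A] : ModuleCat.{u} A ⥤ DRing.Cx A :=
  HomologicalComplex.single (ModuleCat.{u} A) (ComplexShape.up ℤ) 0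

theorem mem_restrict_pow {B : Type u} [CommRing B] [Algebra A B] (I : Ideal A) {N : Type u} [AddCommGroup N]
    [Module A N] [Module B N] [IsScalarTower A B N] (n : ℕ) (x : N) :
    x ∈ (I ^ n • ⊤ : Submodule A N) ↔ x ∈ (I.map (algebraMap A B) ^ n • ⊤ : Submodule B N) := by
  rw [← Ideal.map_pow, ← Submodule.restrictScalars_mem A ((I ^ n).map (algebraMap A B) • (⊤ : Submodule B N)),
    Ideal.smul_restrictScalars, Submodule.restrictScalars_top]

section flat

variable {B : Type u} [CommRing B] [Algebra A B] [IsNoetherianRing B] (I : Ideal A)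

/-- The completion of `B`. -/
abbrev Bh (B : Type u) [CommRing B] [Algebra A B] : Type u :=
  AdicCompletion (I.map (algebraMap A B)) B

/-- Base change to the completion. -/
noncomputable def G (B : Type u) [CommRing B] [Algebra A B] : ModuleCat.{u} B ⥤ ModuleCat.{u} B where
  obj M := ModuleCat.of B (Bh I B ⊗[B] M)
  map g := ModuleCat.ofHom (g.hom.lTensor (Bh I B))
  map_id M := ModuleCat.hom_ext (LinearMap.lTensor_id _ _)
  map_comp g h := ModuleCat.hom_ext (LinearMap.lTensor_comp _ _ _)

instance : (G I B).Additive where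
  map_add {_ _ f g} := ModuleCat.hom_ext (LinearMap.lTensor_add _ f.hom g.hom)

instance : (G I B).PreservesHomology := by
  refine Functor.preservesHomology_of_map_exact _ fun S hS => ?_
  rw [ShortComplex.ShortExact.moduleCat_exact_iff_function_exact] at hS ⊢
  exact Module.Flat.lTensor_exact (Bh I B) hS

/-- The unit. -/
noncomputable def η (B : Type u) [CommRing B] [Algebra A B] : 𝟭 (ModuleCat.{u} B) ⟶ G I B where
  app M := ModuleCat.ofHom (TensorProduct.mk B (Bh I B) M 1)

/-- The unit on complexes, over `A`. -/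
noncomputable def ηA (B : Type u) [CommRing B] [Algebra A B] :
    ModuleCat.restrictScalars.{u} (algebraMap A B) ⟶ G I B ⋙ ModuleCat.restrictScalars (algebraMap A B) :=
  Functor.whiskerRight (η I B) (ModuleCat.restrictScalars (algebraMap A B))

/-- The unit of a complex. -/
noncomputable abbrev ηC (P : DRing.Cx B) :=
  (NatTrans.mapHomologicalComplex (ηA I B) (ComplexShape.up ℤ)).app P

theorem adC_restrict (P : DRing.Cx B) {s : List A} (h : AdC P (s.map (algebraMap A B))) :
    AdC (((ModuleCat.restrictScalars (algebraMap A B)).mapHomologicalComplex (ComplexShape.up ℤ)).obj P) s := fun n => by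
  letI : Module A (P.X n) := Module.compHom _ (algebraMap A B)
  haveI : IsScalarTower A B (P.X n) := ⟨fun a b x => by
    show (a • b) • x = algebraMap A B a • b • x
    rw [Algebra.smul_def, mul_smul]⟩
  exact ad_restrict (N := P.X n) s (h n)

theorem bijective_gamma_restrict {M N : ModuleCat.{u} B} (φ : M ⟶ N) (s : List A)
    (hi : ∀ x ∈ tor (s.map (algebraMap A B)) M, φ.hom x = 0 → x = 0)
    (hs : ∀ y ∈ tor (s.map (algebraMap A B)) N, ∃ x ∈ tor (s.map (algebraMap A B)) M, φ.hom x = y) :
    Function.Bijective ((DRing.gammaI (Ideal.ofList s)).map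
      ((ModuleCat.restrictScalars (algebraMap A B)).map φ)).hom := by
  letI : Module A M := Module.compHom _ (algebraMap A B)
  haveI : IsScalarTower A B M := ⟨fun a b x => by
    show (a • b) • x = algebraMap A B a • b • x
    rw [Algebra.smul_def, mul_smul]⟩
  letI : Module A N := Module.compHom _ (algebraMap A B)
  haveI : IsScalarTower A B N := ⟨fun a b x => by
    show (a • b) • x = algebraMap A B a • b • x
    rw [Algebra.smul_def, mul_smul]⟩
  refine ⟨(injective_iff_map_eq_zero _).2 fun x hx => Subtype.ext (hi _ ?_ (congrArg Subtype.val hx)), fun y => ?_⟩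
  · exact (mem_tor_restrict (A := A) (B := B) (N := M) x.1 s).1 x.2
  · obtain ⟨x, hx, hxy⟩ := hs _ ((mem_tor_restrict (A := A) (B := B) (N := N) y.1 s).1 y.2)
    exact ⟨⟨x, (mem_tor_restrict (A := A) (B := B) (N := M) x s).2 hx⟩, Subtype.ext hxy⟩

theorem adC_G (t : List B) (P : DRing.Cx B) (h : AdC P t) :
    AdC (((G I B).mapHomologicalComplex (ComplexShape.up ℤ)).obj P) t := fun n => by
  haveI : IsNoetherianRing (Bh I B) := Matlis6.isNoetherianRing_adicCompletion _
  exact ad_restrict (A := B) (B := Bh I B) (N := Bh I B ⊗[B] P.X n) t (ad_baseChange (A := B) (B := Bh I B) t (h n))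

theorem tor_η (s : List A) (hs : Ideal.ofList s = I) (M : ModuleCat.{u} B) :
    (∀ x ∈ tor (s.map (algebraMap A B)) M, ((η I B).app M).hom x = 0 → x = 0) ∧
    ∀ y ∈ tor (s.map (algebraMap A B)) ((G I B).obj M), ∃ x ∈ tor (s.map (algebraMap A B)) M,
      ((η I B).app M).hom x = y := by
  haveI : IsNoetherianRing (Bh I B) := Matlis6.isNoetherianRing_adicCompletion _
  set t := s.map (algebraMap A B) with ht
  have hI : Ideal.ofList t = I.map (algebraMap A B) := by rw [ht, ← Ideal.map_ofList, hs]
  have hb : Function.Bijective (TensorProduct.mk B (Bh I B) (tor t M) 1) :=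
    HenselLib.FlatQuot.bijective_mk_of_torsion' (I := I.map (algebraMap A B))
      (HenselLib.FlatQuot.bijective_quotientMap_completion _ (IsNoetherian.noetherian _) AlgEquiv.refl) _ fun m => by
        obtain ⟨k, hk⟩ := m.2
        exact ⟨k, fun a ha => Subtype.ext (hk a (hI.symm ▸ ha))⟩
  have hinj := Module.Flat.lTensor_preserves_injective_linearMap (M := Bh I B)
    (tor t M).subtype Subtype.val_injective
  refine ⟨fun x hx h0 => ?_, fun y hy => ?_⟩
  · exact congrArg Subtype.val (hb.1 (a₁ := ⟨x, hx⟩) (a₂ := 0) (hinj (h0.trans (by simp))))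
  · have hy' : (y : Bh I B ⊗[B] M) ∈ tor (t.map (algebraMap B (Bh I B))) (Bh I B ⊗[B] M) :=
      (mem_tor_restrict (A := B) (B := Bh I B) (N := Bh I B ⊗[B] M) y t).1 hy
    rw [tor_baseChange] at hy'
    obtain ⟨z, hz⟩ := hy'
    obtain ⟨w, rfl⟩ := hb.2 z
    exact ⟨w.1, w.2, hz⟩

theorem cIso_ηC_of_adC [IsNoetherianRing A] (s : List A) (hs : Ideal.ofList s = I) (P : DRing.Cx B)
    (hP : AdC P (s.map (algebraMap A B))) : CIso I (DerivedCategory.Q.map (ηC I P)) := by
  subst hs
  set K := ((ModuleCat.restrictScalars (algebraMap A B)).mapHomologicalComplex (ComplexShape.up ℤ)).obj P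
  set K' := ((G (Ideal.ofList s) B ⋙ ModuleCat.restrictScalars (algebraMap A B)).mapHomologicalComplex
    (ComplexShape.up ℤ)).obj P
  have hK : AdC K s := adC_restrict P hP
  have hK' : AdC K' s := adC_restrict _ (adC_G (Ideal.ofList s) _ P hP)
  have hb : ∀ n, Function.Bijective ((gcMap (Ideal.ofList s) (ηC (Ideal.ofList s) P)).f n).hom := fun n =>
    bijective_gamma_restrict ((η (Ideal.ofList s) B).app (P.X n)) s (tor_η _ s rfl _).1 (tor_η _ s rfl _).2
  haveI : ∀ n, IsIso ((gcMap (Ideal.ofList s) (ηC (Ideal.ofList s) P)).f n) := fun n =>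
    (ConcreteCategory.isIso_iff_bijective _).2 (hb n)
  haveI := HomologicalComplex.Hom.isIso_of_components (gcMap (Ideal.ofList s) (ηC (Ideal.ofList s) P))
  have hg : ∀ g ∈ s, g ∈ Ideal.ofList s := fun g hg => Ideal.subset_span hg
  refine CIso.of_comp_left (cIso_gcι s hg K hK) ?_
  rw [← Functor.map_comp, ← gcMap_ι, Functor.map_comp]
  exact (cIso_of_isIso _).comp (cIso_gcι s hg K' hK')

theorem cIso_ηC [IsNoetherianRing A] (P : DRing.Cx B) : CIso I (DerivedCategory.Q.map (ηC I P)) := by
  obtain ⟨s, hs⟩ := exists_list I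
  obtain ⟨J, σ, -, hσ, hJ⟩ := exists_res P
  haveI := hσ
  have h := cIso_ηC_of_adC I s hs J (hJ _)
  have e := congrArg (fun φ => DerivedCategory.Q.map φ)
    ((NatTrans.mapHomologicalComplex (ηA I B) (ComplexShape.up ℤ)).naturality σ)
  simp only [Functor.map_comp] at e
  haveI : QuasiIso (((G I B).mapHomologicalComplex (ComplexShape.up ℤ)).map σ) := inferInstance
  haveI : QuasiIso (((G I B ⋙ ModuleCat.restrictScalars (algebraMap A B)).mapHomologicalComplex _).map σ) :=
    inferInstanceAs (QuasiIso (((ModuleCat.restrictScalars (algebraMap A B)).mapHomologicalComplex (ComplexShape.up ℤ)).map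
      (((G I B).mapHomologicalComplex (ComplexShape.up ℤ)).map σ)))
  haveI : IsIso (DerivedCategory.Q.map
      (((G I B ⋙ ModuleCat.restrictScalars (algebraMap A B)).mapHomologicalComplex _).map σ)) :=
    (DerivedCategory.isIso_Q_map_iff_quasiIso _ _).2 inferInstance
  haveI : IsIso (DerivedCategory.Q.map
      (((ModuleCat.restrictScalars (algebraMap A B)).mapHomologicalComplex _).map σ)) :=
    (DerivedCategory.isIso_Q_map_iff_quasiIso _ _).2 inferInstance
  refine CIso.of_comp_right (cIso_of_isIso (DerivedCategory.Q.map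
    (((G I B ⋙ ModuleCat.restrictScalars (algebraMap A B)).mapHomologicalComplex _).map σ))) ?_
  rw [← e]
  exact (cIso_of_isIso _).comp h

/-- The unit on a single module. -/
theorem cIso_ηA [IsNoetherianRing A] (N : ModuleCat.{u} B) :
    CIso I (DerivedCategory.Q.map ((sgl A).map ((ηA I B).app N))) := by
  let e₁ := (HomologicalComplex.singleMapHomologicalComplex (ModuleCat.restrictScalars.{u} (algebraMap A B))
    (ComplexShape.up ℤ) 0).app N
  let e₂ := (HomologicalComplex.singleMapHomologicalComplex
    (G I B ⋙ ModuleCat.restrictScalars.{u} (algebraMap A B)) (ComplexShape.up ℤ) 0).app N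
  have e : (sgl A).map ((ηA I B).app N) = e₁.inv ≫ ηC I ((sgl B).obj N) ≫ e₂.hom := by
    apply HomologicalComplex.from_single_hom_ext
    simp [e₁, e₂, HomologicalComplex.single_map_f_self, HomologicalComplex.singleObjXSelf]
  rw [e, Functor.map_comp, Functor.map_comp]
  exact (cIso_of_isIso _).comp ((cIso_ηC I _).comp (cIso_of_isIso _))

end flat


section lam

variable (I : Ideal A)

/-- The completion functor. -/
noncomputable def Lam : ModuleCat.{u} A ⥤ ModuleCat.{u} A where
  obj M := ModuleCat.of A (AdicCompletion I M)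
  map g := ModuleCat.ofHom ((AdicCompletion.map I g.hom).restrictScalars A)
  map_id M := ModuleCat.hom_ext (LinearMap.ext fun x => congrArg (fun φ => φ x) (AdicCompletion.map_id I (M := M)))
  map_comp f g := ModuleCat.hom_ext (LinearMap.ext fun x =>
    congrArg (fun φ => φ x) (AdicCompletion.map_comp I f.hom g.hom).symm)

/-- The completion map. -/
noncomputable def ofN : 𝟭 (ModuleCat.{u} A) ⟶ Lam I where
  app M := ModuleCat.ofHom (AdicCompletion.of I M)
  naturality M N g := by ext x : 2; exact (AdicCompletion.map_of I g.hom x).symm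

variable {I}
variable {B : Type u} [CommRing B] [Algebra A B] {N : Type u} [AddCommGroup N] [Module A N] [Module B N]
  [IsScalarTower A B N]

/-- The level comparison. -/
noncomputable def levelEquiv (I : Ideal A) (N : Type u) [AddCommGroup N] [Module A N] [Module B N]
    [IsScalarTower A B N] (n : ℕ) :
    (N ⧸ (I ^ n • ⊤ : Submodule A N)) ≃+ (N ⧸ (I.map (algebraMap A B) ^ n • ⊤ : Submodule B N)) :=
  QuotientAddGroup.congr _ _ (AddEquiv.refl N) (by
    ext x
    simp only [AddSubgroup.mem_map]
    exact ⟨fun ⟨y, hy, h⟩ => h ▸ (mem_restrict_pow I n y).1 hy, fun h => ⟨x, (mem_restrict_pow I n x).2 h, rfl⟩⟩)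

theorem levelEquiv_mk (n : ℕ) (x : N) :
    levelEquiv (B := B) I N n (Submodule.Quotient.mk x) = Submodule.Quotient.mk x := rfl

theorem levelEquiv_transition {m n : ℕ} (h : m ≤ n) (z : N ⧸ (I ^ n • ⊤ : Submodule A N)) :
    AdicCompletion.transitionMap (I.map (algebraMap A B)) N h (levelEquiv (B := B) I N n z) =
      levelEquiv (B := B) I N m (AdicCompletion.transitionMap I N h z) := by
  obtain ⟨x, rfl⟩ := Submodule.Quotient.mk_surjective _ z
  rfl

/-- Completion for an extended ideal is completion. -/
theorem exists_complEquiv (I : Ideal A) (N : Type u) [AddCommGroup N] [Module A N] [Module B N]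
    [IsScalarTower A B N] : ∃ φ : AdicCompletion (I.map (algebraMap A B)) N →ₗ[A] AdicCompletion I N,
      Function.Bijective φ ∧ ∀ x : N, φ (AdicCompletion.of _ N x) = AdicCompletion.of I N x := by
  have hlin : ∀ (n : ℕ) (a : A) (z : N ⧸ (I.map (algebraMap A B) ^ n • ⊤ : Submodule B N)),
      (levelEquiv I N n).symm (a • z) = a • (levelEquiv I N n).symm z := fun n a z => by
    obtain ⟨x, rfl⟩ := Submodule.Quotient.mk_surjective _ z
    rfl
  let φ : AdicCompletion (I.map (algebraMap A B)) N →ₗ[A] AdicCompletion I N :=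
    { toFun := fun x => ⟨fun n => (levelEquiv I N n).symm (x.val n), fun {m n} h => by
        refine (levelEquiv (B := B) I N m).injective ?_
        rw [← levelEquiv_transition, AddEquiv.apply_symm_apply, AddEquiv.apply_symm_apply]
        exact x.2 h⟩
      map_add' := fun x y => AdicCompletion.ext fun n => map_add (levelEquiv I N n).symm (x.val n) (y.val n)
      map_smul' := fun a x => AdicCompletion.ext fun n => hlin n a (x.val n) }
  refine ⟨φ, ⟨fun x y h => AdicCompletion.ext fun n => (levelEquiv I N n).symm.injective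
    (congrArg (fun z : AdicCompletion I N => z.val n) h), fun y =>
      ⟨⟨fun n => levelEquiv I N n (y.val n), fun {m n} h => ?_⟩,
        AdicCompletion.ext fun n => AddEquiv.symm_apply_apply _ _⟩⟩, fun x => AdicCompletion.ext fun n => rfl⟩
  rw [levelEquiv_transition]
  exact congrArg _ (y.2 h)

/-- A finite module over a Noetherian `A`-algebra. -/
def FinAlg (N : ModuleCat.{u} A) : Prop :=
  ∃ (B : Type u) (_ : CommRing B) (_ : Algebra A B) (_ : IsNoetherianRing B) (N₀ : Type u) (_ : AddCommGroup N₀)
    (_ : Module A N₀) (_ : Module B N₀) (_ : IsScalarTower A B N₀) (_ : Module.Finite B N₀), Nonempty (N ≃ₗ[A] N₀)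

theorem finAlg_of_finite [IsNoetherianRing A] (M : Type u) [AddCommGroup M] [Module A M] [Module.Finite A M] :
    FinAlg (ModuleCat.of A M) :=
  ⟨A, inferInstance, inferInstance, inferInstance, M, inferInstance, inferInstance, inferInstance, inferInstance,
    inferInstance, ⟨LinearEquiv.refl A M⟩⟩

theorem FinAlg.loc {N : ModuleCat.{u} A} (h : FinAlg N) (f : A) :
    FinAlg ((DerCA.locFunctor (Submonoid.powers f)).obj N) := by
  obtain ⟨B, _, _, _, N₀, _, _, _, _, _, ⟨e⟩⟩ := h
  let g := algebraMap A B f
  let L := LocalizedModule (Submonoid.powers g) N₀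
  let μ : N₀ →ₗ[B] L := LocalizedModule.mkLinearMap (Submonoid.powers g) N₀
  haveI : IsLocalizedModule (Submonoid.powers f) (μ.restrictScalars A) :=
    IsLocalizedModule.restrictScalars_powers f μ
  haveI : Module.Finite (Localization (Submonoid.powers g)) L :=
    Module.Finite.of_isLocalizedModule (Submonoid.powers g) μ
  haveI : IsLocalizedModule (Submonoid.powers f) ((μ.restrictScalars A).comp e.toLinearMap) :=
    IsLocalizedModule.of_linearEquiv_right (Submonoid.powers f) (μ.restrictScalars A) e
  haveI : IsLocalizedModule (Submonoid.powers f) (LocalizedModule.mkLinearMap (Submonoid.powers f) N) :=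
    localizedModuleIsLocalizedModule (Submonoid.powers f)
  exact ⟨Localization (Submonoid.powers g), inferInstance, inferInstance, inferInstance, L, inferInstance,
    inferInstance, inferInstance, inferInstance, inferInstance,
    ⟨IsLocalizedModule.linearEquiv (Submonoid.powers f) (LocalizedModule.mkLinearMap (Submonoid.powers f) N)
      ((μ.restrictScalars A).comp e.toLinearMap)⟩⟩

variable [IsNoetherianRing A]

theorem cIso_ofN_of_finite (B : Type u) [CommRing B] [Algebra A B] [IsNoetherianRing B] (N : Type u)
    [AddCommGroup N] [Module A N] [Module B N] [IsScalarTower A B N] [Module.Finite B N] :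
    CIso I (DerivedCategory.Q.map ((sgl A).map ((ofN I).app (ModuleCat.of A N)))) := by
  let NB := ModuleCat.of B N
  let R := ModuleCat.restrictScalars.{u} (algebraMap A B)
  obtain ⟨φ, hφ, hφ'⟩ := exists_complEquiv (B := B) I N
  let a : ModuleCat.of A N ⟶ R.obj NB := ModuleCat.ofHom (Y := R.obj NB)
    { toFun := fun x => x
      map_add' := fun _ _ => rfl
      map_smul' := fun r x => (algebraMap_smul B r (x : N)).symm }
  haveI : IsIso a := (ConcreteCategory.isIso_iff_bijective _).2 ⟨fun _ _ h => h, fun x => ⟨x, rfl⟩⟩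
  let o := AdicCompletion.ofTensorProductEquivOfFiniteNoetherian (I.map (algebraMap A B)) N
  let b : R.obj ((G I B).obj NB) ⟶ (Lam I).obj (ModuleCat.of A N) := ModuleCat.ofHom (X := R.obj ((G I B).obj NB))
    { toFun := fun x => φ (o x)
      map_add' := fun x y => (congrArg φ (map_add o x y)).trans (map_add φ _ _)
      map_smul' := fun r x => by
        refine (congrArg φ ((o.toLinearMap.restrictScalars B).map_smul (algebraMap A B r) x)).trans ?_
        rw [algebraMap_smul, map_smul]
        rfl }
  haveI : IsIso b := (ConcreteCategory.isIso_iff_bijective _).2 (hφ.comp o.bijective)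
  have e : (ofN I).app (ModuleCat.of A N) = a ≫ (ηA I B).app NB ≫ b := by
    ext x : 2
    refine (hφ' x).symm.trans (congrArg φ ?_ : φ _ = φ (o ((1 : Bh I B) ⊗ₜ[B] x)))
    rw [AdicCompletion.ofTensorProductEquivOfFiniteNoetherian_apply, AdicCompletion.ofTensorProduct_tmul, one_smul]
  rw [e, Functor.map_comp, Functor.map_comp, Functor.map_comp, Functor.map_comp]
  exact (cIso_of_isIso _).comp ((cIso_ηA I NB).comp (cIso_of_isIso _))

theorem cIso_ofN {N : ModuleCat.{u} A} (h : FinAlg N) :
    CIso I (DerivedCategory.Q.map ((sgl A).map ((ofN I).app N))) := by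
  obtain ⟨B, _, _, _, N₀, _, _, _, _, _, ⟨e⟩⟩ := h
  let e' : N ≅ ModuleCat.of A N₀ := e.toModuleIso
  have h' := (ofN I).naturality e'.hom
  have e₁ : (ofN I).app N = e'.hom ≫ (ofN I).app (ModuleCat.of A N₀) ≫ (Lam I).map e'.inv := by
    rw [← Category.assoc, show e'.hom ≫ (ofN I).app (ModuleCat.of A N₀) = (ofN I).app N ≫ (Lam I).map e'.hom from h',
      Category.assoc, ← Functor.map_comp, e'.hom_inv_id]
    erw [(Lam I).map_id, Category.comp_id]
  rw [e₁, Functor.map_comp, Functor.map_comp, Functor.map_comp, Functor.map_comp]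
  exact (cIso_of_isIso _).comp ((cIso_ofN_of_finite B N₀).comp (cIso_of_isIso _))

end lam

end Groth.Agent.CAlgH3.RGam.Lam
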