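import Groth.Agent.CAlgH3.RGam.CechModel
import Groth.Agent.CAlgH3.RGam.LambdaFlat
import Groth.Agent.DCat.DCompletionMap

/-!
The Čech complex with completed coefficients is the derived completion of the Čech complex.
-/

set_option autoImplicit false
set_option backward.isDefEq.respectTransparency false
set_option backward.isDefEq.respectTransparency.types false
set_option backward.defeqAttrib.useBackward true
set_option linter.style.haveILetI false

universe u

open CategoryTheory CategoryTheory.Limits CategoryTheory.Pretriangulated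
open Groth.Agent.CAlgH3.ExtCech

attribute [local instance] HasDerivedCategory.standard

namespace Groth.Agent.CAlgH3.RGam

open Groth.Agent.DCat Groth.Agent.DCat.DC

variable {A : Type u} [CommRing A] {I : Ideal A}

theorem CIso.shift {X Y : Dual.D A} {φ : X ⟶ Y} (h : CIso I φ) (k : ℤ) : CIso I (φ⟦k⟧') :=
  fun _ hL => h.bijective_shift k hL

/-- Two out of three. -/
theorem CIso.mid {T T' : Triangle (Dual.D A)} (hT : T ∈ distTriang _) (hT' : T' ∈ distTriang _) (α : T ⟶ T')
    (h1 : CIso I α.hom₁) (h3 : CIso I α.hom₃) : CIso I α.hom₂ := by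
  intro L hL
  constructor
  · refine (injective_iff_map_eq_zero (Preadditive.leftComp L α.hom₂)).2 fun ψ (hψ : α.hom₂ ≫ ψ = 0) => ?_
    have e1 : T'.mor₁ ≫ ψ = 0 := (h1 L hL).1 (show α.hom₁ ≫ T'.mor₁ ≫ ψ = α.hom₁ ≫ 0 by
      rw [← α.comm₁_assoc, hψ, comp_zero, comp_zero])
    obtain ⟨θ, rfl⟩ := Triangle.yoneda_exact₂ _ hT' ψ e1
    have e2 : T.mor₂ ≫ α.hom₃ ≫ θ = 0 := by rw [α.comm₂_assoc]; exact hψ
    obtain ⟨η, hη⟩ := Triangle.yoneda_exact₂ _ (rot_of_distTriang _ hT) (α.hom₃ ≫ θ) e2
    obtain ⟨η', rfl⟩ := (h1.bijective_shift 1 hL).2 η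
    dsimp at hη
    rw [α.comm₃_assoc] at hη
    rw [(h3 L hL).1 hη, ← Category.assoc, comp_distTriang_mor_zero₂₃ _ hT', zero_comp]
  · intro ψ
    obtain ⟨a, ha⟩ := (h1 L hL).2 (T.mor₁ ≫ ψ)
    dsimp only at ha
    have e : T'.invRotate.mor₁ ≫ a = 0 := ((h3.shift (-1)) L hL).1 (by
      have c := ((invRotate (Dual.D A)).map α).comm₁
      dsimp at c ⊢
      rw [← reassoc_of% c, ha, ← Category.assoc, comp_zero]
      erw [comp_distTriang_mor_zero₁₂ _ (inv_rot_of_distTriang _ hT)]
      rw [zero_comp])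
    obtain ⟨b, hb⟩ : ∃ b : T'.obj₂ ⟶ L, a = T'.mor₁ ≫ b :=
      Triangle.yoneda_exact₂ _ (inv_rot_of_distTriang _ hT') a e
    obtain ⟨θ, hθ⟩ := Triangle.yoneda_exact₂ _ hT (ψ - α.hom₂ ≫ b) (by
      rw [Preadditive.comp_sub, α.comm₁_assoc, ← ha, hb, sub_self])
    obtain ⟨θ', rfl⟩ := (h3 L hL).2 θ
    refine ⟨b + T'.mor₂ ≫ θ', ?_⟩
    dsimp only at hθ ⊢
    rw [Preadditive.comp_add, ← α.comm₂_assoc, ← hθ, add_sub_cancel]

/-- The completion of a cocone. -/
theorem cIso_coconeMap {K K' L L' : DRing.Cx A} (φ : K ⟶ L) (φ' : K' ⟶ L') (a : K ⟶ K') (b : L ⟶ L')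
    (comm : φ ≫ b = a ≫ φ') (ha : CIso I (DerivedCategory.Q.map a)) (hb : CIso I (DerivedCategory.Q.map b)) :
    CIso I (DerivedCategory.Q.map (coconeMap φ φ' a b comm)) := by
  have hc : ∀ {K L : DRing.Cx A} (ψ : K ⟶ L),
      DerivedCategory.Q.mapTriangle.obj (CochainComplex.mappingCone.triangle ψ) ∈ distTriang (Dual.D A) :=
    fun ψ => (DerivedCategory.mem_distTriang_iff _).2 ⟨_, _, ψ, ⟨Iso.refl _⟩⟩
  let α := (Pretriangulated.rotate (Dual.D A)).map
    (DerivedCategory.Q.mapTriangle.map (CochainComplex.mappingCone.triangleMap φ φ' a b comm))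
  have hm : CIso I α.hom₂ := CIso.mid (rot_of_distTriang _ (hc φ)) (rot_of_distTriang _ (hc φ')) α hb (ha.shift 1)
  have h := DerivedCategory.Q.commShiftIso (-1 : ℤ) |>.hom.naturality (CochainComplex.mappingCone.map φ φ' a b comm)
  refine CIso.of_comp_right (cIso_of_isIso ((DerivedCategory.Q.commShiftIso (-1 : ℤ)).hom.app _)) ?_
  erw [h]
  exact (cIso_of_isIso _).comp (hm.shift (-1))

theorem isDerivedComplete_of_iso {X Y : Dual.D A} (e : X ≅ Y) (h : DRing.IsDerivedComplete I X) :
    DRing.IsDerivedComplete I Y := fun f hf n => by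
  haveI := h f hf n
  exact Function.Injective.subsingleton (f := fun φ : Dual.inD A (Localization.Away f) ⟶ Y⟦n⟧ => φ ≫ e.inv⟦n⟧')
    fun a b hab => (cancel_mono (e.inv⟦n⟧')).1 hab

theorem isDerivedComplete_cocone {K L : DRing.Cx A} (φ : K ⟶ L)
    (hK : DRing.IsDerivedComplete I (DerivedCategory.Q.obj K))
    (hL : DRing.IsDerivedComplete I (DerivedCategory.Q.obj L)) :
    DRing.IsDerivedComplete I (DerivedCategory.Q.obj (CochainComplex.mappingCocone φ)) := by
  have h := isDerivedComplete_obj₃ (T := DerivedCategory.Q.mapTriangle.obj (CochainComplex.mappingCone.triangle φ))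
    ((DerivedCategory.mem_distTriang_iff _).2 ⟨_, _, φ, ⟨Iso.refl _⟩⟩) hK hL
  exact isDerivedComplete_of_iso ((DerivedCategory.Q.commShiftIso (-1 : ℤ)).app _).symm (isDerivedComplete_shift h (-1))

namespace Lam

variable (I)

/-- Reduction modulo `I ^ n`. -/
noncomputable def Qn (n : ℕ) : ModuleCat.{u} A ⥤ ModuleCat.{u} A where
  obj M := ModuleCat.of A (M ⧸ (I ^ n • ⊤ : Submodule A M))
  map g := ModuleCat.ofHom (Submodule.mapQ _ _ g.hom (Submodule.smul_top_le_comap_smul_top _ g.hom))
  map_id M := ModuleCat.hom_ext (Submodule.linearMap_qext _ rfl)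
  map_comp f g := ModuleCat.hom_ext (Submodule.linearMap_qext _ rfl)

/-- The quotient map. -/
noncomputable def mkN (n : ℕ) : 𝟭 (ModuleCat.{u} A) ⟶ Qn I n where
  app M := ModuleCat.ofHom (Submodule.mkQ _)
  naturality M N g := rfl

/-- The transition maps. -/
noncomputable def tr (n : ℕ) : Qn I (n + 1) ⟶ Qn I n where
  app M := ModuleCat.ofHom (Submodule.mapQ _ _ LinearMap.id
    (Submodule.smul_mono (Ideal.pow_le_pow_right (Nat.le_succ n)) le_rfl))
  naturality M N g := ModuleCat.hom_ext (Submodule.linearMap_qext _ rfl)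

/-- The product of all the reductions. -/
noncomputable def PiQ : ModuleCat.{u} A ⥤ ModuleCat.{u} A where
  obj M := ModuleCat.of A (∀ n, (Qn I n).obj M)
  map g := ModuleCat.ofHom (LinearMap.pi fun n => ((Qn I n).map g).hom ∘ₗ LinearMap.proj n)
  map_id M := ModuleCat.hom_ext (LinearMap.ext fun x => funext fun n =>
    congrArg (fun φ => φ.hom (x n)) ((Qn I n).map_id M))
  map_comp f g := ModuleCat.hom_ext (LinearMap.ext fun x => funext fun n =>
    congrArg (fun φ => φ.hom (x n)) ((Qn I n).map_comp f g))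

/-- The projection. -/
noncomputable def prj (n : ℕ) : PiQ I ⟶ Qn I n where
  app M := ModuleCat.ofHom (LinearMap.proj n)
  naturality M N g := rfl

/-- The completion inside the product. -/
noncomputable def incl : Lam I ⟶ PiQ I where
  app M := ModuleCat.ofHom (LinearMap.pi fun n => AdicCompletion.eval I M n)
  naturality M N g := ModuleCat.hom_ext (LinearMap.ext fun x => funext fun n =>
    AdicCompletion.map_val_apply I g.hom x)

/-- The difference map. -/
noncomputable def δ : PiQ I ⟶ PiQ I where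
  app M := ModuleCat.ofHom (LinearMap.pi fun n =>
    (LinearMap.proj n : (∀ k, (Qn I k).obj M) →ₗ[A] (Qn I n).obj M) -
      ((tr I n).app M).hom ∘ₗ (LinearMap.proj (n + 1) : (∀ k, (Qn I k).obj M) →ₗ[A] (Qn I (n + 1)).obj M))
  naturality M N g := ModuleCat.hom_ext (LinearMap.ext fun x => funext fun n => by
    have h := congrArg (fun φ => φ.hom (x (n + 1))) ((tr I n).naturality g)
    refine Eq.trans ?_ (map_sub ((Qn I n).map g).hom (x n) (((tr I n).app M).hom (x (n + 1)))).symm
    exact congrArg (((Qn I n).map g).hom (x n) - ·) h)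

theorem δ_apply (M : ModuleCat.{u} A) (x : (PiQ I).obj M) (n : ℕ) :
    ((δ I).app M).hom x n = x n - ((tr I n).app M).hom (x (n + 1)) := rfl

theorem injective_incl (M : ModuleCat.{u} A) : Function.Injective ((incl I).app M).hom := fun x y h =>
  AdicCompletion.ext fun n => congrFun h n

theorem exact_incl_δ (M : ModuleCat.{u} A) : Function.Exact ((incl I).app M).hom ((δ I).app M).hom := fun x => by
  constructor
  · intro hx
    have h1 : ∀ n, ((tr I n).app M).hom (x (n + 1)) = x n := fun n => (sub_eq_zero.1 (congrFun hx n)).symm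
    refine ⟨⟨fun n => x n, fun {m n} hmn => ?_⟩, rfl⟩
    induction hmn with
    | refl =>
      obtain ⟨z, hz⟩ := Submodule.Quotient.mk_surjective _ (x m)
      show AdicCompletion.transitionMap I M (le_refl m) (x m) = x m
      rw [← hz]; rfl
    | @step k hmk ih =>
      refine Eq.trans ?_ ih
      obtain ⟨z, hz⟩ := Submodule.Quotient.mk_surjective _ (x (k + 1))
      show AdicCompletion.transitionMap I M (Nat.le_succ_of_le hmk) (x (k + 1)) =
        AdicCompletion.transitionMap I M hmk (x k)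
      rw [show x k = ((tr I k).app M).hom (x (k + 1)) from (h1 k).symm, ← hz]
      rfl
  · rintro ⟨y, rfl⟩
    exact funext fun n => sub_eq_zero.2 (y.2 (Nat.le_succ n)).symm

theorem surjective_δ (M : ModuleCat.{u} A) : Function.Surjective ((δ I).app M).hom := fun y => by
  have hs : ∀ n, Function.Surjective ((tr I n).app M).hom := fun n z => by
    obtain ⟨z, rfl⟩ := Submodule.Quotient.mk_surjective _ z
    exact ⟨Submodule.Quotient.mk z, rfl⟩
  let x : ∀ n, (Qn I n).obj M := fun n => Nat.rec 0 (fun k v => (hs k (v - y k)).choose) n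
  exact ⟨x, funext fun n => by
    rw [δ_apply, show ((tr I n).app M).hom (x (n + 1)) = x n - y n from (hs n (x n - y n)).choose_spec,
      sub_sub_cancel]⟩

variable {I}

theorem modDC_killed {N : Type u} [AddCommGroup N] [Module A N] {n : ℕ}
    (h : ∀ a ∈ I ^ n, ∀ x : N, a • x = 0) : ModDC I N := fun f hf => comp_of
  (fun x hx => by
    have e : ∀ k, x 0 = f ^ k • x k := fun k => by
      induction k with
      | zero => simp
      | succ k ih => rw [ih, pow_succ, mul_smul, hx k]; rfl
    rw [e n, h _ (Ideal.pow_mem_pow hf n)])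
  fun y => ⟨fun m => ∑ k ∈ Finset.range n, f ^ k • y (m + k), fun m => by
    simp only [sm, DistribSMul.toAddMonoidHom_apply]
    rw [Finset.smul_sum]
    have e : ∀ k, f • f ^ k • y (m + 1 + k) = f ^ (k + 1) • y (m + (k + 1)) := fun k => by
      rw [smul_smul, ← pow_succ', add_assoc, add_comm 1 k]
    simp only [e]
    rw [← Finset.sum_sub_distrib, Finset.sum_range_sub' (fun k => f ^ k • y (m + k)), pow_zero, one_smul,
      h _ (Ideal.pow_mem_pow hf n), sub_zero, add_zero]⟩

theorem modDC_Qn (n : ℕ) (M : ModuleCat.{u} A) : ModDC I ((Qn I n).obj M) :=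
  modDC_killed (n := n) fun a ha x => by
    obtain ⟨x, rfl⟩ := Submodule.Quotient.mk_surjective _ x
    exact (Submodule.Quotient.mk_eq_zero _).2 (Submodule.smul_mem_smul ha Submodule.mem_top)

theorem modDC_PiQ (M : ModuleCat.{u} A) : ModDC I ((PiQ I).obj M) := fun f hf =>
  comp_pi (fun n => sm ((Qn I n).obj M) f) (fun n => modDC_Qn n M f hf) _ fun _ _ => rfl

theorem modDC_Lam (M : ModuleCat.{u} A) : ModDC I ((Lam I).obj M) :=
  (ModDC.ker (modDC_PiQ M) (modDC_PiQ M) ((δ I).app M).hom).of_equiv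
    ((LinearEquiv.ofEq _ _ (LinearMap.exact_iff.1 (exact_incl_δ I M))).trans
      (LinearEquiv.ofInjective _ (injective_incl I M)).symm)

end Lam

namespace CechF

open Lam

variable [IsNoetherianRing A]

/-- The completed Čech complex, up to completion. -/
theorem cIso_cN : ∀ (t : List A) (M : ModuleCat.{u} A), FinAlg M →
    CIso I (DerivedCategory.Q.map ((cN (ofN I) t).app M))
  | [], M, hM => cIso_ofN hM
  | f :: t, M, hM => cIso_coconeMap (step f t (𝟭 _) M) (step f t (Lam I) M) _ _ _
      (cIso_cN t M hM) (cIso_cN t _ (hM.loc f))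

theorem isDerivedComplete_C : ∀ (t : List A) (M : ModuleCat.{u} A),
    DRing.IsDerivedComplete I (DerivedCategory.Q.obj ((C t (Lam I)).obj M))
  | [], M => isDerivedComplete_of_iso
      (((SingleFunctors.evaluation _ _ 0).mapIso
        (DerivedCategory.singleFunctorsPostcompQIso (ModuleCat.{u} A))).app ((Lam I).obj M))
      ((isDerivedComplete_inD_iff _).2 (modDC_Lam M))
  | f :: t, M => isDerivedComplete_cocone (step f t (Lam I) M) (isDerivedComplete_C t M) (isDerivedComplete_C t _)

/-- It is the derived completion. -/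
theorem isCompl_cN (t : List A) (M : ModuleCat.{u} A) (hM : FinAlg M) :
    IsCompl I (DerivedCategory.Q.map ((cN (ofN I) t).app M)) :=
  ⟨isDerivedComplete_C t M, cIso_cN t M hM⟩

end CechF

end Groth.Agent.CAlgH3.RGam
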