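import Groth.Agent.CAlgH3.RGam.RHomBridge
import Groth.Agent.DualLib.ResidueHom
import Groth.Agent.CechExt.Basic

/-!
Derived completion is `RHom(Č, -)` for a finitely generated ideal of an arbitrary ring.
-/

set_option autoImplicit false
set_option backward.isDefEq.respectTransparency false
set_option backward.defeqAttrib.useBackward true
set_option linter.style.haveILetI false

universe u

open CategoryTheory CategoryTheory.Limits CategoryTheory.Pretriangulated HomologicalComplex
open Groth.Agent.CAlgH3.ExtCech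

attribute [local instance] HasDerivedCategory.standard

namespace Groth.Agent.CAlgH3.RGam

open Groth.Agent.DCat Groth.Agent.DCat.DC

variable {A : Type u} [CommRing A]

/-- Torsion cohomology does not map to objects on which `g` is invertible. -/
theorem eq_zero_of_gTors_finv {g : A} {Y : DRing.Cx A} (hY : CechExt.Tors g Y) {W : Dual.D A} (hW : FInv g W)
    (φ : DerivedCategory.Q.obj Y ⟶ W) : φ = 0 := by
  obtain ⟨I, hI, ⟨e⟩⟩ := exists_kInj_obj W
  haveI := hI
  let S := Submonoid.powers g
  have hbij : ∀ i : ℤ, Function.Bijective fun x : I.homology i => g • x := fun i => by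
    haveI : IsIso (g • 𝟙 (DerivedCategory.Q.obj I)) := finv_of_iso e.symm hW
    have h : Function.Bijective ((DerivedCategory.homologyFunctor (ModuleCat.{u} A) i).map
        (g • 𝟙 (DerivedCategory.Q.obj I))).hom := (ConcreteCategory.isIso_iff_bijective _).1 inferInstance
    rw [homologyFunctor_map_smul_id] at h
    have h' : Function.Bijective fun x : Dual.HD A (DerivedCategory.Q.obj I) i => g • x := h
    let d := hdQ I i
    refine ⟨fun x y hxy => d.symm.injective (h'.1 ?_), fun y => ?_⟩
    · show g • d.symm x = g • d.symm y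
      rw [← map_smul, ← map_smul]; exact congrArg d.symm hxy
    · obtain ⟨x, hx⟩ := h'.2 (d.symm y)
      exact ⟨d x, by
        show g • d x = y
        rw [← map_smul]; exact (congrArg d hx).trans (d.apply_symm_apply y)⟩
  have hpow : ∀ (n : ℕ) (i : ℤ), Function.Bijective fun x : I.homology i => g ^ n • x := fun n i => by
    induction n with
    | zero =>
      have e' : (fun x : I.homology i => g ^ 0 • x) = id := funext fun x => by simp
      rw [e']; exact Function.bijective_id
    | succ n ih =>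
      have e' : (fun x : I.homology i => g ^ (n + 1) • x) = (fun x => g ^ n • x) ∘ (fun x => g • x) :=
        funext fun x => by rw [pow_succ, mul_smul]; rfl
      rw [e']; exact ih.comp (hbij i)
  let μ := DerCA.locCxUnit S I
  haveI : QuasiIso μ := by
    rw [quasiIso_iff]
    intro q
    refine quasiIsoAt_of_elements μ (q - 1) q (q + 1) (by simp) (by simp) (fun z hz => ?_) (fun w hw hy => ?_)
    · change (((DerCA.locCx S).obj I).d q (q + 1)).hom z = 0 at hz
      obtain ⟨x, n, hx⟩ := exists_loc g I q z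
      have h := congrArg (((DerCA.locCx S).obj I).d q (q + 1)).hom hx
      rw [map_smul, hz, smul_zero, locUnit_d] at h
      obtain ⟨m, hm⟩ := (locUnit_eq_zero g I (q + 1) _).1 h.symm
      let c : LinearMap.ker (I.d q (q + 1)).hom := ⟨g ^ m • x, by
        rw [LinearMap.mem_ker, map_smul, hm]⟩
      obtain ⟨v, hv⟩ := (hpow (m + n) q).2 (cl I q c)
      obtain ⟨w, rfl⟩ := cl_surjective I q v
      dsimp only at hv
      rw [← map_smul, ← sub_eq_zero, ← map_sub, cl_eq_zero_iff] at hv
      obtain ⟨y, hy⟩ := hv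
      obtain ⟨y', hy'⟩ := smul_pow_surjective g I (q - 1) (m + n) ((μ.f (q - 1)).hom y)
      dsimp only at hy'
      refine ⟨w.1, w.2, y', smul_pow_injective g I q (m + n) ?_⟩
      show g ^ (m + n) • ((μ.f q).hom w.1 - z) =
        g ^ (m + n) • (((DerCA.locCx S).obj I).d (q - 1) q).hom y'
      rw [← map_smul, hy', locUnit_d, hy, smul_sub]
      show _ = (μ.f q).hom (g ^ (m + n) • w.1 - g ^ m • x)
      rw [map_sub, map_smul, map_smul, ← hx, ← mul_smul, ← pow_add]
    · obtain ⟨y, hy⟩ := hy
      obtain ⟨x, n, hx⟩ := exists_loc g I (q - 1) y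
      have h := congrArg (((DerCA.locCx S).obj I).d (q - 1) q).hom hx
      rw [map_smul, locUnit_d] at h
      change (μ.f q).hom w = (((DerCA.locCx S).obj I).d (q - 1) q).hom y at hy
      rw [← hy, ← map_smul, ← sub_eq_zero, ← map_sub] at h
      obtain ⟨m, hm⟩ := (locUnit_eq_zero g I q _).1 h
      rw [smul_sub, sub_eq_zero, ← mul_smul, ← pow_add, ← map_smul] at hm
      have h0 : cl I q ⟨w, hw⟩ = 0 := (hpow (m + n) q).1 (by
        show g ^ (m + n) • cl I q _ = g ^ (m + n) • 0
        rw [smul_zero, ← map_smul, cl_eq_zero_iff]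
        exact ⟨g ^ m • x, hm.symm⟩)
      obtain ⟨x', hx'⟩ := (cl_eq_zero_iff I q _).1 h0
      exact ⟨x', hx'⟩
  haveI : IsIso (DerivedCategory.Q.map μ) := isIso_Q_map_of_qis μ
  obtain ⟨f, hf⟩ := Q_map_surjective (φ ≫ e.inv)
  have hac : ((DerCA.locCx S).obj Y).Acyclic := fun q => by
    rw [HomologicalComplex.exactAt_iff' _ (q - 1) q (q + 1) (by simp) (by simp), ShortComplex.moduleCat_exact_iff]
    intro z hz
    change (((DerCA.locCx S).obj Y).d q (q + 1)).hom z = 0 at hz
    obtain ⟨x, n, hx⟩ := exists_loc g Y q z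
    have h := congrArg (((DerCA.locCx S).obj Y).d q (q + 1)).hom hx
    rw [map_smul, hz, smul_zero, locUnit_d] at h
    obtain ⟨m, hm⟩ := (locUnit_eq_zero g Y (q + 1) _).1 h.symm
    obtain ⟨k, y, hy⟩ := hY (q - 1) q (q + 1) (by omega) rfl (g ^ m • x) (by rw [map_smul, hm])
    obtain ⟨y', hy'⟩ := smul_pow_surjective g Y (q - 1) (k + m + n) (((DerCA.locCxUnit S Y).f (q - 1)).hom y)
    dsimp only at hy'
    refine ⟨y', smul_pow_injective g Y q (k + m + n) ?_⟩
    show g ^ (k + m + n) • (((DerCA.locCx S).obj Y).d (q - 1) q).hom y' = g ^ (k + m + n) • z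
    rw [← map_smul, hy', locUnit_d, hy, map_smul, map_smul, ← hx, ← mul_smul, ← mul_smul, ← pow_add, ← pow_add,
      add_assoc]
  have hz : IsZero (DerivedCategory.Q.obj ((DerCA.locCx S).obj Y)) := by
    haveI : QuasiIso (0 : (DerCA.locCx S).obj Y ⟶ (DerCA.locCx S).obj Y) :=
      ⟨fun i => (quasiIsoAt_iff_exactAt _ i (hac i)).2 (hac i)⟩
    have h0 := isIso_Q_map_of_qis (0 : (DerCA.locCx S).obj Y ⟶ (DerCA.locCx S).obj Y)
    rw [Functor.map_zero] at h0
    rw [IsZero.iff_id_eq_zero]
    exact (@IsIso.hom_inv_id _ _ _ _ _ h0).symm.trans zero_comp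
  have hsq : f ≫ μ = DerCA.locCxUnit S Y ≫ (DerCA.locCx S).map f := by
    refine HomologicalComplex.hom_ext _ _ fun i => ?_
    exact (DerCA.locUnit S).naturality (f.f i)
  have h1 : DerivedCategory.Q.map f ≫ DerivedCategory.Q.map μ = 0 := by
    rw [← Functor.map_comp, hsq, Functor.map_comp, hz.eq_of_src (DerivedCategory.Q.map ((DerCA.locCx S).map f)) 0,
      comp_zero]
  have h2 : φ ≫ e.inv = 0 := by rw [← hf, ← cancel_mono (DerivedCategory.Q.map μ), h1, zero_comp]
  rw [← cancel_mono e.inv, h2, zero_comp]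

section

variable [DTen.HasLTen A]

theorem finv_tensor_right {f : A} (X : Dual.D A) {Y : Dual.D A} (h : FInv f Y) : FInv f (Tn X Y) :=
  haveI := isIso_symm_app' X Y
  finv_of_iso (asIso ((DTen.symm A).app (X, Y))) (finv_tensor_left h X)

variable [DTen.HasRHom A]

theorem finv_RHomR_source {f : A} {L : Dual.D A} (h : FInv f L) (M : Dual.D A) :
    FInv f ((DTen.RHomR A L).obj M) := by
  show IsIso (f • 𝟙 ((DTen.RHomR A L).obj M))
  rw [isIso_iff_yoneda_map_bijective]
  intro X
  let e := ((DTen.rhomAdj A L).homEquiv X M).symm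
  haveI : IsIso (f • 𝟙 (Tn X L)) := finv_tensor_right X h
  have hc : ∀ g : X ⟶ (DTen.RHomR A L).obj M, e (g ≫ (f • 𝟙 _)) = (f • 𝟙 (Tn X L)) ≫ e g := fun g => by
    simp only [e, Adjunction.homEquiv_counit, Linear.comp_smul, Category.comp_id]
    rw [Linear.smul_comp, Category.id_comp]
    exact (congrArg (· ≫ _) (tm_smul_left f g)).trans (Linear.smul_comp _ _ _ f _ _)
  refine ⟨fun a b hab => e.injective ((cancel_epi (f • 𝟙 (Tn X L))).1 ?_), fun y => ?_⟩
  · rw [← hc, ← hc]; exact congrArg e hab
  · exact ⟨e.symm (inv (f • 𝟙 (Tn X L)) ≫ e y), e.injective (by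
      rw [hc, Equiv.apply_symm_apply, IsIso.hom_inv_id_assoc])⟩

theorem isDerivedComplete_RHomR_of_gTors {I : Ideal A} (gs : Set A) (hgs : Ideal.span gs = I) {Y : DRing.Cx A}
    (hY : ∀ g ∈ gs, CechExt.Tors g Y) (K : Dual.D A) :
    DRing.IsDerivedComplete I ((DTen.RHomR A (DerivedCategory.Q.obj Y)).obj K) :=
  isDerivedComplete_of_generators gs hgs _ fun g hg n φ => by
    let Z : Dual.D A := (Dual.inD A (Localization.Away g))⟦n⟧
    have hZ : FInv g Z := finv_away.shift n
    haveI := isIso_symm_app' Z (DerivedCategory.Q.obj Y)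
    have key : ∀ χ : Tn Z (DerivedCategory.Q.obj Y) ⟶ K, χ = 0 := fun χ => by
      rw [← cancel_epi ((DTen.symm A).app (Z, DerivedCategory.Q.obj Y)), comp_zero]
      refine ((DTen.rhomAdj A Z).homEquiv _ K).injective ?_
      exact (eq_zero_of_gTors_finv (hY g hg) (finv_RHomR_source hZ K) _).trans
        (eq_zero_of_gTors_finv (hY g hg) (finv_RHomR_source hZ K) _).symm
    exact ((DTen.rhomAdj A (DerivedCategory.Q.obj Y)).homEquiv _ K).symm.injective ((key _).trans (key _).symm)

theorem finv_locCx (f : A) (K : DRing.Cx A) :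
    FInv f (DerivedCategory.Q.obj ((DerCA.locCx (Submonoid.powers f)).obj K)) := by
  show IsIso (f • 𝟙 (DerivedCategory.Q.obj ((DerCA.locCx (Submonoid.powers f)).obj K)))
  haveI : ∀ q, IsIso ((f • 𝟙 ((DerCA.locCx (Submonoid.powers f)).obj K) :
      (DerCA.locCx (Submonoid.powers f)).obj K ⟶ _).f q) := fun q =>
    (ConcreteCategory.isIso_iff_bijective _).2 ((Module.End.isUnit_iff _).1
      (IsLocalizedModule.map_units (LocalizedModule.mkLinearMap (Submonoid.powers f) (K.X q))
        (⟨f, Submonoid.mem_powers f⟩ : Submonoid.powers f)))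
  haveI := HomologicalComplex.Hom.isIso_of_components (f • 𝟙 ((DerCA.locCx (Submonoid.powers f)).obj K))
  rw [← DerivedCategory.Q.map_id, ← DerivedCategory.Q.map_smul]
  infer_instance

/-- The augmentation of the extended Čech complex. -/
noncomputable def extAug (M : ModuleCat.{u} A) : ∀ fs : List A,
    DerCA.extCech M fs ⟶ (HomologicalComplex.single (ModuleCat.{u} A) (ComplexShape.up ℤ) 0).obj M
  | [] => 𝟙 _
  | f :: fs => CochainComplex.mappingCocone.fst (DerCA.locCxUnit (Submonoid.powers f) (DerCA.extCech M fs)) ≫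
      extAug M fs

theorem cIso_RHom_extAug {I : Ideal A} (M : ModuleCat.{u} A) (K : Dual.D A) : ∀ fs : List A, (∀ g ∈ fs, g ∈ I) →
    CIso I (DTen.RHomMap (DerivedCategory.Q.map (extAug M fs)) K)
  | [], _ => by
    haveI : IsIso (extAug M ([] : List A)) := inferInstanceAs (IsIso (𝟙 _))
    haveI : IsIso (DTen.RHomMap (DerivedCategory.Q.map (extAug M ([] : List A))) K) :=
      inferInstanceAs (IsIso (((DTen.RHom A).map (DerivedCategory.Q.map (extAug M ([] : List A))).op).app K))
    exact cIso_of_isIso _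
  | f :: fs, h => by
    let ψ := DerCA.locCxUnit (Submonoid.powers f) (DerCA.extCech M fs)
    obtain ⟨δ, hδ⟩ := mapsTriOp_RHom K _ (distinguished_cocone ψ)
    have h1 : CIso I (DTen.RHomMap (DerivedCategory.Q.map (CochainComplex.mappingCocone.fst ψ)) K) :=
      cIso_of_finv (T := (Triangle.mk _ _ δ).rotate) (h f List.mem_cons_self) (rot_of_distTriang _ hδ)
        ((finv_RHomR_source (finv_locCx f (DerCA.extCech M fs)) K).shift 1)
    have e : DTen.RHomMap (DerivedCategory.Q.map (extAug M (f :: fs))) K =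
        DTen.RHomMap (DerivedCategory.Q.map (extAug M fs)) K ≫
          DTen.RHomMap (DerivedCategory.Q.map (CochainComplex.mappingCocone.fst ψ)) K := by
      show ((DTen.RHom A).map (DerivedCategory.Q.map
        (CochainComplex.mappingCocone.fst ψ ≫ extAug M fs)).op).app K = _
      rw [Functor.map_comp, op_comp, Functor.map_comp]
      rfl
    rw [e]
    exact (cIso_RHom_extAug M K fs fun g hg => h g (List.mem_cons_of_mem _ hg)).comp h1

/-- Derived completion is `RHom(Č, -)`. -/
theorem nonempty_completion_iso_RHomR [DTen.HasLTen₃ A] (fs : List A) (I : Ideal A)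
    (hI : Ideal.span {x : A | x ∈ fs} = I) [DRing.HasDerivedCompletion I] (K : Dual.D A) :
    Nonempty (((DRing.derivedCompletion I).obj K).obj ≅
      (DTen.RHomR A (DerivedCategory.Q.obj (DerCA.extCech (ModuleCat.of A A) fs))).obj K) := by
  haveI := DualLib.isSymMonoidal (A := A)
  let C := DerCA.extCech (ModuleCat.of A A) fs
  let i0 : DTen.unit A ≅
      DerivedCategory.Q.obj ((HomologicalComplex.single (ModuleCat.{u} A) (ComplexShape.up ℤ) 0).obj (ModuleCat.of A A)) :=
    Iso.refl _
  let q : K ⟶ (DTen.RHomR A (DerivedCategory.Q.obj C)).obj K :=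
    (DualLib.rhomUnit K).inv ≫ DTen.RHomMap (DerivedCategory.Q.map (extAug (ModuleCat.of A A) fs) ≫ i0.inv) K
  have hs : ∀ g ∈ fs, g ∈ I := fun g hg => hI ▸ Ideal.subset_span hg
  have hq : IsCompl I q := by
    refine ⟨isDerivedComplete_RHomR_of_gTors _ hI (fun g hg => CechExt.tors_extCech _ fs g hg) K,
      (cIso_of_isIso _).comp ?_⟩
    show CIso I (((DTen.RHom A).map (DerivedCategory.Q.map (extAug (ModuleCat.of A A) fs) ≫ i0.inv).op).app K)
    rw [op_comp, Functor.map_comp, NatTrans.comp_app]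
    exact (cIso_of_isIso _).comp (cIso_RHom_extAug (ModuleCat.of A A) K fs hs)
  obtain ⟨e, -⟩ := (isCompl_toDerivedCompletion I K).exists_iso hq
  exact ⟨e⟩

end

end Groth.Agent.CAlgH3.RGam
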