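import Groth.Agent.CAlgH3.RGam.CechModel
import Groth.Agent.DCat.DTenHom

/-!
Torsion, derived completeness and the tensor-hom adjunction: derived completion of `RHom(K, L)` is
`RHom(RΓ_J K, RΓ_J L)`.
-/

set_option autoImplicit false
set_option backward.isDefEq.respectTransparency false
set_option backward.defeqAttrib.useBackward true
set_option linter.style.haveILetI false

universe u

open CategoryTheory CategoryTheory.Limits MonoidalCategory HomologicalComplex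

attribute [local instance] HasDerivedCategory.standard

namespace Groth.Agent.CAlgH3.RGam

open Groth.Agent.DCat Groth.Agent.DCat.DC
open Groth.Agent.DualLib.GammaHDI (GC)

variable {A : Type u} [CommRing A] [DTen.HasLTen A]

/-- The derived tensor product. -/
noncomputable abbrev Tn (X Y : Dual.D A) : Dual.D A := (DTen.LTen₂ A).obj (X, Y)

/-- Functoriality of the derived tensor product. -/
noncomputable abbrev tm {X X' Y Y' : Dual.D A} (g : X ⟶ X') (h : Y ⟶ Y') : Tn X Y ⟶ Tn X' Y' :=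
  (DTen.LTen₂ A).map (Prod.mkHom g h)

theorem tm_comp {X X' X'' Y Y' Y'' : Dual.D A} (g : X ⟶ X') (g' : X' ⟶ X'') (h : Y ⟶ Y') (h' : Y' ⟶ Y'') :
    tm g h ≫ tm g' h' = tm (g ≫ g') (h ≫ h') :=
  ((DTen.LTen₂ A).map_comp (Prod.mkHom g h) (Prod.mkHom g' h')).symm

omit [DTen.HasLTen A] in
theorem finv_of_iso {f : A} {X Y : Dual.D A} (e : X ≅ Y) (h : FInv f X) : FInv f Y := by
  haveI : IsIso (f • 𝟙 X) := h
  have he : f • 𝟙 Y = e.inv ≫ (f • 𝟙 X) ≫ e.hom := by simp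
  show IsIso (f • 𝟙 Y)
  rw [he]
  infer_instance

omit [DTen.HasLTen A] in
theorem smul_id_whiskerRight (f : A) (K P : DRing.Cx A) : (f • 𝟙 K) ▷ P = f • 𝟙 (K ⊗ P) := by
  refine HomologicalComplex.hom_ext _ _ fun n => ?_
  refine mapBifunctor.hom_ext fun p q h => ?_
  change _ ≫ (mapBifunctorMap (f • 𝟙 K) (𝟙 P) (curriedTensor (ModuleCat.{u} A)) (ComplexShape.up ℤ)).f n = _
  rw [ι_mapBifunctorMap]
  dsimp
  simp
  erw [Category.comp_id]

theorem finv_tensor_left {f : A} {X : Dual.D A} (h : FInv f X) (Y : Dual.D A) : FInv f (Tn X Y) := by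
  obtain ⟨X', hX', ⟨e⟩⟩ := exists_kflat_obj X
  obtain ⟨P, hP, ⟨e'⟩⟩ := exists_kflat_obj Y
  haveI := isIso_ε_of_kflat hX' hP
  haveI := isIso_LTen_map e.hom e'.hom
  refine finv_of_iso ((asIso ((DTen.ε A).app (X', P))).symm ≪≫ asIso (tm e.hom e'.hom)) ?_
  have h' : IsIso (DerivedCategory.Q.map (f • 𝟙 X')) := by
    rw [DerivedCategory.Q.map_smul, DerivedCategory.Q.map_id]
    exact finv_of_iso e.symm h
  haveI : QuasiIso (f • 𝟙 X') := (DerivedCategory.isIso_Q_map_iff_quasiIso (C := ModuleCat.{u} A) _).1 h'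
  haveI := quasiIso_whiskerRight hP (f • 𝟙 X')
  have h2 := isIso_Q_map_of_qis ((f • 𝟙 X') ▷ P)
  rw [smul_id_whiskerRight, DerivedCategory.Q.map_smul, DerivedCategory.Q.map_id] at h2
  exact h2

variable [IsNoetherianRing A] (J : Ideal A) [DRing.HasRgammaI J]

omit [IsNoetherianRing A] [DRing.HasRgammaI J] [DTen.HasLTen A] in
theorem tors_of_terms {P : DRing.Cx A} (h : ∀ n, LocCoh.IsPowerTorsion J (P.X n)) :
    Tors J (DerivedCategory.Q.obj P) := (tors_Q_iff P).2 fun i y => by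
  obtain ⟨z, rfl⟩ := cl_surjective P i y
  obtain ⟨n, hn⟩ := h i z.1
  exact ⟨n, fun a ha => by rw [← map_smul, show a • z = 0 from Subtype.ext (hn a ha), map_zero]⟩

omit [IsNoetherianRing A] [DRing.HasRgammaI J] [DTen.HasLTen A] in
theorem isPowerTorsion_tensor (K P : DRing.Cx A) (h : ∀ n, LocCoh.IsPowerTorsion J (K.X n)) (n : ℤ) :
    LocCoh.IsPowerTorsion J ((K ⊗ P).X n) := by
  let S := DRing.torsionSub J ((K ⊗ P).X n)
  have hq : (ModuleCat.ofHom S.mkQ : (K ⊗ P).X n ⟶ ModuleCat.of A (_ ⧸ S)) = 0 := by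
    refine mapBifunctor.hom_ext fun p q hpq => ?_
    rw [comp_zero]
    refine ModuleCat.MonoidalCategory.tensor_ext fun x y => ?_
    show S.mkQ _ = 0
    rw [Submodule.mkQ_apply, Submodule.Quotient.mk_eq_zero]
    obtain ⟨m, hm⟩ := h p x
    refine ⟨m, fun a ha => ?_⟩
    refine (map_smul (ιMapBifunctor K P (curriedTensor (ModuleCat.{u} A)) (ComplexShape.up ℤ) p q n hpq).hom a
      (x ⊗ₜ[A] y)).symm.trans ?_
    erw [TensorProduct.smul_tmul', hm a ha, TensorProduct.zero_tmul, map_zero]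
  intro z
  have hz : S.mkQ z = 0 := congrArg (fun φ : (K ⊗ P).X n ⟶ ModuleCat.of A (_ ⧸ S) => φ.hom z) hq
  exact (Submodule.Quotient.mk_eq_zero S).1 hz

theorem tors_tensor_left {X : Dual.D A} (h : Tors J X) (Y : Dual.D A) : Tors J (Tn X Y) := by
  obtain ⟨M, e, hM, -, -⟩ := exists_model X
  obtain ⟨P, hP, ⟨e'⟩⟩ := exists_kflat_obj Y
  haveI := isIso_theta_kInj J M hM
  haveI := isIso_ε J X h
  let e₀ : DerivedCategory.Q.obj (GC J M) ≅ X :=
    asIso (theta J M) ≪≫ (DRing.RgammaI J).mapIso e ≪≫ asIso ((DRing.RgammaIε J).app X)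
  haveI := isIso_ε_of_right (K := GC J M) hP
  haveI := isIso_LTen_map e₀.hom e'.hom
  refine Tors.of_iso ((asIso ((DTen.ε A).app (GC J M, P))).symm ≪≫ asIso (tm e₀.hom e'.hom))
    (tors_of_terms J (isPowerTorsion_tensor J _ P fun n (x : DRing.torsionSub J (M.X n)) => ?_))
  obtain ⟨m, hm⟩ := x.2
  exact ⟨m, fun a ha => Subtype.ext (hm a ha)⟩

theorem tors_tensor_right (X : Dual.D A) {Y : Dual.D A} (h : Tors J Y) : Tors J (Tn X Y) :=
  haveI := isIso_symm_app' X Y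
  Tors.of_iso (asIso ((DTen.symm A).app (X, Y))) (tors_tensor_left J h X)

/-- Transposition. -/
noncomputable abbrev tr {P I : DRing.Cx A} {X : Dual.D A} (g : X ⟶ DerivedCategory.Q.obj (DRing.homCx P I)) :
    Tn X (DerivedCategory.Q.obj P) ⟶ DerivedCategory.Q.obj I := tm g (𝟙 _) ≫ evD P I

omit [IsNoetherianRing A] in
theorem tr_comp {P I : DRing.Cx A} {X X' : Dual.D A} (h : X' ⟶ X)
    (g : X ⟶ DerivedCategory.Q.obj (DRing.homCx P I)) : tr (h ≫ g) = tm h (𝟙 _) ≫ tr g := by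
  rw [← Category.assoc, tm_comp, Category.comp_id]

omit [IsNoetherianRing A] [DRing.HasRgammaI J] in
theorem isDerivedComplete_homCx {P I : DRing.Cx A} [I.IsKInjective] (hP : IsKFlatFor (modT A) P)
    (h : ∀ f ∈ J, ∀ Z : Dual.D A, FInv f Z → ∀ φ : Tn Z (DerivedCategory.Q.obj P) ⟶ DerivedCategory.Q.obj I, φ = 0) :
    DRing.IsDerivedComplete J (DerivedCategory.Q.obj (DRing.homCx P I)) :=
  isDerivedComplete_of_generators (J : Set A) (Ideal.span_eq J) _ fun f hf n φ =>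
    (bijective_evD hP _).1 ((h f hf _ (finv_away.shift n) (tr φ)).trans (h f hf _ (finv_away.shift n) (tr 0)).symm)

theorem isDerivedComplete_homCx_tors {P I : DRing.Cx A} [I.IsKInjective] (hP : IsKFlatFor (modT A) P)
    (h : Tors J (DerivedCategory.Q.obj P)) : DRing.IsDerivedComplete J (DerivedCategory.Q.obj (DRing.homCx P I)) :=
  isDerivedComplete_homCx J hP fun f hf Z hZ φ => by
    rw [← Category.id_comp φ,
      eq_zero_of_tors_finv J hf (finv_tensor_left hZ _) (tors_tensor_right J Z h) (𝟙 _), zero_comp]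

omit [IsNoetherianRing A] [DRing.HasRgammaI J] in
theorem cIso_tm_kflat {X X' : Dual.D A} {φ : X ⟶ X'} (h : CIso J φ) {P : DRing.Cx A}
    (hP : IsKFlatFor (modT A) P) : CIso J (tm φ (𝟙 (DerivedCategory.Q.obj P))) := by
  intro L hL
  obtain ⟨I, hI, ⟨e⟩⟩ := exists_kInj_obj L
  have hI' : DRing.IsDerivedComplete J (DerivedCategory.Q.obj I) :=
    fun f hf n => haveI := hL f hf n; (Iso.homCongr (Iso.refl _) ((shiftFunctor (Dual.D A) n).mapIso e)).subsingleton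
  have hc := isDerivedComplete_homCx (I := I) J hP fun f hf Z hZ ψ =>
    eq_zero_of_finv (finv_tensor_left hZ _) (dcf_of_isDerivedComplete hI' hf) ψ
  refine ⟨fun a b hab => ?_, fun ψ => ?_⟩
  · obtain ⟨a', ha⟩ := (bijective_evD hP X').2 (a ≫ e.inv)
    obtain ⟨b', hb⟩ := (bijective_evD hP X').2 (b ≫ e.inv)
    dsimp only at hab ha hb
    have : φ ≫ a' = φ ≫ b' := (bijective_evD hP X).1 (by
      show tr _ = tr _
      rw [tr_comp, tr_comp]
      exact ((congrArg (tm φ (𝟙 _) ≫ ·) ha).trans (by simp only [reassoc_of% hab])).trans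
        (congrArg (tm φ (𝟙 _) ≫ ·) hb).symm)
    rw [← cancel_mono e.inv, ← ha, ← hb, (h _ hc).1 this]
  · obtain ⟨a, ha⟩ := (bijective_evD hP X).2 (ψ ≫ e.inv)
    obtain ⟨b, hb⟩ := (h _ hc).2 a
    dsimp only at ha hb
    refine ⟨tr b ≫ e.hom, ?_⟩
    show tm φ (𝟙 _) ≫ tr b ≫ e.hom = ψ
    rw [← Category.assoc, ← tr_comp, hb]
    exact (congrArg (· ≫ e.hom) ha).trans (by simp)

omit [IsNoetherianRing A] [DRing.HasRgammaI J] in
theorem cIso_tm_left {X X' : Dual.D A} {φ : X ⟶ X'} (h : CIso J φ) (Y : Dual.D A) : CIso J (tm φ (𝟙 Y)) := by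
  obtain ⟨P, hP, ⟨e⟩⟩ := exists_kflat_obj Y
  have he : tm φ (𝟙 Y) = tm (𝟙 X) e.inv ≫ tm φ (𝟙 _) ≫ tm (𝟙 X') e.hom := by
    rw [tm_comp, tm_comp]
    simp
  rw [he]
  haveI := isIso_LTen_map (𝟙 X) e.inv
  haveI := isIso_LTen_map (𝟙 X') e.hom
  exact (cIso_of_isIso _).comp ((cIso_tm_kflat J h hP).comp (cIso_of_isIso _))

omit [IsNoetherianRing A] [DRing.HasRgammaI J] in
theorem cIso_tm_right (X : Dual.D A) {Y Y' : Dual.D A} {φ : Y ⟶ Y'} (h : CIso J φ) : CIso J (tm (𝟙 X) φ) := by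
  haveI := isIso_symm_app' X Y
  haveI := isIso_symm_app' X Y'
  refine CIso.of_comp_left (cIso_of_isIso ((DTen.symm A).app (X, Y))) ?_
  rw [← (DTen.symm A).naturality (Prod.mkHom (𝟙 X) φ)]
  exact (cIso_tm_left J h X).comp (cIso_of_isIso _)

theorem isIso_tm_right {X : Dual.D A} (hX : Tors J X) {Y Y' : Dual.D A} {φ : Y ⟶ Y'} (h : CIso J φ) :
    IsIso (tm (𝟙 X) φ) :=
  isIso_of_cIso _ (tors_tensor_left J hX Y) (tors_tensor_left J hX Y') (cIso_tm_right J X h)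

omit [DTen.HasLTen A] in
theorem bijective_comp_of_cIso {W Y : Dual.D A} (hW : Tors J W) {η : W ⟶ Y} (h : CIso J η) {L : Dual.D A}
    (hL : Tors J L) : Function.Bijective fun ψ : L ⟶ W => ψ ≫ η := by
  haveI := isIso_ε J W hW
  haveI := isIso_map_of_cIso J h
  have e : (fun ψ : L ⟶ W => ψ ≫ η) = (fun χ => χ ≫ (DRing.RgammaIε J).app Y) ∘
      (fun ψ : L ⟶ W => ψ ≫ inv ((DRing.RgammaIε J).app W) ≫ (DRing.RgammaI J).map η) := funext fun ψ => by
    simp
  rw [e]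
  exact (bijective_comp_ε J hL Y).comp ⟨fun a b hab => (cancel_mono _).1 hab,
    fun χ => ⟨χ ≫ inv ((DRing.RgammaI J).map η) ≫ (DRing.RgammaIε J).app W, by simp⟩⟩

/-- The main comparison. -/
theorem nonempty_completion_homCx [DRing.HasDerivedCompletion J] {P P' I I' : DRing.Cx A} [I.IsKInjective]
    [I'.IsKInjective] (hP : IsKFlatFor (modT A) P) (hP' : IsKFlatFor (modT A) P')
    (c : DerivedCategory.Q.obj P' ⟶ DerivedCategory.Q.obj P) (hc : CIso J c)
    (hP't : Tors J (DerivedCategory.Q.obj P'))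
    (η : DerivedCategory.Q.obj I' ⟶ DerivedCategory.Q.obj I) (hη : CIso J η)
    (hI't : Tors J (DerivedCategory.Q.obj I')) :
    Nonempty (((DRing.derivedCompletion J).obj (DerivedCategory.Q.obj (DRing.homCx P I))).obj ≅
      DerivedCategory.Q.obj (DRing.homCx P' I')) := by
  let Z := DerivedCategory.Q.obj (DRing.homCx P I)
  let Z' := DerivedCategory.Q.obj (DRing.homCx P' I')
  let R : ∀ {X : Dual.D A}, (X ⟶ Z) → (X ⟶ Z') → Prop := fun {X} g g' =>
    tm (𝟙 X) c ≫ tr g = tr g' ≫ η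
  have hnat : ∀ {X X' : Dual.D A} (h : X' ⟶ X) {g : X ⟶ Z} {g' : X ⟶ Z'}, R g g' → R (h ≫ g) (h ≫ g') := by
    intro X X' h g g' hr
    show tm (𝟙 X') c ≫ tr (h ≫ g) = tr (h ≫ g') ≫ η
    have hsq : tm (𝟙 X') c ≫ tm h (𝟙 _) = tm h (𝟙 _) ≫ tm (𝟙 X) c := by
      rw [tm_comp, tm_comp]; simp
    have hr' : tm (𝟙 X) c ≫ tr g = tr g' ≫ η := hr
    rw [tr_comp, tr_comp, Category.assoc, ← hr']
    exact (reassoc_of% hsq) _
  have hr : ∀ {X : Dual.D A}, Tors J X → ∀ g : X ⟶ Z, ∃! g' : X ⟶ Z', R g g' := fun {X} hX g =>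
    Function.Bijective.existsUnique
      ((bijective_comp_of_cIso J hI't hη (tors_tensor_left J hX _)).comp (bijective_evD hP' X))
      (tm (𝟙 X) c ≫ tr g) |>.imp' id fun g' hg' => ⟨hg'.1.symm, fun y hy => hg'.2 y hy.symm⟩
  have hl : ∀ {X : Dual.D A}, Tors J X → ∀ g' : X ⟶ Z', ∃! g : X ⟶ Z, R g g' := fun {X} hX g' => by
    haveI := isIso_tm_right J hX hc
    exact Function.Bijective.existsUnique
      ((show Function.Bijective fun χ : Tn X (DerivedCategory.Q.obj P) ⟶ DerivedCategory.Q.obj I =>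
        tm (𝟙 X) c ≫ χ from ⟨fun a b h => (cancel_epi (tm (𝟙 X) c)).1 h,
          fun χ => ⟨inv (tm (𝟙 X) c) ≫ χ, IsIso.hom_inv_id_assoc _ _⟩⟩).comp (bijective_evD hP X)) _
  have hG := tors_RgammaI J Z
  have hG' := tors_RgammaI J Z'
  obtain ⟨a, ha, hau⟩ := hr hG ((DRing.RgammaIε J).app Z)
  obtain ⟨b, hb, hbu⟩ := hl hG' ((DRing.RgammaIε J).app Z')
  obtain ⟨a', rfl⟩ := (bijective_comp_ε J hG Z').2 a
  obtain ⟨b', rfl⟩ := (bijective_comp_ε J hG' Z).2 b
  dsimp only at ha hau hb hbu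
  let e : (DRing.RgammaI J).obj Z ≅ (DRing.RgammaI J).obj Z' :=
    ⟨a', b', (bijective_comp_ε J hG Z).1 (by
        show (a' ≫ b') ≫ _ = 𝟙 _ ≫ _
        rw [Category.assoc, Category.id_comp]
        exact (hl hG (a' ≫ (DRing.RgammaIε J).app Z')).unique (hnat a' hb) ha),
      (bijective_comp_ε J hG' Z').1 (by
        show (b' ≫ a') ≫ _ = 𝟙 _ ≫ _
        rw [Category.assoc, Category.id_comp]
        exact (hr hG' (b' ≫ (DRing.RgammaIε J).app Z)).unique (hnat b' ha) hb)⟩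
  obtain ⟨e1⟩ := nonempty_completion_gamma J Z
  obtain ⟨e2⟩ := nonempty_completion_gamma J Z'
  have h0 : IsCompl J (𝟙 Z') := ⟨isDerivedComplete_homCx_tors J hP' hP't, cIso_of_isIso _⟩
  obtain ⟨e3, -⟩ := (isCompl_toDerivedCompletion J Z').exists_iso h0
  exact ⟨(ObjectProperty.ι _).mapIso (e1.symm ≪≫ (DRing.derivedCompletion J).mapIso e ≪≫ e2) ≪≫ e3⟩

end Groth.Agent.CAlgH3.RGam
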