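import Groth.Agent.CAlgH3.RGam.Coreflect
import Groth.Agent.DCat.DCompletion
import Groth.Agent.DCat.DCNakayama

/-!
`RΓ_I K → K` becomes an isomorphism after derived completion, and `RΓ_I` inverts completion maps.
-/

set_option autoImplicit false
set_option backward.isDefEq.respectTransparency false
set_option backward.defeqAttrib.useBackward true
set_option linter.style.haveILetI false

universe u

open CategoryTheory CategoryTheory.Limits CategoryTheory.Pretriangulated

attribute [local instance] HasDerivedCategory.standard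

namespace Groth.Agent.CAlgH3.RGam

open Groth.Agent.DualLib.GammaHDI (GC)
open Groth.Agent.DCat Groth.Agent.DCat.DC

variable {A : Type u} [CommRing A] {I : Ideal A}

/-- `φ` becomes invertible after completion. -/
def CIso (I : Ideal A) {X Y : Dual.D A} (φ : X ⟶ Y) : Prop :=
  ∀ L : Dual.D A, DRing.IsDerivedComplete I L → Function.Bijective (fun ψ : Y ⟶ L => φ ≫ ψ)

/-- No nonzero map to a complete object. -/
def Orth (I : Ideal A) (X : Dual.D A) : Prop :=
  ∀ L : Dual.D A, DRing.IsDerivedComplete I L → ∀ ψ : X ⟶ L, ψ = 0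

theorem CIso.comp {X Y Z : Dual.D A} {φ : X ⟶ Y} {χ : Y ⟶ Z} (h : CIso I φ) (h' : CIso I χ) :
    CIso I (φ ≫ χ) := fun L hL => by
  have e : (fun ψ : Z ⟶ L => (φ ≫ χ) ≫ ψ) = (fun ψ => φ ≫ ψ) ∘ (fun ψ => χ ≫ ψ) :=
    funext fun ψ => Category.assoc _ _ _
  rw [e]
  exact (h L hL).comp (h' L hL)

theorem cIso_of_isIso {X Y : Dual.D A} (φ : X ⟶ Y) [IsIso φ] : CIso I φ := fun L _ =>
  ⟨fun a b h => (cancel_epi φ).1 h, fun ψ => ⟨inv φ ≫ ψ, IsIso.hom_inv_id_assoc φ ψ⟩⟩

theorem CIso.of_comp_left {X Y Z : Dual.D A} {φ : X ⟶ Y} {χ : Y ⟶ Z} (h : CIso I φ) (h' : CIso I (φ ≫ χ)) :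
    CIso I χ := fun L hL => by
  have e : (fun ψ : Z ⟶ L => (φ ≫ χ) ≫ ψ) = (fun ψ => φ ≫ ψ) ∘ (fun ψ => χ ≫ ψ) :=
    funext fun ψ => Category.assoc _ _ _
  have h2 := h' L hL
  rw [e] at h2
  exact (Function.Bijective.of_comp_iff' (h L hL) _).1 h2

theorem CIso.of_comp_right {X Y Z : Dual.D A} {φ : X ⟶ Y} {χ : Y ⟶ Z} (h : CIso I χ) (h' : CIso I (φ ≫ χ)) :
    CIso I φ := fun L hL => by
  have e : (fun ψ : Z ⟶ L => (φ ≫ χ) ≫ ψ) = (fun ψ => φ ≫ ψ) ∘ (fun ψ => χ ≫ ψ) :=
    funext fun ψ => Category.assoc _ _ _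
  have h2 := h' L hL
  rw [e] at h2
  exact (Function.Bijective.of_comp_iff _ (h L hL)).1 h2

theorem CIso.bijective_shift {X Y : Dual.D A} {φ : X ⟶ Y} (h : CIso I φ) (k : ℤ) {L : Dual.D A}
    (hL : DRing.IsDerivedComplete I L) : Function.Bijective (fun ψ : Y⟦k⟧ ⟶ L => φ⟦k⟧' ≫ ψ) := by
  let sh := (shiftFunctorCompIsoId (Dual.D A) (-k) k (by omega)).app L
  have hb := h _ (isDerivedComplete_shift hL (-k))
  refine ⟨fun a b hab => ?_, fun ψ => ?_⟩
  · obtain ⟨a', ha⟩ := (shiftFunctor (Dual.D A) k).map_surjective (a ≫ sh.inv)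
    obtain ⟨b', hb'⟩ := (shiftFunctor (Dual.D A) k).map_surjective (b ≫ sh.inv)
    dsimp only at hab
    have : a' = b' := hb.1 ((shiftFunctor (Dual.D A) k).map_injective
      (by simp only [Functor.map_comp, ha, hb', reassoc_of% hab]))
    rw [← cancel_mono sh.inv, ← ha, ← hb', this]
  · obtain ⟨ψ', hψ⟩ := (shiftFunctor (Dual.D A) k).map_surjective (ψ ≫ sh.inv)
    obtain ⟨χ, hχ⟩ := hb.2 ψ'
    dsimp only at hχ
    refine ⟨χ⟦k⟧' ≫ sh.hom, ?_⟩
    dsimp only
    rw [← Functor.map_comp_assoc, hχ, hψ, Category.assoc, Iso.inv_hom_id, Category.comp_id]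

theorem cIso_of_finv {f : A} (hf : f ∈ I) {T : Triangle (Dual.D A)} (hT : T ∈ distTriang _)
    (h : FInv f T.obj₃) : CIso I T.mor₁ := fun L hL => by
  have hL' := dcf_of_isDerivedComplete hL hf
  refine ⟨(injective_iff_map_eq_zero (Preadditive.leftComp L T.mor₁)).2 fun ψ hψ => ?_, fun ψ => ?_⟩
  · obtain ⟨θ, rfl⟩ := Triangle.yoneda_exact₂ _ hT ψ hψ
    rw [eq_zero_of_finv h hL' θ, comp_zero]
  · obtain ⟨φ, hφ⟩ := Triangle.yoneda_exact₂ _ (inv_rot_of_distTriang _ hT) ψ
      (eq_zero_of_finv (h.shift (-1)) hL' _)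
    exact ⟨φ, hφ.symm⟩

theorem orth_cone {T : Triangle (Dual.D A)} (hT : T ∈ distTriang _) (h : CIso I T.mor₁) : Orth I T.obj₃ := by
  intro L hL θ
  obtain ⟨ω, rfl⟩ := Triangle.yoneda_exact₃ _ hT θ ((h L hL).1 (by
    dsimp only
    rw [← Category.assoc, comp_distTriang_mor_zero₁₂ _ hT, zero_comp, comp_zero]))
  obtain ⟨σ, hσ⟩ := (h.bijective_shift 1 hL).2 ω
  dsimp only at hσ
  rw [← hσ, ← Category.assoc, comp_distTriang_mor_zero₃₁ _ hT, zero_comp]

theorem orth_obj₃ {T : Triangle (Dual.D A)} (hT : T ∈ distTriang _) (h1 : Orth I T.obj₁) (h2 : Orth I T.obj₂) :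
    Orth I T.obj₃ := fun L hL θ => by
  obtain ⟨ω, rfl⟩ := Triangle.yoneda_exact₃ _ hT θ (h2 L hL _)
  have h1' : ω = 0 := eq_zero_of_shift' (fun χ => h1 _ (isDerivedComplete_shift hL (-1)) χ) ω
  rw [h1', comp_zero]

section les

variable {T : Triangle (Dual.D A)} (hT : T ∈ distTriang _)

noncomputable abbrev H (n : ℤ) : Dual.D A ⥤ ModuleCat.{u} A := DerivedCategory.homologyFunctor (ModuleCat.{u} A) n

include hT in
theorem exists_pow_obj₃ {g : A} (n : ℤ) (z : Dual.HD A T.obj₃ n)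
    (h2 : ∀ y : Dual.HD A T.obj₂ n, ∃ a : ℕ, g ^ a • y = 0)
    (h1 : ∀ y : Dual.HD A T.obj₁ (n + 1), ∃ a : ℕ, g ^ a • y = 0) : ∃ a : ℕ, g ^ a • z = 0 := by
  obtain ⟨a, ha⟩ := h1 ((DerivedCategory.HomologySequence.δ T n (n + 1) rfl).hom z)
  rw [← map_smul] at ha
  obtain ⟨y, hy⟩ := ((ShortComplex.moduleCat_exact_iff _).1
    (DerivedCategory.HomologySequence.exact₃ T hT n (n + 1) rfl)) _ ha
  obtain ⟨b, hb⟩ := h2 y
  exact ⟨b + a, by rw [pow_add, mul_smul, ← hy, ← map_smul, hb, map_zero]⟩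

end les

/-- A torsion object without maps to complete objects is zero. -/
theorem isZero_of_tors_orth (s : List A) : ∀ (t : List A) (X : Dual.D A),
    (∀ g ∈ s, ∀ (i : ℤ) (y : Dual.HD A X i), ∃ a : ℕ, g ^ a • y = 0) → Orth (Ideal.ofList s) X →
    (∀ g ∈ s, g ∉ t → ∃ a : ℕ, ∀ (i : ℤ) (y : Dual.HD A X i), g ^ a • y = 0) → IsZero X
  | [], X, _, ho, hk => by
    rw [IsZero.iff_id_eq_zero]
    refine ho X (isDerivedComplete_of_generators {g | g ∈ s} rfl X fun g hg => dcf_iff.2 fun i => ?_) (𝟙 X)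
    obtain ⟨a, ha⟩ := hk g hg List.not_mem_nil
    have h0 : (g ^ a) ∈ dcIdeal (A := A) (Dual.HD A X i) := by
      rw [mem_dcIdeal]
      have e : sm (Dual.HD A X i) (g ^ a) = sm (Dual.HD A X i) (0 : A) := by
        ext y
        exact (ha i y).trans (zero_smul A y).symm
      rw [e, ← mem_dcIdeal]
      exact zero_mem _
    exact mem_dcIdeal.1 (isRadical_dcIdeal (A := A) (M := Dual.HD A X i) ⟨a, h0⟩)
  | f :: t, X, ht, ho, hk => by
    by_cases hfs : f ∈ s
    swap
    · exact isZero_of_tors_orth s t X ht ho fun g hg hgt => hk g hg (by simp [hgt]; rintro rfl; exact hfs hg)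
    obtain ⟨W, b, c, hW⟩ := distinguished_cocone_triangle (f • 𝟙 X)
    have hmap : ∀ (i : ℤ) (y : Dual.HD A X i), ((H i).map (f • 𝟙 X)).hom y = f • y := fun i y => by
      rw [homologyFunctor_map_smul_id]
      rfl
    have hW0 : IsZero W := by
      refine isZero_of_tors_orth s t W (fun g hg i z => exists_pow_obj₃ hW i z (ht g hg i) (ht g hg (i + 1)))
        (orth_obj₃ hW ho ho) fun g hg hgt => ?_
      by_cases hgf : g = f
      · subst hgf
        refine ⟨2, fun i z => ?_⟩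
        have h1 : (DerivedCategory.HomologySequence.δ (Triangle.mk (g • 𝟙 X) b c) i (i + 1) rfl).hom (g • z) = 0 := by
          rw [map_smul, ← hmap]
          exact congrArg (fun φ => φ.hom z) (DerivedCategory.HomologySequence.δ_comp _ hW i (i + 1) rfl)
        obtain ⟨y, hy⟩ := ((ShortComplex.moduleCat_exact_iff _).1
          (DerivedCategory.HomologySequence.exact₃ _ hW i (i + 1) rfl)) _ h1
        have hy' : ((H i).map b).hom y = g • z := hy
        rw [sq, mul_smul, ← hy', ← map_smul, ← hmap]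
        exact congrArg (fun φ => φ.hom y) ((ShortComplex.mk _ _ (show (H i).map (g • 𝟙 X) ≫ (H i).map b = 0 by
          rw [← Functor.map_comp, show (g • 𝟙 X) ≫ b = 0 from comp_distTriang_mor_zero₁₂ _ hW, Functor.map_zero])).zero)
      · obtain ⟨a, ha⟩ := hk g hg (by simp [hgf, hgt])
        refine ⟨a + a, fun i z => ?_⟩
        have h1 : (DerivedCategory.HomologySequence.δ (Triangle.mk (f • 𝟙 X) b c) i (i + 1) rfl).hom (g ^ a • z) = 0 := by
          rw [map_smul]
          exact ha (i + 1) _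
        obtain ⟨y, hy⟩ := ((ShortComplex.moduleCat_exact_iff _).1
          (DerivedCategory.HomologySequence.exact₃ _ hW i (i + 1) rfl)) _ h1
        have hy' : ((H i).map b).hom y = g ^ a • z := hy
        rw [pow_add, mul_smul, ← hy', ← map_smul]
        exact (congrArg _ (ha i y)).trans (map_zero _)
    haveI : IsIso (f • 𝟙 X) := (Triangle.isZero₃_iff_isIso₁ _ hW).1 hW0
    rw [IsZero.iff_id_eq_zero]
    have hz : ∀ i : ℤ, IsZero ((H i).obj X) := fun i => by
      haveI : Subsingleton (Dual.HD A X i) := by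
        refine subsingleton_of_forall_eq 0 fun y => ?_
        have hinj := ((ConcreteCategory.isIso_iff_bijective ((H i).map (f • 𝟙 X))).1 inferInstance).1
        obtain ⟨a, ha⟩ := ht f hfs i y
        induction a generalizing y with
        | zero => simpa using ha
        | succ a ih =>
          refine ih y (hinj ?_)
          show ((H i).map (f • 𝟙 X)).hom (f ^ a • y) = ((H i).map (f • 𝟙 X)).hom 0
          rw [hmap, map_zero, ← mul_smul, ← pow_succ', ha]
      exact ModuleCat.isZero_of_subsingleton _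
    haveI : IsIso (0 : X ⟶ X) := (DerivedCategory.isIso_iff (ModuleCat.{u} A) (0 : X ⟶ X)).2 fun n =>
      isIso_of_source_target_iso_zero _ (hz n).isoZero (hz n).isoZero
    rw [← IsIso.hom_inv_id (0 : X ⟶ X), zero_comp]

theorem isIso_of_cIso [IsNoetherianRing A] {X Y : Dual.D A} (φ : X ⟶ Y) (hX : Tors I X) (hY : Tors I Y)
    (h : CIso I φ) : IsIso φ := by
  obtain ⟨W, b, c, hW⟩ := distinguished_cocone_triangle φ
  obtain ⟨s, rfl⟩ := exists_list I
  have hts : ∀ {Z : Dual.D A}, Tors (Ideal.ofList s) Z → ∀ g ∈ s, ∀ (i : ℤ) (y : Dual.HD A Z i), ∃ a : ℕ, g ^ a • y = 0 :=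
    fun hZ g hg i y => by
      obtain ⟨n, hn⟩ := hZ i y
      exact ⟨n, hn _ (Ideal.pow_mem_pow (Ideal.subset_span (show g ∈ {r | r ∈ s} from hg)) n)⟩
  refine (Triangle.isZero₃_iff_isIso₁ _ hW).1 (isZero_of_tors_orth s s W
    (fun g hg i z => exists_pow_obj₃ hW i z (hts hY g hg i) (hts hX g hg (i + 1))) (orth_cone hW h)
    fun g hg hgt => absurd hg hgt)

/-- One step. -/
theorem cIso_gcMono_cons {f : A} {t : List A} (hf : f ∈ I) (P : DRing.Cx A) (hP : AdC P (f :: t))
    (hle : Ideal.ofList t ≤ Ideal.ofList (f :: t)) : CIso I (DerivedCategory.Q.map (gcMono hle P)) := by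
  haveI : ∀ i, Mono ((gcMono hle P).f i) := fun i => (ModuleCat.mono_iff_injective _).2
    (fun x y h => Subtype.ext (congrArg (fun z : tor t (P.X i) => (z : P.X i)) h))
  haveI : Mono (gcMono hle P) := HomologicalComplex.mono_of_mono_f _ fun i => inferInstance
  let S := ShortComplex.mk (gcMono hle P) (cokernel.π (gcMono hle P)) (cokernel.condition _)
  have hS : S.ShortExact :=
    { exact := ShortComplex.exact_of_g_is_cokernel _ (cokernelIsCokernel (gcMono hle P)) }
  refine cIso_of_finv hf (DerivedCategory.triangleOfSES_distinguished hS) ?_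
  show IsIso (f • 𝟙 (DerivedCategory.Q.obj S.X₃))
  have hdeg : ∀ i, IsIso ((f • 𝟙 S.X₃ : S.X₃ ⟶ S.X₃).f i) := fun i => by
    have hi := hS.map_of_exact (HomologicalComplex.eval (ModuleCat.{u} A) (ComplexShape.up ℤ) i)
    have hex := (ShortComplex.moduleCat_exact_iff _).1 hi.exact
    have hsurj : ∀ y, ∃ x : tor t (P.X i), (S.g.f i).hom x = y :=
      (ModuleCat.epi_iff_surjective _).1 hi.epi_g
    have hker : ∀ x : tor t (P.X i), (S.g.f i).hom x = 0 ↔ (x : P.X i) ∈ tor (f :: t) (P.X i) := fun x => by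
      refine ⟨fun hx => ?_, fun hx => ?_⟩
      · obtain ⟨w, hw⟩ := hex x hx
        rw [← hw]
        exact (show tor (f :: t) (P.X i) from w).2
      · exact (congrArg (S.g.f i).hom (show x = ((S.f).f i).hom ⟨x.1, hx⟩ from rfl)).trans
          (congrArg (fun φ : S.X₁.X i ⟶ S.X₃.X i => φ.hom ⟨x.1, hx⟩) ((S.map (HomologicalComplex.eval _ _ i)).zero))
    refine (ConcreteCategory.isIso_iff_bijective _).2 ⟨(injective_iff_map_eq_zero ((f • 𝟙 S.X₃ : S.X₃ ⟶ S.X₃).f i).hom).2
      fun y hy => ?_, fun y => ?_⟩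
    · obtain ⟨x, rfl⟩ := hsurj y
      have h1 : (S.g.f i).hom (f • x) = 0 := ((S.g.f i).hom.map_smul f x).trans hy
      obtain ⟨-, k, hk⟩ := mem_tor_cons.1 ((hker _).1 h1)
      rw [Submodule.coe_smul, ← mul_smul, ← pow_succ] at hk
      exact (hker x).2 (mem_tor_cons.2 ⟨x.2, k + 1, hk⟩)
    · obtain ⟨m, rfl⟩ := hsurj y
      obtain ⟨x, hx, k, hk⟩ := (hP i).div m.2 1
      refine ⟨(S.g.f i).hom ⟨x, hx⟩, ?_⟩
      show f • (S.g.f i).hom ⟨x, hx⟩ = (S.g.f i).hom m
      have hd : (m : P.X i) - f • x ∈ tor (f :: t) (P.X i) := mem_tor_cons.2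
        ⟨sub_mem m.2 (Submodule.smul_mem _ _ hx), k, by rw [smul_sub, hk, ← mul_smul, ← pow_succ, sub_self]⟩
      refine (((S.g.f i).hom.map_smul f _).symm.trans (sub_eq_zero.1 ?_).symm)
      exact ((S.g.f i).hom.map_sub m (f • (⟨x, hx⟩ : tor t (P.X i)))).symm.trans ((hker _).2 hd)
  haveI := HomologicalComplex.Hom.isIso_of_components (f • 𝟙 S.X₃)
  rw [← DerivedCategory.Q.map_id, ← DerivedCategory.Q.map_smul]
  infer_instance

/-- `Γ_s P → P` is invertible after completion. -/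
theorem cIso_gcι : ∀ (s : List A), (∀ g ∈ s, g ∈ I) → ∀ (P : DRing.Cx A), AdC P s →
    CIso I (DerivedCategory.Q.map (gcι (Ideal.ofList s) P))
  | [], _, P, _ => by
    haveI : ∀ i, IsIso ((gcι (Ideal.ofList ([] : List A)) P).f i) := fun i =>
      (ConcreteCategory.isIso_iff_bijective _).2 ⟨Subtype.val_injective, fun x => ⟨⟨x, mem_tor_nil x⟩, rfl⟩⟩
    haveI := HomologicalComplex.Hom.isIso_of_components (gcι (Ideal.ofList ([] : List A)) P)
    exact cIso_of_isIso _
  | f :: t, hs, P, hP => by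
    have hle : Ideal.ofList t ≤ Ideal.ofList (f :: t) := by rw [Ideal.ofList_cons]; exact le_sup_right
    rw [← gcMono_ι hle P, Functor.map_comp]
    exact (cIso_gcMono_cons (hs f List.mem_cons_self) P hP hle).comp
      (cIso_gcι t (fun g hg => hs g (List.mem_cons_of_mem _ hg)) P hP.tail)

variable [IsNoetherianRing A] (I) [DRing.HasRgammaI I]

/-- `ε` is invertible after completion. -/
theorem cIso_ε (K : Dual.D A) : CIso I ((DRing.RgammaIε I).app K) := by
  obtain ⟨J, e, hJ, -, hJs⟩ := exists_model K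
  obtain ⟨s, hs⟩ := exists_list I
  haveI := isIso_theta_kInj I J hJ
  have h : CIso I (DerivedCategory.Q.map (gcι I J)) := by
    subst hs
    exact cIso_gcι s (fun g hg => Ideal.subset_span hg) J (hJs s)
  rw [← theta_ε] at h
  have h' := CIso.of_comp_left (cIso_of_isIso (theta I J)) h
  have hn := (DRing.RgammaIε I).naturality e.hom
  refine CIso.of_comp_left (cIso_of_isIso ((DRing.RgammaI I).map e.hom)) ?_
  rw [hn]
  exact h'.comp (cIso_of_isIso e.hom)

theorem isIso_map_of_cIso {X Y : Dual.D A} {φ : X ⟶ Y} (h : CIso I φ) : IsIso ((DRing.RgammaI I).map φ) := by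
  refine isIso_of_cIso _ (tors_RgammaI I X) (tors_RgammaI I Y) (CIso.of_comp_right (cIso_ε I Y) ?_)
  rw [NatTrans.naturality]
  exact (cIso_ε I X).comp h

variable [DRing.HasDerivedCompletion I]

theorem cIso_toDerivedCompletion (K : Dual.D A) : CIso I (DRing.toDerivedCompletion I K) :=
  fun L hL => (isCompl_toDerivedCompletion I K).2 L hL

theorem nonempty_gamma_completion (K : Dual.D A) :
    Nonempty ((DRing.RgammaI I).obj ((DRing.derivedCompletion I).obj K).obj ≅ (DRing.RgammaI I).obj K) :=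
  haveI := isIso_map_of_cIso I (cIso_toDerivedCompletion I K)
  ⟨(asIso ((DRing.RgammaI I).map (DRing.toDerivedCompletion I K))).symm⟩

theorem nonempty_completion_gamma (K : Dual.D A) :
    Nonempty ((DRing.derivedCompletion I).obj ((DRing.RgammaI I).obj K) ≅ (DRing.derivedCompletion I).obj K) := by
  have h1 : IsCompl I ((DRing.RgammaIε I).app K ≫ DRing.toDerivedCompletion I K) :=
    ⟨((DRing.derivedCompletion I).obj K).property, (cIso_ε I K).comp (cIso_toDerivedCompletion I K)⟩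
  obtain ⟨e, -⟩ := (isCompl_toDerivedCompletion I ((DRing.RgammaI I).obj K)).exists_iso h1
  exact ⟨ObjectProperty.isoMk _ e⟩

end Groth.Agent.CAlgH3.RGam
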