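import Groth.Agent.CAlgH3.RGam.Derived

/-!
`RΓ_I` is the coreflection onto objects with `I`-power torsion cohomology (Noetherian rings).
-/

set_option autoImplicit false
set_option backward.isDefEq.respectTransparency false
set_option backward.defeqAttrib.useBackward true
set_option linter.style.haveILetI false

universe u

open CategoryTheory CategoryTheory.Limits

attribute [local instance] HasDerivedCategory.standard

namespace Groth.Agent.CAlgH3.RGam

open Groth.Agent.DualLib.GammaHDI (GC)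
open Groth.Agent.DCat

variable {A : Type u} [CommRing A]

/-- `I`-power torsion cohomology. -/
def Tors (I : Ideal A) (X : Dual.D A) : Prop := ∀ i : ℤ, LocCoh.IsPowerTorsion I (Dual.HD A X i)

/-- Cohomology of a complex. -/
noncomputable def hdQ (P : DRing.Cx A) (i : ℤ) : Dual.HD A (DerivedCategory.Q.obj P) i ≃ₗ[A] P.homology i :=
  ((DerivedCategory.homologyFunctorFactors (ModuleCat.{u} A) i).app P).toLinearEquiv

theorem isPowerTorsion_of_equiv {I : Ideal A} {M N : Type*} [AddCommGroup M] [Module A M] [AddCommGroup N]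
    [Module A N] (e : M ≃ₗ[A] N) (h : LocCoh.IsPowerTorsion I M) : LocCoh.IsPowerTorsion I N := fun y => by
  obtain ⟨n, hn⟩ := h (e.symm y)
  exact ⟨n, fun a ha => e.symm.injective (by rw [map_smul, hn a ha, map_zero])⟩

theorem Tors.of_iso {I : Ideal A} {X Y : Dual.D A} (e : X ≅ Y) (h : Tors I X) : Tors I Y := fun i =>
  isPowerTorsion_of_equiv (((DerivedCategory.homologyFunctor (ModuleCat.{u} A) i).mapIso e).toLinearEquiv) (h i)

theorem tors_Q_iff {I : Ideal A} (P : DRing.Cx A) :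
    Tors I (DerivedCategory.Q.obj P) ↔ ∀ i : ℤ, LocCoh.IsPowerTorsion I (P.homology i) :=
  forall_congr' fun i => ⟨isPowerTorsion_of_equiv (hdQ P i), isPowerTorsion_of_equiv (hdQ P i).symm⟩

theorem htor_of_tors {I : Ideal A} {P : DRing.Cx A} (h : Tors I (DerivedCategory.Q.obj P)) {g : A} (hg : g ∈ I) :
    HTor g ([] : List A) P :=
  htor_nil fun j y => by
    obtain ⟨n, hn⟩ := (tors_Q_iff P).1 h j y
    exact ⟨n, hn _ (Ideal.pow_mem_pow hg n)⟩

variable [IsNoetherianRing A]

/-- A model with injective terms. -/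
theorem exists_model (K : Dual.D A) : ∃ (J : DRing.Cx A) (_ : DerivedCategory.Q.obj J ≅ K),
    J.IsKInjective ∧ (∀ n, Module.Injective A (J.X n)) ∧ ∀ s : List A, AdC J s := by
  obtain ⟨J, σ, h1, h2, -, h4⟩ := exists_kInj_res (DerivedCategory.Q.objPreimage K)
  exact ⟨J, (asIso (DerivedCategory.Q.map σ)).symm ≪≫ DerivedCategory.Q.objObjPreimageIso K, h1,
    fun n => haveI := h4 n; Module.injective_module_of_injective_object A (J.X n), adC_of_injective J h4⟩

variable (I : Ideal A) [DRing.HasRgammaI I]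

theorem tors_RgammaI (K : Dual.D A) : Tors I ((DRing.RgammaI I).obj K) := by
  obtain ⟨J, e, hJ, -, -⟩ := exists_model K
  haveI := isIso_theta_kInj I J hJ
  refine Tors.of_iso (asIso (theta I J) ≪≫ (DRing.RgammaI I).mapIso e) ?_
  exact (tors_Q_iff _).2 fun i => isPowerTorsion_homology_gc I J i

theorem isIso_ε (K : Dual.D A) (hK : Tors I K) : IsIso ((DRing.RgammaIε I).app K) := by
  obtain ⟨J, e, hJ, -, hJs⟩ := exists_model K
  obtain ⟨s, hs⟩ := exists_list I
  haveI := isIso_theta_kInj I J hJ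
  haveI : QuasiIso (gcι I J) := by
    subst hs
    exact quasiIso_gcι s (hJs s) fun g hg => htor_of_tors (hK.of_iso e.symm) (Ideal.subset_span hg)
  haveI : IsIso (theta I J ≫ (DRing.RgammaIε I).app (DerivedCategory.Q.obj J)) := by
    rw [theta_ε]; infer_instance
  haveI : IsIso ((DRing.RgammaIε I).app (DerivedCategory.Q.obj J)) := IsIso.of_isIso_comp_left (theta I J) _
  exact (NatTrans.isIso_app_iff_of_iso _ e).1 inferInstance

theorem isIso_map_ε (K : Dual.D A) : IsIso ((DRing.RgammaI I).map ((DRing.RgammaIε I).app K)) := by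
  obtain ⟨J, e, hJ, hJi, hJs⟩ := exists_model K
  obtain ⟨s, hs⟩ := exists_list I
  haveI := isIso_theta_kInj I J hJ
  haveI : ∀ n, Module.Injective A ((GC I J).X n) := fun n =>
    haveI := hJi n
    LocCoh.injective_powTorsion I (J.X n)
  haveI := isIso_theta hs (GC I J) fun n => ad_of_injective ((GC I J).X n) s
  haveI : ∀ i, IsIso ((gcMap I (gcι I J)).f i) := fun i =>
    (ConcreteCategory.isIso_iff_bijective _).2 ⟨fun x y h => Subtype.ext h, fun y =>
      ⟨⟨y, ⟨y.2.choose, fun a ha => Subtype.ext (y.2.choose_spec a ha)⟩⟩, Subtype.ext rfl⟩⟩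
  haveI := HomologicalComplex.Hom.isIso_of_components (gcMap I (gcι I J))
  haveI : IsIso (theta I (GC I J) ≫ (DRing.RgammaI I).map (DerivedCategory.Q.map (gcι I J))) := by
    rw [← theta_naturality]; infer_instance
  haveI : IsIso ((DRing.RgammaI I).map (DerivedCategory.Q.map (gcι I J))) :=
    IsIso.of_isIso_comp_left (theta I (GC I J)) _
  haveI : IsIso ((DRing.RgammaI I).map ((DRing.RgammaIε I).app (DerivedCategory.Q.obj J))) := by
    have h := congrArg (DRing.RgammaI I).map (theta_ε I J)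
    rw [Functor.map_comp] at h
    haveI : IsIso ((DRing.RgammaI I).map (theta I J) ≫
        (DRing.RgammaI I).map ((DRing.RgammaIε I).app (DerivedCategory.Q.obj J))) := by
      rw [h]; infer_instance
    exact IsIso.of_isIso_comp_left ((DRing.RgammaI I).map (theta I J)) _
  have hn := congrArg (DRing.RgammaI I).map ((DRing.RgammaIε I).naturality e.hom)
  rw [Functor.map_comp, Functor.map_comp] at hn
  haveI : IsIso ((DRing.RgammaI I).map ((DRing.RgammaI I).map e.hom) ≫
      (DRing.RgammaI I).map ((DRing.RgammaIε I).app K)) := by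
    rw [hn]; infer_instance
  exact IsIso.of_isIso_comp_left ((DRing.RgammaI I).map ((DRing.RgammaI I).map e.hom)) _

/-- Universal property of `ε`. -/
theorem bijective_comp_ε {L : Dual.D A} (hL : Tors I L) (K : Dual.D A) :
    Function.Bijective (fun ψ : L ⟶ (DRing.RgammaI I).obj K => ψ ≫ (DRing.RgammaIε I).app K) := by
  haveI := isIso_ε I L hL
  haveI := isIso_map_ε I K
  refine ⟨(injective_iff_map_eq_zero (Preadditive.rightComp L ((DRing.RgammaIε I).app K))).2 fun ψ hψ => ?_,
    fun φ => ⟨inv ((DRing.RgammaIε I).app L) ≫ (DRing.RgammaI I).map φ, ?_⟩⟩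
  · have hψ' : ψ ≫ (DRing.RgammaIε I).app K = (0 : L ⟶ (DRing.RgammaI I).obj K) ≫ (DRing.RgammaIε I).app K :=
      hψ.trans zero_comp.symm
    have h1 : (DRing.RgammaI I).map ψ = (DRing.RgammaI I).map (0 : L ⟶ (DRing.RgammaI I).obj K) :=
      (cancel_mono ((DRing.RgammaI I).map ((DRing.RgammaIε I).app K))).1
        (((DRing.RgammaI I).map_comp _ _).symm.trans ((congrArg _ hψ').trans ((DRing.RgammaI I).map_comp _ _)))
    exact (cancel_epi ((DRing.RgammaIε I).app L)).1 (((DRing.RgammaIε I).naturality ψ).symm.trans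
      ((congrArg (· ≫ _) h1).trans ((DRing.RgammaIε I).naturality _)))
  · show (_ ≫ _) ≫ _ = φ
    rw [Category.assoc, NatTrans.naturality, IsIso.inv_hom_id_assoc]
    rfl

/-- The coreflection adjunction. -/
theorem exists_adjunction : ∃ h : ∀ K : Dual.D A, Tors I ((DRing.RgammaI I).obj K),
    Nonempty (ObjectProperty.ι (Tors I) ⊣ ObjectProperty.lift (Tors I) (DRing.RgammaI I) h) := by
  refine ⟨tors_RgammaI I, ⟨Adjunction.mkOfHomEquiv
    { homEquiv := fun X K => ((Equiv.ofBijective _ (bijective_comp_ε I X.2 K)).symm.trans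
        ((ObjectProperty.fullyFaithfulι (Tors I)).homEquiv (X := X) (Y := ⟨_, tors_RgammaI I K⟩)).symm)
      homEquiv_naturality_left_symm := ?_
      homEquiv_naturality_right := ?_ }⟩⟩
  · intro X' X K f g
    show (f.hom ≫ g.hom) ≫ (DRing.RgammaIε I).app K = f.hom ≫ g.hom ≫ (DRing.RgammaIε I).app K
    exact Category.assoc _ _ _
  · intro X K K' f g
    refine (ObjectProperty.fullyFaithfulι (Tors I)).map_injective ?_
    refine (bijective_comp_ε I X.2 K').1 ?_
    have h1 := (Equiv.ofBijective _ (bijective_comp_ε I X.2 K')).apply_symm_apply (f ≫ g)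
    have h2 := (Equiv.ofBijective _ (bijective_comp_ε I X.2 K)).apply_symm_apply f
    refine h1.trans ?_
    show f ≫ g = (_ ≫ (DRing.RgammaI I).map g) ≫ (DRing.RgammaIε I).app K'
    rw [Category.assoc]
    erw [(DRing.RgammaIε I).naturality g]
    exact (congrArg (· ≫ g) h2.symm).trans (Category.assoc _ _ _)

omit [IsNoetherianRing A] in
theorem mem_tor_of_forall {M : Type u} [AddCommGroup M] [Module A M] (y : M) :
    ∀ s : List A, (∀ g ∈ s, ∃ a : ℕ, g ^ a • y = 0) → y ∈ tor s M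
  | [], _ => mem_tor_nil y
  | f :: t, h => mem_tor_cons.2 ⟨mem_tor_of_forall y t fun g hg => h g (List.mem_cons_of_mem _ hg),
      h f List.mem_cons_self⟩

/-- `RΓ_J` preserves `I`-power torsion cohomology. -/
theorem Tors.gamma {I J : Ideal A} [DRing.HasRgammaI J] {X : Dual.D A} (h : Tors I X) :
    Tors I ((DRing.RgammaI J).obj X) := by
  obtain ⟨P, e, hP, -, hPs⟩ := exists_model X
  obtain ⟨sI, rfl⟩ := exists_list I
  obtain ⟨sJ, rfl⟩ := exists_list J
  haveI := isIso_theta_kInj (Ideal.ofList sJ) P hP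
  refine Tors.of_iso (asIso (theta (Ideal.ofList sJ) P) ≪≫ (DRing.RgammaI (Ideal.ofList sJ)).mapIso e) ?_
  refine (tors_Q_iff _).2 fun i y => mem_tor_of_forall y sI fun g hg => ?_
  exact homology_of_htor (htor_of_list (htor_of_tors (h.of_iso e.symm) (Ideal.subset_span hg)) sJ (hPs sJ)) i y

omit [IsNoetherianRing A] in
theorem tors_sup {I J : Ideal A} {X : Dual.D A} : Tors (I ⊔ J) X ↔ Tors I X ∧ Tors J X := by
  refine ⟨fun h => ⟨fun i y => ?_, fun i y => ?_⟩, fun ⟨h1, h2⟩ i y => ?_⟩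
  · obtain ⟨n, hn⟩ := h i y
    exact ⟨n, fun a ha => hn a (Ideal.pow_right_mono le_sup_left n ha)⟩
  · obtain ⟨n, hn⟩ := h i y
    exact ⟨n, fun a ha => hn a (Ideal.pow_right_mono le_sup_right n ha)⟩
  · obtain ⟨n, hn⟩ := h1 i y
    obtain ⟨m, hm⟩ := h2 i y
    refine ⟨n + m, fun a ha => ?_⟩
    obtain ⟨b, hb, c, hc, rfl⟩ := Submodule.mem_sup.1 (Ideal.sup_pow_add_le_pow_sup_pow ha)
    rw [add_smul, hn b hb, hm c hc, add_zero]

/-- `RΓ_J RΓ_I = RΓ_{I + J}`. -/
theorem nonempty_comp {I J : Ideal A} [DRing.HasRgammaI I] [DRing.HasRgammaI J] [DRing.HasRgammaI (I ⊔ J)]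
    (K : Dual.D A) : Nonempty ((DRing.RgammaI J).obj ((DRing.RgammaI I).obj K) ≅ (DRing.RgammaI (I ⊔ J)).obj K) := by
  let Y := (DRing.RgammaI J).obj ((DRing.RgammaI I).obj K)
  let ε := (DRing.RgammaIε J).app ((DRing.RgammaI I).obj K) ≫ (DRing.RgammaIε I).app K
  let Z := (DRing.RgammaI (I ⊔ J)).obj K
  let η := (DRing.RgammaIε (I ⊔ J)).app K
  have hY : Tors (I ⊔ J) Y := tors_sup.2 ⟨(tors_RgammaI I K).gamma, tors_RgammaI J _⟩
  have hb : ∀ {L : Dual.D A}, Tors (I ⊔ J) L → Function.Bijective (fun ψ : L ⟶ Y => ψ ≫ ε) := by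
    intro L hL
    have e : (fun ψ : L ⟶ Y => ψ ≫ ε) = (fun ψ => ψ ≫ (DRing.RgammaIε I).app K) ∘
        (fun ψ : L ⟶ Y => ψ ≫ (DRing.RgammaIε J).app _) := funext fun ψ => (Category.assoc _ _ _).symm
    rw [e]
    exact (bijective_comp_ε I (tors_sup.1 hL).1 K).comp (bijective_comp_ε J (tors_sup.1 hL).2 _)
  obtain ⟨a, ha⟩ := (bijective_comp_ε (I ⊔ J) hY K).2 ε
  obtain ⟨b, hb'⟩ := (hb (tors_RgammaI (I ⊔ J) K)).2 η
  dsimp only at ha hb'
  refine ⟨⟨a, b, (hb hY).1 ?_, (bijective_comp_ε (I ⊔ J) (tors_RgammaI (I ⊔ J) K) K).1 ?_⟩⟩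
  · dsimp only; rw [Category.assoc, hb', ha, Category.id_comp]
  · dsimp only; rw [Category.assoc, ha, hb', Category.id_comp]

end Groth.Agent.CAlgH3.RGam
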