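import Groth.Agent.CAlgH3.RGam.Complex
import Groth.Agent.DCat.KInjRes
import Groth.Agent.DCat.ModGen
import Groth.Agent.LocCoh.BSeq

/-!
`RΓ_I` over a Noetherian ring computed by adapted complexes; torsion cohomology.
-/

set_option autoImplicit false
set_option backward.isDefEq.respectTransparency false
set_option backward.defeqAttrib.useBackward true
set_option linter.style.haveILetI false

universe u

open CategoryTheory CategoryTheory.Limits

attribute [local instance] HasDerivedCategory.standard

namespace Groth.Agent.CAlgH3.RGam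

open Groth.Agent.DualLib.GammaHDI (GC)
open Groth.Agent.DCat

variable {A : Type u} [CommRing A]

/-- The comparison `Γ_I P → RΓ_I P`. -/
noncomputable def theta (I : Ideal A) [DRing.HasRgammaI I] (P : DRing.Cx A) :
    DerivedCategory.Q.obj (GC I P) ⟶ (DRing.RgammaI I).obj (DerivedCategory.Q.obj P) :=
  (DerivedCategory.quotientCompQhIso (ModuleCat.{u} A)).inv.app (GC I P) ≫
    ((DRing.gammaIKh I).totalRightDerivedUnit DerivedCategory.Qh
      (HomotopyCategory.quasiIso (ModuleCat.{u} A) (ComplexShape.up ℤ))).app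
        ((HomotopyCategory.quotient (ModuleCat.{u} A) (ComplexShape.up ℤ)).obj P) ≫
    (DRing.RgammaI I).map ((DerivedCategory.quotientCompQhIso (ModuleCat.{u} A)).hom.app P)

theorem theta_naturality (I : Ideal A) [DRing.HasRgammaI I] {P Q : DRing.Cx A} (σ : P ⟶ Q) :
    DerivedCategory.Q.map (gcMap I σ) ≫ theta I Q =
      theta I P ≫ (DRing.RgammaI I).map (DerivedCategory.Q.map σ) := by
  have h := ((DRing.gammaIKh I).totalRightDerivedUnit DerivedCategory.Qh
      (HomotopyCategory.quasiIso (ModuleCat.{u} A) (ComplexShape.up ℤ))).naturality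
        ((HomotopyCategory.quotient (ModuleCat.{u} A) (ComplexShape.up ℤ)).map σ)
  simp only [theta, Category.assoc]
  rw [reassoc_of% (DerivedCategory.quotientCompQhIso_inv_naturality (gcMap I σ)), ← Functor.map_comp,
    ← DerivedCategory.quotientCompQhIso_hom_naturality σ, Functor.map_comp]
  erw [reassoc_of% h]

theorem gammaIτ_app (I : Ideal A) (P : DRing.Cx A) :
    (DRing.gammaIτ I).app ((HomotopyCategory.quotient (ModuleCat.{u} A) (ComplexShape.up ℤ)).obj P) =
      DerivedCategory.Qh.map ((HomotopyCategory.quotient (ModuleCat.{u} A) (ComplexShape.up ℤ)).map (gcι I P)) := by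
  show (DRing.gammaIτ0 I).app P = _
  simp only [DRing.gammaIτ0, Functor.mapHomotopyCategoryFactors, NatTrans.comp_app, Functor.associator_inv_app,
    Functor.associator_hom_app, Functor.whiskerRight_app, Functor.leftUnitor_hom_app, Category.id_comp,
    Category.comp_id, Functor.comp_map]
  erw [CategoryTheory.Functor.map_id, Category.id_comp, Category.comp_id]
  erw [← Functor.map_comp, ← Functor.map_comp]
  rfl

theorem theta_ε (I : Ideal A) [DRing.HasRgammaI I] (P : DRing.Cx A) :
    theta I P ≫ (DRing.RgammaIε I).app (DerivedCategory.Q.obj P) = DerivedCategory.Q.map (gcι I P) := by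
  have h := (DRing.RgammaI I).rightDerived_fac_app
    ((DRing.gammaIKh I).totalRightDerivedUnit DerivedCategory.Qh
      (HomotopyCategory.quasiIso (ModuleCat.{u} A) (ComplexShape.up ℤ)))
    (HomotopyCategory.quasiIso (ModuleCat.{u} A) (ComplexShape.up ℤ)) (𝟭 (Dual.D A))
    (DRing.gammaIτ I ≫ (Functor.rightUnitor _).inv)
    ((HomotopyCategory.quotient (ModuleCat.{u} A) (ComplexShape.up ℤ)).obj P)
  simp only [theta, Category.assoc]
  erw [(DRing.RgammaIε I).naturality, reassoc_of% h]
  simp only [NatTrans.comp_app, Functor.rightUnitor_inv_app, gammaIτ_app]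
  erw [Category.comp_id]
  show (DerivedCategory.quotientCompQhIso (ModuleCat.{u} A)).inv.app (GC I P) ≫
      DerivedCategory.Qh.map ((HomotopyCategory.quotient (ModuleCat.{u} A) (ComplexShape.up ℤ)).map (gcι I P)) ≫
        (DerivedCategory.quotientCompQhIso (ModuleCat.{u} A)).hom.app P = _
  rw [DerivedCategory.quotientCompQhIso_hom_naturality (gcι I P)]
  exact Iso.inv_hom_id_app_assoc _ _ _

/-- Terms of an injective module over a Noetherian ring are divisible. -/
theorem ad_of_injective [IsNoetherianRing A] (E : Type u) [AddCommGroup E] [Module A E] [Module.Injective A E] :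
    ∀ s : List A, Ad E s
  | [] => trivial
  | f :: t => by
    refine ⟨ad_of_injective E t, fun m => ?_⟩
    haveI : Module.Injective A (tor t E) := LocCoh.injective_powTorsion (Ideal.ofList t) E
    obtain ⟨U, -, hU⟩ := LocCoh.exists_loc_injective f (tor t E)
    obtain ⟨u, hu⟩ := hU.2 (IsLocalizedModule.mk' (LocCoh.lm f (tor t E)) m (⟨f, Submonoid.mem_powers f⟩ : Submonoid.powers f))
    rw [LinearMap.comp_apply, eq_comm, IsLocalizedModule.mk'_eq_iff, Submonoid.smul_def, ← map_smul] at hu
    obtain ⟨⟨_, k, rfl⟩, hc⟩ := (IsLocalizedModule.eq_iff_exists (Submonoid.powers f) _).1 hu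
    refine ⟨(u : tor t E), k, ?_⟩
    rw [pow_succ, mul_smul]
    exact hc

theorem adC_of_injective [IsNoetherianRing A] (P : DRing.Cx A) (hP : ∀ n, Injective (P.X n)) (s : List A) :
    AdC P s := fun i => by
  haveI := hP i
  haveI : Module.Injective A (P.X i) := Module.injective_module_of_injective_object A (P.X i)
  exact ad_of_injective (P.X i) s

/-- A K-injective resolution with injective terms. -/
theorem exists_res [IsNoetherianRing A] (P : DRing.Cx A) : ∃ (J : DRing.Cx A) (σ : P ⟶ J), J.IsKInjective ∧
    QuasiIso σ ∧ ∀ s : List A, AdC J s := by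
  obtain ⟨J, σ, h1, h2, -, h4⟩ := exists_kInj_res P
  exact ⟨J, σ, h1, h2, adC_of_injective J h4⟩

theorem isIso_theta_kInj (I : Ideal A) [DRing.HasRgammaI I] (J : DRing.Cx A) (hJ : J.IsKInjective) :
    IsIso (theta I J) := by
  haveI := isIso_unit_of_kInj (enoughKInj_of_isGrothendieckAbelian (A := ModuleCat.{u} A)) (DRing.gammaIKh I) J hJ
  dsimp only [theta]
  infer_instance

variable [IsNoetherianRing A] {I : Ideal A} [DRing.HasRgammaI I]

/-- Adapted complexes compute `RΓ_I`. -/
theorem isIso_theta {s : List A} (hs : Ideal.ofList s = I) (P : DRing.Cx A) (hP : AdC P s) :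
    IsIso (theta I P) := by
  subst hs
  obtain ⟨J, σ, hJ, hσ, hJs⟩ := exists_res P
  haveI := quasiIso_gcMap σ hP (hJs s)
  haveI := isIso_theta_kInj (Ideal.ofList s) J hJ
  haveI : IsIso (theta (Ideal.ofList s) P ≫ (DRing.RgammaI (Ideal.ofList s)).map (DerivedCategory.Q.map σ)) := by
    rw [← theta_naturality]; infer_instance
  exact IsIso.of_isIso_comp_right _ ((DRing.RgammaI (Ideal.ofList s)).map (DerivedCategory.Q.map σ))

theorem exists_list (I : Ideal A) : ∃ s : List A, Ideal.ofList s = I := by
  obtain ⟨S, hS⟩ := IsNoetherian.noetherian I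
  exact ⟨S.toList, by rw [Ideal.ofList, ← hS]; congr 1; ext; simp⟩

end Groth.Agent.CAlgH3.RGam
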