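import Groth.Agent.CAlgH3.RGam.CechModel
import Groth.Agent.DCat.LTensorModule

/-!
Derived base change of `RΓ_I` of the structure module, along an arbitrary ring map with Noetherian target.
-/

set_option autoImplicit false
set_option backward.isDefEq.respectTransparency false
set_option backward.defeqAttrib.useBackward true
set_option linter.style.haveILetI false
universe u

open CategoryTheory CategoryTheory.Limits CategoryTheory.Pretriangulated
open Groth.Agent.CAlgH3.ExtCech Groth.Agent.CAlgH3.CechQis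
open scoped TensorProduct

attribute [local instance] HasDerivedCategory.standard

namespace Groth.Agent.CAlgH3.RGam

open CechF Groth.Agent.DCat Groth.Agent.DCat.DC

variable {A B : Type u} [CommRing A] [CommRing B] (φ : A →+* B)

/-- Termwise extension of scalars. -/
noncomputable abbrev extCxs : DRing.Cx A ⥤ DRing.Cx B :=
  (ModuleCat.extendScalars.{u, u, u} φ).mapHomologicalComplex (ComplexShape.up ℤ)

theorem subsingleton_X_gt : ∀ (t : List A) (M : ModuleCat.{u} A) (q : ℤ),
    (t.length : ℤ) < q → Subsingleton (((C t (𝟭 _)).obj M).X q)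
  | [], M, q, hq => (single_cases ((𝟭 (ModuleCat.{u} A)).obj M) q).resolve_left (by simp at hq; omega)
  | f :: t, M, q, hq => ⟨fun x y => cocone_ext (step f t (𝟭 _) M) (show q - 1 + 1 = q by omega)
      ((subsingleton_X_gt t M q (by simp at hq; omega)).elim _ _)
      ((subsingleton_X_gt t _ (q - 1) (by simp at hq; omega)).elim _ _)⟩

theorem flat_prod (X Y : Type u) [AddCommGroup X] [Module A X] [AddCommGroup Y] [Module A Y]
    [Module.Flat A X] [Module.Flat A Y] : Module.Flat A (X × Y) := by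
  rw [Module.Flat.iff_lTensor_preserves_injective_linearMap]
  intro N N' _ _ _ _ f hf
  have hc : (TensorProduct.prodLeft A A X Y N').toLinearMap ∘ₗ LinearMap.lTensor (X × Y) f =
      (LinearMap.prodMap (LinearMap.lTensor X f) (LinearMap.lTensor Y f)) ∘ₗ
        (TensorProduct.prodLeft A A X Y N).toLinearMap := by
    refine TensorProduct.ext' fun xy n => ?_
    obtain ⟨x, y⟩ := xy
    simp
  intro a b h
  refine (TensorProduct.prodLeft A A X Y N).injective ?_
  refine (Function.Injective.prodMap (Module.Flat.lTensor_preserves_injective_linearMap f hf)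
    (Module.Flat.lTensor_preserves_injective_linearMap f hf)) ?_
  exact (LinearMap.congr_fun hc a).symm.trans
    ((congrArg (TensorProduct.prodLeft A A X Y N') h).trans (LinearMap.congr_fun hc b))

theorem flat_loc (f : A) (M : ModuleCat.{u} A) [Module.Flat A M] : Module.Flat A ((loc f).obj M) := by
  show Module.Flat A (LocalizedModule (Submonoid.powers f) M)
  haveI : Module.Flat A (Localization (Submonoid.powers f)) := IsLocalization.flat _ (Submonoid.powers f)
  haveI : Module.Flat A (Localization (Submonoid.powers f) ⊗[A] M) :=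
    Module.Flat.trans A (Localization (Submonoid.powers f)) _
  exact Module.Flat.of_linearEquiv ((LocalizedModule.equivTensorProduct (Submonoid.powers f) M).restrictScalars A)

theorem flat_C : ∀ (t : List A) (M : ModuleCat.{u} A), Module.Flat A M → ∀ q : ℤ,
    Module.Flat A (((C t (𝟭 _)).obj M).X q)
  | [], M, hM, q => by
    rcases single_cases ((𝟭 (ModuleCat.{u} A)).obj M) q with rfl | hs
    · exact Module.Flat.of_linearEquiv (R := A) (M := M) (s0 M)
    · haveI := hs
      show Module.Flat A (((HomologicalComplex.single (ModuleCat.{u} A) (ComplexShape.up ℤ) 0).obj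
        ((𝟭 (ModuleCat.{u} A)).obj M)).X q)
      infer_instance
  | f :: t, M, hM, q => by
    haveI := flat_C t M hM q
    haveI := flat_C t ((loc f).obj M) (flat_loc f M) (q - 1)
    haveI := flat_prod (A := A) (((C t (𝟭 _)).obj M).X q) (((C t (𝟭 _)).obj ((loc f).obj M)).X (q - 1))
    let ψ := step f t (𝟭 _) M
    have hq : q - 1 + 1 = q := by omega
    exact Module.Flat.of_linearEquiv (R := A)
      (M := ((C t (𝟭 _)).obj M).X q × ((C t (𝟭 _)).obj ((loc f).obj M)).X (q - 1))
      (LinearEquiv.ofBijective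
        { toFun := fun x => (afst ψ x, asnd ψ hq x)
          map_add' := fun x y => Prod.ext (afst_add ψ x y) (asnd_add ψ hq x y)
          map_smul' := fun r x => Prod.ext (afst_smul ψ r x) (asnd_smul ψ hq r x) }
        ⟨fun x y h => cocone_ext ψ hq (congrArg Prod.fst h) (congrArg Prod.snd h),
          fun y => ⟨amk ψ hq y.1 y.2, Prod.ext (afst_amk ψ hq _ _) (asnd_amk ψ hq _ _)⟩⟩)

theorem isKFlat_C (t : List A) (M : ModuleCat.{u} A) (hM : Module.Flat A M) :
    IsKFlatFor (modT A) ((C t (𝟭 _)).obj M) :=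
  isKFlatFor_of_vanishesAbove _ (t.length : ℤ) (fun n hn => ModuleCat.isZero_iff_subsingleton.2
    (subsingleton_X_gt t M n hn)) (flat_C t M hM)

/-- Termwise localisation of the Čech complex at one of its elements is exact. -/
theorem acyclic_loc_C {g : A} {t : List A} (hg : g ∈ t) (M : ModuleCat.{u} A) :
    (((loc g).mapHomologicalComplex (ComplexShape.up ℤ)).obj ((C t (𝟭 _)).obj M)).Acyclic := by
  intro q
  rw [HomologicalComplex.exactAt_iff' _ (q - 1) q (q + 1) (by simp) (by simp), ShortComplex.moduleCat_exact_iff]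
  intro w hw
  let K := (C t (𝟭 _)).obj M
  let S := Submonoid.powers g
  let μ : ∀ i, K.X i →ₗ[A] LocalizedModule S (K.X i) := fun i => LocalizedModule.mkLinearMap S (K.X i)
  let D : ∀ i j, LocalizedModule S (K.X i) →ₗ[A] LocalizedModule S (K.X j) := fun i j =>
    IsLocalizedModule.map S (μ i) (μ j) (K.d i j).hom
  have hD : ∀ i j x, D i j (μ i x) = μ j ((K.d i j).hom x) := fun i j x =>
    IsLocalizedModule.map_apply S (μ i) (μ j) (K.d i j).hom x
  obtain ⟨⟨z, c⟩, hz⟩ := IsLocalizedModule.surj S (μ q) w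
  have h0 : μ (q + 1) ((K.d q (q + 1)).hom z) = 0 := by
    rw [← hD, ← hz, Submonoid.smul_def, map_smul]
    exact (congrArg ((c : A) • ·) hw).trans (smul_zero _)
  obtain ⟨c', hc'⟩ := (IsLocalizedModule.eq_zero_iff S (μ (q + 1))).1 h0
  obtain ⟨k, y, hy⟩ := CechF.tors g t hg M (q - 1) q (q + 1) (by omega) rfl ((c' : A) • z) (by
    rw [map_smul]; exact hc')
  let e : S := ⟨g ^ k, k, rfl⟩ * c' * c
  obtain ⟨x, hx⟩ := ((Module.End.isUnit_iff _).1 (IsLocalizedModule.map_units (μ (q - 1)) e)).2 (μ (q - 1) y)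
  refine ⟨x, ((Module.End.isUnit_iff _).1 (IsLocalizedModule.map_units (μ q) e)).1 ?_⟩
  show (e : A) • D (q - 1) q x = (e : A) • w
  have hx' : (e : A) • x = μ (q - 1) y := hx
  rw [← map_smul, hx', hD, hy]
  show μ q (g ^ k • (c' : A) • z) = (g ^ k * (c' : A) * (c : A)) • w
  rw [map_smul, map_smul, ← hz, Submonoid.smul_def, mul_smul, mul_smul]

theorem ext_map_smul {M N : ModuleCat.{u} A} (u : M ⟶ N) (a : A) :
    (ModuleCat.extendScalars.{u, u, u} φ).map (a • u) = φ a • (ModuleCat.extendScalars.{u, u, u} φ).map u := by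
  letI := φ.toAlgebra
  apply ModuleCat.hom_ext
  refine LinearMap.ext fun x => ?_
  show (a • u.hom).baseChange B x = algebraMap A B a • u.hom.baseChange B x
  rw [LinearMap.baseChange_smul, LinearMap.smul_apply, algebraMap_smul]

theorem nIso_ext (g : A) (M : ModuleCat.{u} A) :
    NIso (φ g) ((ModuleCat.extendScalars.{u, u, u} φ).map ((lu g).app M)).hom := by
  letI := φ.toAlgebra
  let S := Submonoid.powers g
  let v := LocalizedModule.mkLinearMap S M
  let r := TensorProduct.AlgebraTensorModule.rTensor A B v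
  haveI : IsLocalizedModule S r := inferInstance
  let σ := TensorProduct.comm A M B
  let σ' := TensorProduct.comm A (LocalizedModule S M) B
  have hc : ∀ x : M ⊗[A] B, v.lTensor B (σ x) = σ' (r x) := fun x => by
    induction x with
    | zero => simp
    | tmul m b => rfl
    | add a b ha hb => simp only [map_add, ha, hb]
  have hp : ∀ (n : ℕ), φ g ^ n = algebraMap A B (g ^ n) := fun n => (map_pow φ g n).symm
  refine ⟨fun x hx => ?_, fun y => ?_⟩
  · change B ⊗[A] M at x
    change v.lTensor B x = 0 at hx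
    obtain ⟨x', rfl⟩ := σ.surjective x
    rw [hc] at hx
    obtain ⟨⟨_, n, rfl⟩, hn⟩ := (IsLocalizedModule.eq_zero_iff S r).1
      (σ'.map_eq_zero_iff.1 hx)
    refine ⟨n, ?_⟩
    show φ g ^ n • (σ x' : B ⊗[A] M) = 0
    rw [hp, algebraMap_smul, ← map_smul]
    exact (congrArg σ hn).trans (map_zero _)
  · change B ⊗[A] LocalizedModule S M at y
    obtain ⟨y', rfl⟩ := σ'.surjective y
    obtain ⟨⟨x', ⟨_, n, rfl⟩⟩, hx⟩ := IsLocalizedModule.surj S r y'
    refine ⟨n, σ x', ?_⟩
    show φ g ^ n • (σ' y' : B ⊗[A] LocalizedModule S M) = v.lTensor B (σ x')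
    rw [hp, algebraMap_smul, ← map_smul, hc]
    exact congrArg σ' hx

/-- Torsion of the extended Čech complex of a flat module. -/
theorem tors_extC {g : A} {t : List A} (hg : g ∈ t) (M : ModuleCat.{u} A) (hM : Module.Flat A M) :
    CechExt.Tors (φ g) ((extCxs φ).obj ((C t (𝟭 _)).obj M)) := by
  let K := (C t (𝟭 _)).obj M
  let L := ((loc g).mapHomologicalComplex (ComplexShape.up ℤ)).obj K
  have hL : IsKFlatFor (modT A) L := isKFlatFor_of_vanishesAbove _ (t.length : ℤ)
    (fun n hn => (loc g).map_isZero (ModuleCat.isZero_iff_subsingleton.2 (subsingleton_X_gt t M n hn)))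
    (fun n => haveI := flat_C t M hM n; flat_loc g _)
  haveI : QuasiIso (0 : L ⟶ L) := ⟨fun i => (quasiIsoAt_iff_exactAt (0 : L ⟶ L) i (acyclic_loc_C hg M i)).2
    (acyclic_loc_C hg M i)⟩
  haveI hq := quasiIso_extendScalars_of_kflat φ hL hL (0 : L ⟶ L)
  have hE : ((extCxs φ).obj L).Acyclic := fun i => by
    have h1 : IsIso (HomologicalComplex.homologyMap ((extCxs φ).map (0 : L ⟶ L)) i) := inferInstance
    rw [Functor.map_zero, HomologicalComplex.homologyMap_zero] at h1
    rw [HomologicalComplex.exactAt_iff_isZero_homology, IsZero.iff_id_eq_zero]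
    exact (@IsIso.hom_inv_id _ _ _ _ _ h1).symm.trans zero_comp
  let F := ModuleCat.extendScalars.{u, u, u} φ
  let v : (extCxs φ).obj K ⟶ (extCxs φ).obj L :=
    { f := fun i => F.map ((lu g).app (K.X i))
      comm' := fun i j _ => by
        show F.map ((lu g).app (K.X i)) ≫ F.map ((loc g).map (K.d i j)) = F.map (K.d i j) ≫ F.map ((lu g).app (K.X j))
        rw [← F.map_comp, ← F.map_comp]
        exact congrArg F.map ((lu g).naturality (K.d i j)).symm }
  have hv : ∀ i, NIso (φ g) (v.f i).hom := fun i => nIso_ext φ g (K.X i)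
  intro p q r hp hr z hz
  have h := hE q
  rw [HomologicalComplex.exactAt_iff' _ p q r (by simp; omega) (by simp; omega), ShortComplex.moduleCat_exact_iff] at h
  obtain ⟨y', hy'⟩ := h ((v.f q).hom z) (by
    show (((extCxs φ).obj L).d q r).hom ((v.f q).hom z) = 0
    rw [comm_apply v q r z, hz, map_zero])
  change (((extCxs φ).obj L).d p q).hom y' = (v.f q).hom z at hy'
  obtain ⟨n, y, hy⟩ := (hv p).2 y'
  obtain ⟨m, hm⟩ := (hv q).1 (φ g ^ n • z - (((extCxs φ).obj K).d p q).hom y) (by
    rw [map_sub, map_smul, ← hy', ← map_smul, hy, ← comm_apply v p q y, sub_self])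
  refine ⟨m + n, φ g ^ m • y, ?_⟩
  rw [smul_sub, ← mul_smul, ← pow_add, sub_eq_zero] at hm
  rw [map_smul, hm]

theorem finv_extC_loc (f : A) (t : List A) (M : ModuleCat.{u} A) :
    FInv (φ f) (DerivedCategory.Q.obj ((extCxs φ).obj ((C t (𝟭 _)).obj ((loc f).obj M)))) := by
  let K := (C t (𝟭 _)).obj ((loc f).obj M)
  show IsIso (φ f • 𝟙 (DerivedCategory.Q.obj ((extCxs φ).obj K)))
  haveI : ∀ q, IsIso ((φ f • 𝟙 ((extCxs φ).obj K) : (extCxs φ).obj K ⟶ _).f q) := fun q => by
    haveI : IsIso (f • 𝟙 (K.X q)) :=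
      (ConcreteCategory.isIso_iff_bijective _).2 (bijective_smul_C f t _ ((Module.End.isUnit_iff _).1
        (IsLocalizedModule.map_units (LocalizedModule.mkLinearMap (Submonoid.powers f) M)
          (⟨f, Submonoid.mem_powers f⟩ : Submonoid.powers f))) q)
    have he : (ModuleCat.extendScalars.{u, u, u} φ).map (f • 𝟙 (K.X q)) =
        φ f • 𝟙 (((extCxs φ).obj K).X q) := by
      rw [ext_map_smul, CategoryTheory.Functor.map_id]; rfl
    show IsIso (φ f • 𝟙 (((extCxs φ).obj K).X q))
    rw [← he]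
    infer_instance
  haveI := HomologicalComplex.Hom.isIso_of_components (φ f • 𝟙 ((extCxs φ).obj K))
  rw [← DerivedCategory.Q.map_id, ← DerivedCategory.Q.map_smul]
  infer_instance

theorem distinguished_ext_cocone {K L : DRing.Cx A} (ψ : K ⟶ L) :
    DerivedCategory.Q.mapTriangle.obj ((extCxs φ).mapTriangle.obj (CochainComplex.mappingCocone.triangle ψ)) ∈
      distTriang (Dual.D B) := by
  rw [rotate_distinguished_triangle]
  refine isomorphic_distinguished _ ((DerivedCategory.mem_distTriang_iff _).2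
    ⟨_, _, (extCxs φ).map ψ, ⟨Iso.refl _⟩⟩) _ ?_
  exact ((DerivedCategory.Q.mapTriangleRotateIso).app _) ≪≫
    DerivedCategory.Q.mapTriangle.mapIso (((extCxs φ).mapTriangleRotateIso).app _ ≪≫
      (extCxs φ).mapTriangle.mapIso (CochainComplex.mappingCocone.rotateTriangleIso ψ) ≪≫
      CochainComplex.mappingCone.mapTriangleIso ψ (ModuleCat.extendScalars.{u, u, u} φ))

variable [IsNoetherianRing B] (J : Ideal B) [DRing.HasRgammaI J]

theorem bijective_comp_extAug : ∀ (t : List A), (∀ g ∈ t, φ g ∈ J) → ∀ (M : ModuleCat.{u} A) {L : Dual.D B},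
    Tors J L → Function.Bijective (fun ψ : L ⟶ DerivedCategory.Q.obj ((extCxs φ).obj ((C t (𝟭 _)).obj M)) =>
      ψ ≫ DerivedCategory.Q.map ((extCxs φ).map (aug (𝟭 _) t M)))
  | [], _, M, L, _ => by
    haveI : IsIso (aug (𝟭 _) ([] : List A) M) := inferInstanceAs (IsIso (𝟙 _))
    exact ⟨fun a b h => (cancel_mono (DerivedCategory.Q.map ((extCxs φ).map (aug (𝟭 _) ([] : List A) M)))).1 h,
      fun χ => ⟨χ ≫ inv (DerivedCategory.Q.map ((extCxs φ).map (aug (𝟭 _) ([] : List A) M))), by simp⟩⟩
  | f :: t, h, M, L, hL => by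
    let T := DerivedCategory.Q.mapTriangle.obj
      ((extCxs φ).mapTriangle.obj (CochainComplex.mappingCocone.triangle (step f t (𝟭 _) M)))
    have hT : T ∈ distTriang _ := distinguished_ext_cocone φ _
    have hf := h f List.mem_cons_self
    have hb : Function.Bijective (fun ψ : L ⟶ T.obj₁ => ψ ≫ T.mor₁) := by
      refine ⟨(injective_iff_map_eq_zero (Preadditive.rightComp L T.mor₁)).2 fun ψ hψ => ?_, fun χ => ?_⟩
      · obtain ⟨θ, hθ⟩ := Triangle.coyoneda_exact₂ _ (inv_rot_of_distTriang _ hT) ψ hψ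
        rw [hθ, eq_zero_of_tors_finv J hf ((finv_extC_loc φ f t M).shift (-1)) hL θ, zero_comp]
      · obtain ⟨θ, hθ⟩ := Triangle.coyoneda_exact₂ _ hT χ (eq_zero_of_tors_finv J hf (finv_extC_loc φ f t M) hL _)
        exact ⟨θ, hθ.symm⟩
    have e : (fun ψ : L ⟶ DerivedCategory.Q.obj ((extCxs φ).obj ((C (f :: t) (𝟭 _)).obj M)) =>
        ψ ≫ DerivedCategory.Q.map ((extCxs φ).map (aug (𝟭 _) (f :: t) M))) =
        (fun ψ => ψ ≫ DerivedCategory.Q.map ((extCxs φ).map (aug (𝟭 _) t M))) ∘
          (fun ψ : L ⟶ T.obj₁ => ψ ≫ T.mor₁) := funext fun ψ => by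
      show ψ ≫ DerivedCategory.Q.map ((extCxs φ).map
        (CochainComplex.mappingCocone.fst (step f t (𝟭 _) M) ≫ aug (𝟭 _) t M)) = _
      rw [Functor.map_comp, Functor.map_comp]
      exact (Category.assoc _ _ _).symm
    rw [e]
    exact (bijective_comp_extAug t (fun g hg => h g (List.mem_cons_of_mem _ hg)) M hL).comp hb

/-- Base change of the Čech model of a flat module computes `RΓ_J` of its extension. -/
theorem nonempty_extC_iso {s : List A} (hs : ∀ g ∈ s, φ g ∈ J) (hJ : J ≤ (Ideal.ofList (s.map φ)).radical)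
    (M : ModuleCat.{u} A) (hM : Module.Flat A M) :
    Nonempty (DerivedCategory.Q.obj ((extCxs φ).obj ((C s (𝟭 _)).obj M)) ≅
      (DRing.RgammaI J).obj (DerivedCategory.Q.obj ((extCxs φ).obj (single0 M)))) := by
  set X := DerivedCategory.Q.obj ((extCxs φ).obj ((C s (𝟭 _)).obj M))
  obtain ⟨N, hN⟩ := Ideal.exists_pow_le_of_le_radical_of_fg hJ (IsNoetherian.noetherian J)
  have hX : Tors J X := (tors_Q_iff _).2 fun i y => by
    have hy : y ∈ tor (s.map φ) _ := mem_tor_of_forall y (s.map φ) fun g' hg' => by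
      obtain ⟨g, hg, rfl⟩ := List.mem_map.1 hg'
      obtain ⟨z, rfl⟩ := cl_surjective _ i y
      obtain ⟨n, w, hw⟩ := tors_extC φ hg M hM (i - 1) i (i + 1) (by omega) rfl z.1 z.2
      exact ⟨n, by rw [← map_smul, cl_eq_zero_iff]; exact ⟨w, hw⟩⟩
    obtain ⟨n, hn⟩ := hy
    exact ⟨N * n, fun a ha => hn a (Ideal.pow_right_mono hN n (by rwa [← pow_mul]))⟩
  have hR := tors_RgammaI J (DerivedCategory.Q.obj ((extCxs φ).obj (single0 M)))
  obtain ⟨a, ha⟩ := (bijective_comp_ε J hX _).2 (DerivedCategory.Q.map ((extCxs φ).map (aug (𝟭 _) s M)))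
  obtain ⟨b, hb⟩ := (bijective_comp_extAug φ J s hs M hR).2 ((DRing.RgammaIε J).app _)
  dsimp only at ha hb
  refine ⟨⟨a, b, (bijective_comp_extAug φ J s hs M hX).1 ?_, (bijective_comp_ε J hR _).1 ?_⟩⟩
  · exact ((Category.assoc _ _ _).trans ((congrArg (a ≫ ·) hb).trans ha)).trans (Category.id_comp _).symm
  · exact ((Category.assoc _ _ _).trans ((congrArg (b ≫ ·) ha).trans hb)).trans (Category.id_comp _).symm

/-- Derived base change of `RΓ_I A` is `RΓ_J B` when `J` and `φ(I)` have the same radical. -/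
theorem nonempty_LBaseChange_RgammaI [IsNoetherianRing A] [DRing.HasLBaseChange φ] (I : Ideal A)
    [DRing.HasRgammaI I] (h1 : I.map φ ≤ J) (h2 : J ≤ (I.map φ).radical) :
    Nonempty ((DRing.LBaseChange φ).obj ((DRing.RgammaI I).obj (Dual.inD A A)) ≅
      (DRing.RgammaI J).obj (Dual.inD B B)) := by
  obtain ⟨s, rfl⟩ := exists_list I
  obtain ⟨e, -⟩ := exists_compare (Ideal.ofList s) rfl (ModuleCat.of A A)
  obtain ⟨e'⟩ := nonempty_extC_iso φ J (s := s)
    (fun g hg => h1 (Ideal.mem_map_of_mem φ (Ideal.subset_span hg))) (by rwa [← Ideal.map_ofList])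
    (ModuleCat.of A A) (inferInstanceAs (Module.Flat A A))
  letI := φ.toAlgebra
  let r : (ModuleCat.extendScalars.{u, u, u} φ).obj (ModuleCat.of A A) ≅ ModuleCat.of B B :=
    (TensorProduct.AlgebraTensorModule.rid A B B).toModuleIso
  exact ⟨(DRing.LBaseChange φ).mapIso ((DRing.RgammaI _).mapIso
      ((DerivedCategory.singleFunctorIsoCompQ _ 0).app _) ≪≫ e.symm) ≪≫
    lbaseChangeIso φ (isKFlat_C s _ (inferInstanceAs (Module.Flat A A))) ≪≫ e' ≪≫
    (DRing.RgammaI J).mapIso (DerivedCategory.Q.mapIso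
      ((HomologicalComplex.singleMapHomologicalComplex (ModuleCat.extendScalars.{u, u, u} φ)
        (ComplexShape.up ℤ) 0).app (ModuleCat.of A A) ≪≫
      (HomologicalComplex.single _ _ 0).mapIso r) ≪≫ ((DerivedCategory.singleFunctorIsoCompQ _ 0).app _).symm)⟩

end Groth.Agent.CAlgH3.RGam
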