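import Groth.Agent.CAlgH3.ExtCechShift
import Groth.Agent.CechExt.Basic

/-!
A functorial extended Čech complex `C t F M`, with coefficients in an endofunctor.
-/

set_option autoImplicit false
set_option backward.isDefEq.respectTransparency false
set_option backward.isDefEq.respectTransparency.types false
set_option linter.style.haveILetI false
universe u

open CategoryTheory CategoryTheory.Limits CochainComplex
open Groth.Agent.CAlgH3.ExtCech Groth.Agent.CAlgH3.CechQis

namespace Groth.Agent.CAlgH3.RGam.CechF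

variable {A : Type u} [CommRing A]

/-- Complexes. -/
abbrev Cxs (A : Type u) [CommRing A] := CochainComplex (ModuleCat.{u} A) ℤ

theorem hom_into_cocone {K L T : Cxs A} {φ : K ⟶ L} {a b : T ⟶ mappingCocone φ}
    (h1 : ∀ q x, afst φ ((a.f q).hom x) = afst φ ((b.f q).hom x))
    (h2 : ∀ p q (hp : p + 1 = q) x, asnd φ hp ((a.f q).hom x) = asnd φ hp ((b.f q).hom x)) : a = b := by
  ext q x
  exact cocone_ext φ (show q - 1 + 1 = q by omega) (h1 q x) (h2 _ _ _ x)

/-- The cocone functor of a natural transformation. -/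
noncomputable def cocF {F G : ModuleCat.{u} A ⥤ Cxs A} (τ : F ⟶ G) : ModuleCat.{u} A ⥤ Cxs A where
  obj M := mappingCocone (τ.app M)
  map g := coconeMap (τ.app _) (τ.app _) (F.map g) (G.map g) (τ.naturality g).symm
  map_id M := hom_into_cocone (fun q x => by rw [afst_coconeMap, F.map_id]; rfl)
    (fun p q hp x => by rw [asnd_coconeMap, G.map_id]; rfl)
  map_comp g h := hom_into_cocone (fun q x => by
      rw [afst_coconeMap, F.map_comp]
      exact ((afst_coconeMap _ _ _ _ (τ.naturality h).symm _).trans (congrArg _ (afst_coconeMap _ _ _ _ (τ.naturality g).symm _))).symm)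
    (fun p q hp x => by
      rw [asnd_coconeMap, G.map_comp]
      exact ((asnd_coconeMap _ _ _ _ (τ.naturality h).symm _ _).trans (congrArg _ (asnd_coconeMap _ _ _ _ (τ.naturality g).symm _ _))).symm)

/-- Functoriality of `cocF`. -/
noncomputable def cocHom {F G F' G' : ModuleCat.{u} A ⥤ Cxs A} {τ : F ⟶ G} {τ' : F' ⟶ G'} (α : F ⟶ F')
    (β : G ⟶ G') (comm : τ ≫ β = α ≫ τ') : cocF τ ⟶ cocF τ' where
  app M := coconeMap (τ.app M) (τ'.app M) (α.app M) (β.app M) (NatTrans.congr_app comm M)
  naturality M N g := hom_into_cocone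
    (fun q x => by
      refine (afst_coconeMap _ _ _ _ (NatTrans.congr_app comm N) _).trans ?_
      refine (congrArg _ (afst_coconeMap _ _ _ _ (τ.naturality g).symm _)).trans ?_
      refine Eq.trans ?_ ((afst_coconeMap _ _ _ _ (τ'.naturality g).symm _).trans
        (congrArg _ (afst_coconeMap _ _ _ _ (NatTrans.congr_app comm M) _))).symm
      exact congrArg (fun φ : F.obj M ⟶ F'.obj N => (φ.f q).hom (afst _ x)) (α.naturality g))
    (fun p q hp x => by
      refine (asnd_coconeMap _ _ _ _ (NatTrans.congr_app comm N) _ _).trans ?_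
      refine (congrArg _ (asnd_coconeMap _ _ _ _ (τ.naturality g).symm _ _)).trans ?_
      refine Eq.trans ?_ ((asnd_coconeMap _ _ _ _ (τ'.naturality g).symm _ _).trans
        (congrArg _ (asnd_coconeMap _ _ _ _ (NatTrans.congr_app comm M) _ _))).symm
      exact congrArg (fun φ : G.obj M ⟶ G'.obj N => (φ.f p).hom (asnd _ hp x)) (β.naturality g))

/-- The localisation functor. -/
noncomputable abbrev loc (f : A) : ModuleCat.{u} A ⥤ ModuleCat.{u} A := DerCA.locFunctor (Submonoid.powers f)

/-- The localisation map. -/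
noncomputable abbrev lu (f : A) : 𝟭 (ModuleCat.{u} A) ⟶ loc f := DerCA.locUnit (Submonoid.powers f)

/-- The Čech complex with coefficients in `F`. -/
noncomputable def C : List A → (ModuleCat.{u} A ⥤ ModuleCat.{u} A) → (ModuleCat.{u} A ⥤ Cxs A)
  | [], F => F ⋙ HomologicalComplex.single (ModuleCat.{u} A) (ComplexShape.up ℤ) 0
  | f :: t, F => cocF (F := 𝟭 _ ⋙ C t F) (G := loc f ⋙ C t F) (Functor.whiskerRight (lu f) (C t F))

/-- Functoriality in the coefficients. -/
noncomputable def cN {F G : ModuleCat.{u} A ⥤ ModuleCat.{u} A} (η : F ⟶ G) : ∀ t : List A, C t F ⟶ C t G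
  | [] => Functor.whiskerRight η _
  | f :: t => cocHom (Functor.whiskerLeft (𝟭 _) (cN η t)) (Functor.whiskerLeft (loc f) (cN η t)) (by
      ext M : 2
      exact (cN η t).naturality ((lu f).app M))

/-- The map of the cocone step. -/
noncomputable abbrev step (f : A) (t : List A) (F : ModuleCat.{u} A ⥤ ModuleCat.{u} A) (M : ModuleCat.{u} A) :
    (C t F).obj M ⟶ (C t F).obj ((loc f).obj M) :=
  (C t F).map ((lu f).app M)

theorem single_cases (M : ModuleCat.{u} A) (q : ℤ) : q = 0 ∨
    Subsingleton (((HomologicalComplex.single (ModuleCat.{u} A) (ComplexShape.up ℤ) 0).obj M).X q) := by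
  by_cases hq : q = 0
  · exact Or.inl hq
  · exact Or.inr (ModuleCat.subsingleton_of_isZero (HomologicalComplex.isZero_single_obj_X _ _ _ _ hq))

/-- Degree zero of a single complex. -/
noncomputable def s0 (M : ModuleCat.{u} A) :
    ((HomologicalComplex.single (ModuleCat.{u} A) (ComplexShape.up ℤ) 0).obj M).X 0 ≃ₗ[A] M :=
  (HomologicalComplex.singleObjXSelf (ComplexShape.up ℤ) 0 M).toLinearEquiv

theorem s0_map {M N : ModuleCat.{u} A} (g : M ⟶ N)
    (x : ((HomologicalComplex.single (ModuleCat.{u} A) (ComplexShape.up ℤ) 0).obj M).X 0) :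
    s0 N ((((HomologicalComplex.single (ModuleCat.{u} A) (ComplexShape.up ℤ) 0).map g).f 0).hom x) = g.hom (s0 M x) := by
  rw [HomologicalComplex.single_map_f_self]
  exact (s0 N).apply_symm_apply _

variable {F G H : ModuleCat.{u} A ⥤ ModuleCat.{u} A}

theorem afst_cN (η : F ⟶ G) (f : A) (t : List A) (M : ModuleCat.{u} A) (q : ℤ) (x : ((C (f :: t) F).obj M).X q) :
    afst (step f t G M) ((((cN η (f :: t)).app M).f q).hom x) =
      (((cN η t).app M).f q).hom (afst (step f t F M) x) :=
  afst_coconeMap (step f t F M) (step f t G M) _ _ _ x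

theorem asnd_cN (η : F ⟶ G) (f : A) (t : List A) (M : ModuleCat.{u} A) {p q : ℤ} (hp : p + 1 = q)
    (x : ((C (f :: t) F).obj M).X q) :
    asnd (step f t G M) hp ((((cN η (f :: t)).app M).f q).hom x) =
      (((cN η t).app ((loc f).obj M)).f p).hom (asnd (step f t F M) hp x) :=
  asnd_coconeMap (step f t F M) (step f t G M) _ _ _ hp x

theorem afst_map (f : A) (t : List A) {M N : ModuleCat.{u} A} (g : M ⟶ N) (q : ℤ) (x : ((C (f :: t) F).obj M).X q) :
    afst (step f t F N) ((((C (f :: t) F).map g).f q).hom x) = (((C t F).map g).f q).hom (afst (step f t F M) x) :=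
  afst_coconeMap (step f t F M) (step f t F N) _ _ _ x

theorem asnd_map (f : A) (t : List A) {M N : ModuleCat.{u} A} (g : M ⟶ N) {p q : ℤ} (hp : p + 1 = q)
    (x : ((C (f :: t) F).obj M).X q) :
    asnd (step f t F N) hp ((((C (f :: t) F).map g).f q).hom x) =
      (((C t F).map ((loc f).map g)).f p).hom (asnd (step f t F M) hp x) :=
  asnd_coconeMap (step f t F M) (step f t F N) _ _ _ hp x

theorem subsingleton_X (F : ModuleCat.{u} A ⥤ ModuleCat.{u} A) : ∀ (t : List A) (M : ModuleCat.{u} A) (q : ℤ),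
    q < 0 → Subsingleton (((C t F).obj M).X q)
  | [], M, q, hq => (single_cases (F.obj M) q).resolve_left (by omega)
  | f :: t, M, q, hq => ⟨fun x y => cocone_ext (step f t F M) (show q - 1 + 1 = q by omega)
      ((subsingleton_X F t M q hq).elim _ _) ((subsingleton_X F t _ (q - 1) (by omega)).elim _ _)⟩

theorem cN_bijective (η : F ⟶ G) (h : ∀ N, Function.Bijective (η.app N).hom) :
    ∀ (t : List A) (M : ModuleCat.{u} A) (q : ℤ), Function.Bijective (((cN η t).app M).f q).hom
  | [], M, q => by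
    rcases single_cases (G.obj M) q with rfl | hs
    · refine (Function.Bijective.of_comp_iff' (s0 (G.obj M)).bijective _).1 ?_
      have e : (s0 (G.obj M)) ∘ (((cN η ([] : List A)).app M).f 0).hom = (η.app M).hom ∘ s0 (F.obj M) :=
        funext fun x => s0_map (η.app M) x
      exact e ▸ (h M).comp (s0 (F.obj M)).bijective
    · refine ⟨fun x y _ => ?_, fun y => ⟨0, hs.elim _ _⟩⟩
      rcases single_cases (F.obj M) q with rfl | hs'
      · haveI : Subsingleton (G.obj M) := (s0 (G.obj M)).symm.toEquiv.subsingleton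
        exact (s0 (F.obj M)).injective ((h M).1 (Subsingleton.elim _ _))
      · exact hs'.elim _ _
  | f :: t, M, q => by
    have h1 := cN_bijective η h t M q
    have h2 := cN_bijective η h t ((loc f).obj M) (q - 1)
    refine ⟨fun x y hxy => cocone_ext (step f t F M) (show q - 1 + 1 = q by omega) (h1.1 ?_) (h2.1 ?_), fun y => ?_⟩
    · rw [← afst_cN, ← afst_cN, hxy]
    · rw [← asnd_cN, ← asnd_cN, hxy]
    · obtain ⟨a, ha⟩ := h1.2 (afst (step f t G M) y)
      obtain ⟨b, hb⟩ := h2.2 (asnd (step f t G M) (show q - 1 + 1 = q by omega) y)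
      refine ⟨amk (step f t F M) (show q - 1 + 1 = q by omega) a b,
        cocone_ext (step f t G M) (show q - 1 + 1 = q by omega) ?_ ?_⟩
      · rw [afst_cN, afst_amk, ha]
      · rw [asnd_cN, asnd_amk, hb]

theorem cN_injective (η : F ⟶ G) (h : ∀ N, Function.Injective (η.app N).hom) :
    ∀ (t : List A) (M : ModuleCat.{u} A) (q : ℤ), Function.Injective (((cN η t).app M).f q).hom
  | [], M, q, x, y, hxy => by
    rcases single_cases (F.obj M) q with rfl | hs
    · refine (s0 (F.obj M)).injective (h M ?_)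
      rw [← s0_map (η.app M) x, ← s0_map (η.app M) y]
      exact congrArg _ hxy
    · exact hs.elim _ _
  | f :: t, M, q, x, y, hxy => cocone_ext (step f t F M) (show q - 1 + 1 = q by omega)
      (cN_injective η h t M q (by rw [← afst_cN, ← afst_cN, hxy]))
      (cN_injective η h t _ (q - 1) (by rw [← asnd_cN, ← asnd_cN, hxy]))

theorem cN_surjective (η : F ⟶ G) (h : ∀ N, Function.Surjective (η.app N).hom) :
    ∀ (t : List A) (M : ModuleCat.{u} A) (q : ℤ), Function.Surjective (((cN η t).app M).f q).hom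
  | [], M, q, y => by
    rcases single_cases (G.obj M) q with rfl | hs
    · obtain ⟨x, hx⟩ := h M (s0 (G.obj M) y)
      obtain ⟨x', rfl⟩ := (s0 (F.obj M)).surjective x
      exact ⟨x', (s0 (G.obj M)).injective ((s0_map (η.app M) x').trans hx)⟩
    · exact ⟨0, hs.elim _ _⟩
  | f :: t, M, q, y => by
    obtain ⟨a, ha⟩ := cN_surjective η h t M q (afst (step f t G M) y)
    obtain ⟨b, hb⟩ := cN_surjective η h t _ (q - 1) (asnd (step f t G M) (show q - 1 + 1 = q by omega) y)
    refine ⟨amk (step f t F M) (show q - 1 + 1 = q by omega) a b,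
      cocone_ext (step f t G M) (show q - 1 + 1 = q by omega) ?_ ?_⟩
    · rw [afst_cN, afst_amk, ha]
    · rw [asnd_cN, asnd_amk, hb]

theorem cN_exact (η : F ⟶ G) (θ : G ⟶ H) (h : ∀ N, Function.Exact (η.app N).hom (θ.app N).hom) :
    ∀ (t : List A) (M : ModuleCat.{u} A) (q : ℤ),
      Function.Exact (((cN η t).app M).f q).hom (((cN θ t).app M).f q).hom
  | [], M, q, y => by
    rcases single_cases (G.obj M) q with rfl | hs
    · constructor
      · intro hy
        obtain ⟨x, hx⟩ := ((h M) (s0 (G.obj M) y)).1 (by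
          rw [← s0_map (θ.app M) y]; exact (congrArg _ hy).trans (map_zero _))
        obtain ⟨x', rfl⟩ := (s0 (F.obj M)).surjective x
        exact ⟨x', (s0 (G.obj M)).injective ((s0_map (η.app M) x').trans hx)⟩
      · rintro ⟨x, rfl⟩
        refine (s0 (H.obj M)).injective ((s0_map (θ.app M) _).trans ?_)
        rw [map_zero]
        exact (congrArg _ (s0_map (η.app M) x)).trans ((h M).apply_apply_eq_zero _)
    · exact ⟨fun _ => ⟨0, hs.elim _ _⟩, fun _ => by rw [hs.elim y 0]; exact map_zero _⟩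
  | f :: t, M, q, y => by
    have h1 := cN_exact η θ h t M q
    have h2 := cN_exact η θ h t ((loc f).obj M) (q - 1)
    constructor
    · intro hy
      obtain ⟨a, ha⟩ := (h1 (afst (step f t G M) y)).1 (by rw [← afst_cN, hy]; exact afst_zero _)
      obtain ⟨b, hb⟩ := (h2 (asnd (step f t G M) (show q - 1 + 1 = q by omega) y)).1 (by
        rw [← asnd_cN, hy]; exact asnd_zero _ _)
      refine ⟨amk (step f t F M) (show q - 1 + 1 = q by omega) a b,
        cocone_ext (step f t G M) (show q - 1 + 1 = q by omega) ?_ ?_⟩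
      · rw [afst_cN, afst_amk, ha]
      · rw [asnd_cN, asnd_amk, hb]
    · rintro ⟨x, rfl⟩
      refine cocone_ext (step f t H M) (show q - 1 + 1 = q by omega) ?_ ?_
      · rw [afst_cN, afst_cN, h1.apply_apply_eq_zero]; exact (afst_zero _).symm
      · rw [asnd_cN, asnd_cN, h2.apply_apply_eq_zero]; exact (asnd_zero _ _).symm

/-- Scalars killing the coefficients kill the terms. -/
theorem smul_X_eq_zero (F : ModuleCat.{u} A ⥤ ModuleCat.{u} A) (a : A) (h : ∀ N (y : F.obj N), a • y = 0) :
    ∀ (t : List A) (M : ModuleCat.{u} A) (q : ℤ) (x : ((C t F).obj M).X q), a • x = 0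
  | [], M, q, x => by
    rcases single_cases (F.obj M) q with rfl | hs
    · exact (s0 (F.obj M)).injective (by rw [map_smul, h, map_zero])
    · exact hs.elim _ _
  | f :: t, M, q, x => cocone_ext (step f t F M) (show q - 1 + 1 = q by omega)
      (by rw [afst_smul, smul_X_eq_zero F a h t M q]; exact (afst_zero _).symm)
      (by rw [asnd_smul, smul_X_eq_zero F a h t _ (q - 1)]; exact (asnd_zero _ _).symm)

section torsion

/-- `u` has `g`-torsion kernel and cokernel. -/
def NIso (g : A) {M N : Type u} [AddCommGroup M] [Module A M] [AddCommGroup N] [Module A N] (u : M →ₗ[A] N) :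
    Prop :=
  (∀ x, u x = 0 → ∃ n : ℕ, g ^ n • x = 0) ∧ ∀ y, ∃ (n : ℕ) (x : M), g ^ n • y = u x

theorem nIso_lu (f : A) (M : ModuleCat.{u} A) : NIso f ((lu f).app M).hom := by
  refine ⟨fun x hx => ?_, fun y => ?_⟩
  · obtain ⟨⟨_, n, rfl⟩, hn⟩ := (IsLocalizedModule.eq_zero_iff (Submonoid.powers f)
      (LocalizedModule.mkLinearMap (Submonoid.powers f) M)).1 hx
    exact ⟨n, hn⟩
  · obtain ⟨⟨x, ⟨_, n, rfl⟩⟩, hx⟩ := IsLocalizedModule.surj (Submonoid.powers f)
      (LocalizedModule.mkLinearMap (Submonoid.powers f) M) y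
    exact ⟨n, x, hx⟩

theorem NIso.loc {g : A} (f : A) {M N : ModuleCat.{u} A} {v : M ⟶ N} (h : NIso g v.hom) :
    NIso g ((loc f).map v).hom := by
  let L := Submonoid.powers f
  have hnat : ∀ m, ((CechF.loc f).map v).hom ((lu f).app M |>.hom m) = ((lu f).app N).hom (v.hom m) :=
    fun m => (congrArg (fun φ => φ.hom m) ((lu f).naturality v)).symm
  have hu : ∀ (k : ℕ) (P : ModuleCat.{u} A), Function.Bijective (fun z : (CechF.loc f).obj P => f ^ k • z) :=
    fun k P => (Module.End.isUnit_iff _).1 (IsLocalizedModule.map_units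
      (LocalizedModule.mkLinearMap L P) (⟨f ^ k, k, rfl⟩ : L))
  refine ⟨fun x hx => ?_, fun y => ?_⟩
  · obtain ⟨⟨m, ⟨_, k, rfl⟩⟩, hm⟩ := IsLocalizedModule.surj L (LocalizedModule.mkLinearMap L M) x
    have h0 : ((lu f).app N).hom (v.hom m) = 0 := by
      rw [← hnat, show ((lu f).app M).hom m = f ^ k • x from hm.symm, map_smul, hx, smul_zero]
    obtain ⟨⟨_, j, rfl⟩, hj⟩ := (IsLocalizedModule.eq_zero_iff L (LocalizedModule.mkLinearMap L N)).1 h0
    obtain ⟨n, hn⟩ := h.1 (f ^ j • m) (by rw [map_smul]; exact hj)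
    refine ⟨n, (hu (j + k) M).1 ?_⟩
    show f ^ (j + k) • g ^ n • x = f ^ (j + k) • (0 : (CechF.loc f).obj M)
    rw [smul_zero, smul_comm, pow_add, mul_smul, show f ^ k • x = ((lu f).app M).hom m from hm, ← map_smul,
      ← map_smul, hn, map_zero]
  · obtain ⟨⟨y0, ⟨_, k, rfl⟩⟩, hy⟩ := IsLocalizedModule.surj L (LocalizedModule.mkLinearMap L N) y
    obtain ⟨n, x0, hx0⟩ := h.2 y0
    obtain ⟨x, hx⟩ := (hu k M).2 (((lu f).app M).hom x0)
    refine ⟨n, x, (hu k N).1 ?_⟩
    show f ^ k • g ^ n • y = f ^ k • ((CechF.loc f).map v).hom x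
    have hx' : f ^ k • x = ((lu f).app M).hom x0 := hx
    rw [← map_smul, hx', hnat, ← hx0, map_smul, smul_comm, show f ^ k • y = ((lu f).app N).hom y0 from hy]

theorem nIso_map {g : A} : ∀ (t : List A) {M N : ModuleCat.{u} A} (v : M ⟶ N), NIso g v.hom → ∀ q : ℤ,
    NIso g ((((C t (𝟭 _)).map v).f q)).hom
  | [], M, N, v, hv, q => by
    rcases single_cases N q with rfl | hs
    · refine ⟨fun x hx => ?_, fun y => ?_⟩
      · obtain ⟨n, hn⟩ := hv.1 (s0 M x) ((s0_map v x).symm.trans ((congrArg _ hx).trans (map_zero _)))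
        exact ⟨n, (s0 M).injective (by rw [map_smul, hn, map_zero])⟩
      · obtain ⟨n, x, hx⟩ := hv.2 (s0 N y)
        obtain ⟨x', rfl⟩ := (s0 M).surjective x
        exact ⟨n, x', (s0 N).injective (by rw [map_smul, hx]; exact (s0_map v x').symm)⟩
    · refine ⟨fun x _ => ?_, fun y => ⟨0, 0, hs.elim _ _⟩⟩
      rcases single_cases M q with rfl | hs'
      · haveI : Subsingleton N := (s0 N).symm.toEquiv.subsingleton
        obtain ⟨n, hn⟩ := hv.1 (s0 M x) (Subsingleton.elim _ _)
        exact ⟨n, (s0 M).injective (by rw [map_smul, hn, map_zero])⟩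
      · exact ⟨0, hs'.elim _ _⟩
  | f :: t, M, N, v, hv, q => by
    have h1 := nIso_map t v hv q
    have h2 := nIso_map t ((CechF.loc f).map v) (hv.loc f) (q - 1)
    refine ⟨fun x hx => ?_, fun y => ?_⟩
    · obtain ⟨n, hn⟩ := h1.1 (afst (step f t (𝟭 _) M) x) (by rw [← afst_map, hx]; exact afst_zero _)
      obtain ⟨k, hk⟩ := h2.1 (asnd (step f t (𝟭 _) M) (show q - 1 + 1 = q by omega) x) (by
        rw [← asnd_map, hx]; exact asnd_zero _ _)
      refine ⟨n + k, cocone_ext (step f t (𝟭 _) M) (show q - 1 + 1 = q by omega) ?_ ?_⟩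
      · rw [afst_smul, add_comm, pow_add, mul_smul, hn, smul_zero]; exact (afst_zero _).symm
      · rw [asnd_smul, pow_add, mul_smul, hk, smul_zero]; exact (asnd_zero _ _).symm
    · obtain ⟨n, a, ha⟩ := h1.2 (afst (step f t (𝟭 _) N) y)
      obtain ⟨k, b, hb⟩ := h2.2 (asnd (step f t (𝟭 _) N) (show q - 1 + 1 = q by omega) y)
      refine ⟨n + k, amk (step f t (𝟭 _) M) (show q - 1 + 1 = q by omega) (g ^ k • a) (g ^ n • b),
        cocone_ext (step f t (𝟭 _) N) (show q - 1 + 1 = q by omega) ?_ ?_⟩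
      · rw [afst_map, afst_amk, afst_smul, map_smul, ← ha, ← mul_smul, ← pow_add, add_comm]
      · rw [asnd_map, asnd_amk, asnd_smul, map_smul, ← hb, ← mul_smul, ← pow_add]

theorem tors (g : A) : ∀ (t : List A), g ∈ t → ∀ M : ModuleCat.{u} A, CechExt.Tors g ((C t (𝟭 _)).obj M)
  | [], h, _ => absurd h List.not_mem_nil
  | f :: t, h, M => by
    by_cases hgt : g ∈ t
    · refine CechExt.tors_cocone (step f t (𝟭 _) M) g (fun p q r hp hr a ha _ => tors g t hgt M p q r hp hr a ha)
        fun o p q ho hp b hb => ?_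
      obtain ⟨n, y, hy⟩ := tors g t hgt _ o p q ho hp b hb
      exact ⟨n, 0, y, map_zero _, by rw [map_zero, zero_add, hy]⟩
    obtain rfl : g = f := by rcases List.mem_cons.1 h with h | h; exacts [h, absurd h hgt]
    let ψ := step g t (𝟭 _) M
    have hn : ∀ q, NIso g (ψ.f q).hom := nIso_map t ((lu g).app M) (nIso_lu g M)
    refine CechExt.tors_cocone ψ g (fun p q r hp hr a ha ⟨b, hb⟩ => ?_) fun o p q ho hp b hb => ?_
    · obtain ⟨n, c, hc⟩ := (hn p).2 b
      obtain ⟨m, hm⟩ := (hn q).1 (g ^ n • a - (((C t (𝟭 _)).obj M).d p q).hom c) (by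
        rw [map_sub, map_smul, ← hb, ← map_smul, hc, sub_eq_zero]
        exact (comm_apply ψ p q c))
      rw [smul_sub, ← mul_smul, ← pow_add, ← map_smul, sub_eq_zero] at hm
      exact ⟨m + n, g ^ m • c, hm.symm⟩
    · obtain ⟨n, c, hc⟩ := (hn p).2 b
      obtain ⟨m, hm⟩ := (hn q).1 ((((C t (𝟭 _)).obj M).d p q).hom c) (by
        rw [← comm_apply ψ p q c, ← hc, map_smul, hb, smul_zero])
      exact ⟨m + n, g ^ m • c, 0, by rw [map_smul, hm], by rw [map_zero, add_zero, map_smul, pow_add, mul_smul, hc]⟩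

end torsion

end Groth.Agent.CAlgH3.RGam.CechF
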