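import Groth.Agent.CAlgH3.RGam.CechCompl
import Mathlib.RingTheory.Filtration
import Mathlib.Algebra.Homology.SingleHomology

/-!
Degree zero of the completed Čech complex.
-/

set_option autoImplicit false
set_option backward.isDefEq.respectTransparency false
set_option backward.isDefEq.respectTransparency.types false
set_option backward.defeqAttrib.useBackward true
set_option linter.style.haveILetI false

universe u

open CategoryTheory CategoryTheory.Limits
open Groth.Agent.CAlgH3.ExtCech

attribute [local instance] HasDerivedCategory.standard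

namespace Groth.Agent.CAlgH3.RGam.CechF

open Groth.Agent.DCat Groth.Agent.DCat.DC Lam
open Groth.Agent.DualLib.GammaHDI (cyMk)

variable {A : Type u} [CommRing A]

theorem fst_f_apply {K L : DRing.Cx A} (ψ : K ⟶ L) (q : ℤ) (x : (CochainComplex.mappingCocone ψ).X q) :
    ((CochainComplex.mappingCocone.fst ψ).f q).hom x = afst ψ x := by
  simp [afst, Misc15.Koszul.cfst, CochainComplex.mappingCocone.fst,
    CochainComplex.HomComplex.Cochain.leftShift_v (n := 1) _ _ _ _ _ q _ (q + -1) (show q + -1 + 1 = q by omega)]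
  rfl

variable {F : ModuleCat.{u} A ⥤ ModuleCat.{u} A}

/-- The degree zero component. -/
noncomputable def val (F : ModuleCat.{u} A ⥤ ModuleCat.{u} A) (t : List A) (M : ModuleCat.{u} A)
    (x : ((C t F).obj M).X 0) : F.obj M :=
  s0 (F.obj M) (((aug F t M).f 0).hom x)

theorem val_cons (f : A) (t : List A) (M : ModuleCat.{u} A) (x : ((C (f :: t) F).obj M).X 0) :
    val F (f :: t) M x = val F t M (afst (step f t F M) x) := by
  show s0 _ (((CochainComplex.mappingCocone.fst (step f t F M) ≫ aug F t M).f 0).hom x) = _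
  rw [← fst_f_apply]
  rfl

theorem val_zero (t : List A) (M : ModuleCat.{u} A) : val F t M 0 = 0 :=
  (congrArg (s0 (F.obj M)) (map_zero ((aug F t M).f 0).hom)).trans (map_zero _)

theorem val_map (t : List A) {M N : ModuleCat.{u} A} (g : M ⟶ N) (x : ((C t F).obj M).X 0) :
    val F t N ((((C t F).map g).f 0).hom x) = (F.map g).hom (val F t M x) :=
  (congrArg (s0 (F.obj N)) (congrArg (fun φ : (C t F).obj M ⟶ single0 (F.obj N) => (φ.f 0).hom x) (aug_map t g))).trans
    (s0_map (F.map g) _)

theorem bijective_val : ∀ (t : List A) (M : ModuleCat.{u} A), Function.Bijective (val F t M)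
  | [], M => (s0 (F.obj M)).bijective
  | f :: t, M => by
    haveI := subsingleton_X F t ((loc f).obj M) (-1) (by omega)
    refine ⟨fun x y hxy => cocone_ext (step f t F M) (show (-1 : ℤ) + 1 = 0 by omega)
      ((bijective_val t M).1 ((val_cons f t M x).symm.trans (hxy.trans (val_cons f t M y))))
      (Subsingleton.elim _ _), fun y => ?_⟩
    obtain ⟨a, ha⟩ := (bijective_val t M).2 y
    exact ⟨amk (step f t F M) (show (-1 : ℤ) + 1 = 0 by omega) a 0, (val_cons f t M _).trans (by rw [afst_amk]; exact ha)⟩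

theorem d_eq_zero_iff : ∀ (t : List A) (M : ModuleCat.{u} A) (x : ((C t F).obj M).X 0),
    (((C t F).obj M).d 0 1).hom x = 0 ↔ ∀ g ∈ t, (F.map ((lu g).app M)).hom (val F t M x) = 0
  | [], M, x => ⟨fun _ g hg => absurd hg List.not_mem_nil, fun _ =>
      ((single_cases (F.obj M) 1).resolve_left one_ne_zero).elim _ _⟩
  | f :: t, M, x => by
    have h : (((C (f :: t) F).obj M).d 0 1).hom x = 0 ↔
        (((C t F).obj M).d 0 1).hom (afst (step f t F M) x) = 0 ∧
          ((step f t F M).f 0).hom (afst (step f t F M) x) = 0 := by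
      haveI := subsingleton_X F t ((loc f).obj M) (-1) (by omega)
      have h1 := afst_d (step f t F M) 0 1 (by omega) x
      have h2 := asnd_d (step f t F M) (-1) 0 1 (by omega) (by omega) x
      rw [Subsingleton.elim (asnd (step f t F M) _ x) 0, map_zero, add_zero] at h2
      constructor
      · intro hx
        refine ⟨h1.symm.trans ?_, neg_eq_zero.1 (h2.symm.trans ?_)⟩
        · exact (congrArg (afst (step f t F M)) hx).trans (afst_zero _)
        · exact (congrArg (asnd (step f t F M) _) hx).trans (asnd_zero _ _)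
      · rintro ⟨ha, hb⟩
        refine cocone_ext (step f t F M) (show (0 : ℤ) + 1 = 1 by omega) ?_ ?_
        · exact h1.trans (ha.trans (afst_zero _).symm)
        · exact h2.trans ((by rw [hb, neg_zero] : -((step f t F M).f 0).hom (afst (step f t F M) x) = 0).trans
            (asnd_zero _ _).symm)
    rw [h, d_eq_zero_iff t M, List.forall_mem_cons, val_cons, and_comm]
    refine and_congr_left fun _ => ?_
    rw [← (bijective_val t ((loc f).obj M)).1.eq_iff, val_zero]
    exact (val_map t ((lu f).app M) _) ▸ Iff.rfl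

/-- `H⁰` of a single complex. -/
noncomputable def τ (A : Type u) [CommRing A] :
    (sgl A ⋙ DerivedCategory.Q) ⋙ DerivedCategory.homologyFunctor (ModuleCat.{u} A) 0 ≅ 𝟭 _ :=
  Functor.associator _ _ _ ≪≫ Functor.isoWhiskerLeft _ (DerivedCategory.homologyFunctorFactors (ModuleCat.{u} A) 0) ≪≫
    HomologicalComplex.homologyFunctorSingleIso _ _ _

/-- The map on `H⁰` induced by the augmentation. -/
noncomputable def H0 (F : ModuleCat.{u} A ⥤ ModuleCat.{u} A) (t : List A) (M : ModuleCat.{u} A) :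
    (DerivedCategory.homologyFunctor (ModuleCat.{u} A) 0).obj (DerivedCategory.Q.obj ((C t F).obj M)) ⟶ F.obj M :=
  (DerivedCategory.homologyFunctor (ModuleCat.{u} A) 0).map (DerivedCategory.Q.map (aug F t M)) ≫
    (τ A).hom.app (F.obj M)

theorem H0_cl (t : List A) (M : ModuleCat.{u} A)
    (z : LinearMap.ker (((C t F).obj M).d 0 (0 + 1)).hom) :
    (H0 F t M).hom (((DerivedCategory.homologyFunctorFactors (ModuleCat.{u} A) 0).inv.app _).hom
      (cl _ 0 z)) = val F t M z.1 := by
  show ((τ A).hom.app (F.obj M)).hom (((DerivedCategory.homologyFunctor (ModuleCat.{u} A) 0).map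
    (DerivedCategory.Q.map (aug F t M))).hom _) = _
  have e := congrArg (fun φ => φ.hom (cl _ 0 z))
    ((DerivedCategory.homologyFunctorFactors (ModuleCat.{u} A) 0).inv.naturality (aug F t M))
  refine (congrArg ((τ A).hom.app (F.obj M)).hom e.symm).trans ?_
  show ((HomologicalComplex.singleObjHomologySelfIso (ComplexShape.up ℤ) 0 (F.obj M)).hom).hom
    (((DerivedCategory.homologyFunctorFactors (ModuleCat.{u} A) 0).hom.app _).hom
      (((DerivedCategory.homologyFunctorFactors (ModuleCat.{u} A) 0).inv.app _).hom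
        ((HomologicalComplex.homologyMap (aug F t M) 0).hom (cl _ 0 z)))) = _
  erw [Iso.inv_hom_id_app_apply]
  rw [homologyMap_cl]
  have e2 := congrArg (fun φ => φ.hom (cyMk (single0 (F.obj M)) 0 ⟨_, map_cycle (aug F t M) z⟩))
    (HomologicalComplex.homologyπ_singleObjHomologySelfIso_hom (ComplexShape.up ℤ) 0 (F.obj M))
  refine e2.trans ?_
  show s0 (F.obj M) (((single0 (F.obj M)).iCycles 0).hom (cyMk _ 0 _)) = _
  rw [iCycles_cyMk]
  rfl

theorem injective_H0 (t : List A) (M : ModuleCat.{u} A) : Function.Injective (H0 F t M).hom := fun x y h => by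
  let eF := (DerivedCategory.homologyFunctorFactors (ModuleCat.{u} A) 0).app ((C t F).obj M)
  obtain ⟨a, ha⟩ := cl_surjective _ 0 (eF.hom.hom x)
  obtain ⟨b, hb⟩ := cl_surjective _ 0 (eF.hom.hom y)
  have hx : x = eF.inv.hom (cl _ 0 a) := by rw [ha]; exact (Iso.hom_inv_id_apply eF x).symm
  have hy : y = eF.inv.hom (cl _ 0 b) := by rw [hb]; exact (Iso.hom_inv_id_apply eF y).symm
  rw [hx, hy] at h ⊢
  rw [show a = b from Subtype.ext ((bijective_val t M).1 ((H0_cl t M a).symm.trans (h.trans (H0_cl t M b))))]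

theorem range_H0 (t : List A) (M : ModuleCat.{u} A) :
    Set.range (H0 F t M).hom = {y | ∀ g ∈ t, (F.map ((lu g).app M)).hom y = 0} := by
  let eF := (DerivedCategory.homologyFunctorFactors (ModuleCat.{u} A) 0).app ((C t F).obj M)
  refine Set.ext fun y => ⟨?_, fun hy => ?_⟩
  · rintro ⟨x, rfl⟩
    obtain ⟨a, ha⟩ := cl_surjective _ 0 (eF.hom.hom x)
    have hx : x = eF.inv.hom (cl _ 0 a) := by rw [ha]; exact (Iso.hom_inv_id_apply eF x).symm
    rw [hx, show (H0 F t M).hom (eF.inv.hom (cl _ 0 a)) = val F t M a.1 from H0_cl t M a]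
    exact (d_eq_zero_iff t M a.1).1 a.2
  · obtain ⟨z, rfl⟩ := (bijective_val t M).2 y
    exact ⟨eF.inv.hom (cl _ 0 ⟨z, (d_eq_zero_iff t M z).2 hy⟩), H0_cl t M _⟩

/-- The degree zero criterion. -/
theorem map_lu_eq_zero_iff (I : Ideal A) (g : A) (M : ModuleCat.{u} A) (x : M) :
    ((Lam I).map ((lu g).app M)).hom (AdicCompletion.of I M x) = 0 ↔
      ∀ n : ℕ, ∃ k : ℕ, g ^ k • x ∈ (I ^ n • ⊤ : Submodule A M) := by
  have e : ((Lam I).map ((lu g).app M)).hom (AdicCompletion.of I M x) =
      AdicCompletion.of I ((loc g).obj M) (((lu g).app M).hom x) := AdicCompletion.map_of I ((lu g).app M).hom x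
  rw [e]
  constructor
  · intro h n
    have h' : ((lu g).app M).hom x ∈ (I ^ n • ⊤ : Submodule A ((loc g).obj M)) :=
      (Submodule.Quotient.mk_eq_zero _).1 (congrArg (fun z => z.val n) h)
    suffices ∀ y ∈ (I ^ n • ⊤ : Submodule A ((loc g).obj M)), ∃ k : ℕ, ∃ w ∈ (I ^ n • ⊤ : Submodule A M),
        g ^ k • y = ((lu g).app M).hom w by
      obtain ⟨k, w, hw, e⟩ := this _ h'
      obtain ⟨⟨_, j, rfl⟩, hj⟩ := (IsLocalizedModule.eq_iff_exists (Submonoid.powers g)
        (LocalizedModule.mkLinearMap (Submonoid.powers g) M)).1 ((map_smul ((lu g).app M).hom (g ^ k) x).trans e)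
      refine ⟨j + k, ?_⟩
      have hj' : g ^ j • g ^ k • x = g ^ j • w := hj
      rw [pow_add, mul_smul, hj']
      exact Submodule.smul_mem _ _ hw
    intro y hy
    refine Submodule.smul_induction_on hy (fun a ha z _ => ?_) fun y z ⟨k, w, hw, e⟩ ⟨k', w', hw', e'⟩ => ?_
    · obtain ⟨⟨m, ⟨_, k, rfl⟩⟩, hm⟩ := IsLocalizedModule.surj (Submonoid.powers g)
        (LocalizedModule.mkLinearMap (Submonoid.powers g) M) z
      have hm' : g ^ k • z = ((lu g).app M).hom m := hm
      exact ⟨k, a • m, Submodule.smul_mem_smul ha Submodule.mem_top, by rw [smul_comm, hm', map_smul]⟩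
    · refine ⟨k + k', g ^ k' • w + g ^ k • w', add_mem (Submodule.smul_mem _ _ hw) (Submodule.smul_mem _ _ hw'), ?_⟩
      rw [map_add, map_smul, map_smul, ← e, ← e', smul_add, pow_add, mul_smul, mul_smul, smul_comm (g ^ k) (g ^ k') y]
  · intro h
    refine AdicCompletion.ext fun n => ?_
    obtain ⟨k, hk⟩ := h n
    refine (Submodule.Quotient.mk_eq_zero _).2 ?_
    obtain ⟨y, hy⟩ := ((Module.End.isUnit_iff _).1 (IsLocalizedModule.map_units
      (LocalizedModule.mkLinearMap (Submonoid.powers g) M) (⟨g ^ k, k, rfl⟩ : Submonoid.powers g))).2 (((lu g).app M).hom x)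
    obtain ⟨u, hu⟩ := IsUnit.exists_right_inv (IsLocalizedModule.map_units
      (LocalizedModule.mkLinearMap (Submonoid.powers g) M) (⟨g ^ k, k, rfl⟩ : Submonoid.powers g))
    let v : Module.End A ((loc g).obj M) := u
    have hv : ∀ z : (loc g).obj M, v (g ^ k • z) = z := fun z => by
      rw [map_smul]; exact congrArg (fun φ : Module.End A ((loc g).obj M) => φ z) hu
    rw [← hv (((lu g).app M).hom x), ← map_smul]
    exact Submodule.smul_top_le_comap_smul_top (I ^ n) (v.comp ((lu g).app M).hom) hk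

/-- The sections surviving in the completion. -/
theorem forall_exists_pow_iff [IsNoetherianRing A] (I J : Ideal A) {M : Type u} [AddCommGroup M] [Module A M]
    [Module.Finite A M] (s : List A) (hs : Ideal.ofList s = J) (x : M) :
    (∀ g ∈ s, ∀ n : ℕ, ∃ k : ℕ, g ^ k • x ∈ (I ^ n • ⊤ : Submodule A M)) ↔
      ∃ J' : Ideal A, J' ≤ J ∧ J ≤ (J' ⊔ I).radical ∧ x ∈ DRing.torsionSub J' M := by
  constructor
  · intro h
    let a : Ideal A := LinearMap.ker (LinearMap.toSpanSingleton A M x)
    refine ⟨J * a, Ideal.mul_le_left, ?_, 1, fun b hb => ?_⟩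
    · obtain ⟨c, hc⟩ := Ideal.exists_pow_inf_eq_pow_smul I (A ∙ x)
      rw [← hs, Ideal.ofList, Ideal.span_le]
      intro g hg
      obtain ⟨k, hk⟩ := h g hg (c + 1)
      have hk' : g ^ k • x ∈ (I • (A ∙ x) : Submodule A M) := by
        have h1 : g ^ k • x ∈ (I ^ (c + 1 - c) • (I ^ c • ⊤ ⊓ A ∙ x) : Submodule A M) :=
          (hc (c + 1) (by omega)) ▸ ⟨hk, Submodule.smul_mem _ _ (Submodule.mem_span_singleton_self x)⟩
        rw [Nat.add_sub_cancel_left, pow_one] at h1
        exact Submodule.smul_mono le_rfl inf_le_right h1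
      obtain ⟨i, hi, hix⟩ := Submodule.mem_smul_span_singleton.1 hk'
      refine ⟨k + 1, Submodule.mem_sup.2 ⟨g * (g ^ k - i), Ideal.mul_mem_mul (Ideal.subset_span hg) ?_,
        g * i, Ideal.mul_mem_left _ _ hi, by ring⟩⟩
      show (g ^ k - i) • x = 0
      rw [sub_smul, hix, sub_self]
    · rw [pow_one] at hb
      exact ((Ideal.mul_le_right : J * a ≤ a) hb)
  · rintro ⟨J', -, hJ, p, hp⟩ g hg n
    obtain ⟨m, hm⟩ := hJ (show g ∈ J from hs ▸ (Ideal.subset_span (show g ∈ {r | r ∈ s} from hg) : g ∈ Ideal.ofList s))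
    refine ⟨m * (p + n), ?_⟩
    obtain ⟨y, hy, z, hz, e⟩ := Submodule.mem_sup.1 ((Ideal.sup_pow_add_le_pow_sup_pow (I := J') (J := I) (n := p) (m := n)) (Ideal.pow_mem_pow hm (p + n)))
    rw [pow_mul, ← e, add_smul, hp y hy, zero_add]
    exact Submodule.smul_mem_smul hz Submodule.mem_top

end Groth.Agent.CAlgH3.RGam.CechF
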