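import Groth.Agent.CAlgH3.RGam.CechF
import Groth.Agent.CAlgH3.RGam.Completion

/-!
The extended Čech complex computes `RΓ_J` of a module, compatibly with the augmentation.
-/

set_option autoImplicit false
set_option backward.isDefEq.respectTransparency false
set_option backward.defeqAttrib.useBackward true
set_option linter.style.haveILetI false
universe u

open CategoryTheory CategoryTheory.Limits CategoryTheory.Pretriangulated
open Groth.Agent.CAlgH3.ExtCech

attribute [local instance] HasDerivedCategory.standard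

namespace Groth.Agent.CAlgH3.RGam

open CechF Groth.Agent.DCat Groth.Agent.DCat.DC

variable {A : Type u} [CommRing A]

/-- A module in degree zero. -/
noncomputable abbrev single0 (M : ModuleCat.{u} A) : DRing.Cx A :=
  (HomologicalComplex.single (ModuleCat.{u} A) (ComplexShape.up ℤ) 0).obj M

/-- The augmentation. -/
noncomputable def aug (F : ModuleCat.{u} A ⥤ ModuleCat.{u} A) : ∀ (t : List A) (M : ModuleCat.{u} A),
    (C t F).obj M ⟶ single0 (F.obj M)
  | [], _ => 𝟙 _
  | f :: t, M => CochainComplex.mappingCocone.fst (step f t F M) ≫ aug F t M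

theorem coconeMap_fst {K K' L L' : DRing.Cx A} (φ : K ⟶ L) (φ' : K' ⟶ L') (a : K ⟶ K') (b : L ⟶ L')
    (comm : φ ≫ b = a ≫ φ') :
    coconeMap φ φ' a b comm ≫ CochainComplex.mappingCocone.fst φ' = CochainComplex.mappingCocone.fst φ ≫ a := by
  have key : ∀ {K L : DRing.Cx A} (ψ : K ⟶ L) (q : ℤ) (x : (CochainComplex.mappingCocone ψ).X q),
      ((CochainComplex.mappingCocone.fst ψ).f q).hom x = afst ψ x := fun ψ q x => by
    simp [afst, Misc15.Koszul.cfst, CochainComplex.mappingCocone.fst,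
      CochainComplex.HomComplex.Cochain.leftShift_v (n := 1) _ _ _ _ _ q _ (q + -1) (show q + -1 + 1 = q by omega)]
    rfl
  ext q x
  show ((CochainComplex.mappingCocone.fst φ').f q).hom (((coconeMap φ φ' a b comm).f q).hom x) =
    (a.f q).hom (((CochainComplex.mappingCocone.fst φ).f q).hom x)
  rw [key, key, afst_coconeMap]

variable {F G : ModuleCat.{u} A ⥤ ModuleCat.{u} A}

theorem aug_cN (η : F ⟶ G) : ∀ (t : List A) (M : ModuleCat.{u} A),
    (cN η t).app M ≫ aug G t M = aug F t M ≫ (HomologicalComplex.single _ _ 0).map (η.app M)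
  | [], M => (Category.comp_id _).trans (Category.id_comp _).symm
  | f :: t, M => by
    show coconeMap _ _ _ _ _ ≫ CochainComplex.mappingCocone.fst (step f t G M) ≫ aug G t M =
      (CochainComplex.mappingCocone.fst (step f t F M) ≫ aug F t M) ≫ _
    rw [← Category.assoc]
    erw [coconeMap_fst]
    rw [Category.assoc, Category.assoc]
    exact congrArg (CochainComplex.mappingCocone.fst (step f t F M) ≫ ·) (aug_cN η t M)

theorem aug_map : ∀ (t : List A) {M N : ModuleCat.{u} A} (g : M ⟶ N),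
    (C t F).map g ≫ aug F t N = aug F t M ≫ (HomologicalComplex.single _ _ 0).map (F.map g)
  | [], M, N, g => (Category.comp_id _).trans (Category.id_comp _).symm
  | f :: t, M, N, g => by
    show coconeMap _ _ _ _ _ ≫ CochainComplex.mappingCocone.fst (step f t F N) ≫ aug F t N =
      (CochainComplex.mappingCocone.fst (step f t F M) ≫ aug F t M) ≫ _
    rw [← Category.assoc]
    erw [coconeMap_fst]
    rw [Category.assoc, Category.assoc]
    exact congrArg (CochainComplex.mappingCocone.fst (step f t F M) ≫ ·) (aug_map t g)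

theorem distinguished_cocone {K L : DRing.Cx A} (φ : K ⟶ L) :
    DerivedCategory.Q.mapTriangle.obj (CochainComplex.mappingCocone.triangle φ) ∈ distTriang (Dual.D A) := by
  rw [rotate_distinguished_triangle]
  refine isomorphic_distinguished _ ((DerivedCategory.mem_distTriang_iff _).2 ⟨_, _, φ, ⟨Iso.refl _⟩⟩) _ ?_
  exact ((DerivedCategory.Q.mapTriangleRotateIso).app _) ≪≫
    DerivedCategory.Q.mapTriangle.mapIso (CochainComplex.mappingCocone.rotateTriangleIso φ)

theorem bijective_loc {f : A} {M : ModuleCat.{u} A} (g : A) (h : Function.Bijective fun m : M => f • m) :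
    Function.Bijective fun m : (loc g).obj M => f • m := by
  let μ := LocalizedModule.mkLinearMap (Submonoid.powers g) M
  have he : ∀ x : LocalizedModule (Submonoid.powers g) M,
      IsLocalizedModule.map (Submonoid.powers g) μ μ (f • (LinearMap.id : M →ₗ[A] M)) x = f • x := fun x => by
    rw [map_smul, IsLocalizedModule.map_id, LinearMap.smul_apply, LinearMap.id_apply]
  have hh := IsLocalizedModule.map_injective (Submonoid.powers g) μ μ (f • (LinearMap.id : M →ₗ[A] M)) h.1
  have hh' := IsLocalizedModule.map_surjective (Submonoid.powers g) μ μ (f • (LinearMap.id : M →ₗ[A] M)) h.2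
  refine ⟨fun x y hxy => hh (((he x).trans hxy).trans (he y).symm), fun y => ?_⟩
  obtain ⟨x, hx⟩ := hh' y
  exact ⟨x, (he x).symm.trans hx⟩

theorem bijective_smul_C (f : A) : ∀ (t : List A) (M : ModuleCat.{u} A), (Function.Bijective fun m : M => f • m) →
    ∀ q : ℤ, Function.Bijective fun x : ((C t (𝟭 _)).obj M).X q => f • x
  | [], M, hM, q => by
    rcases single_cases ((𝟭 (ModuleCat.{u} A)).obj M) q with rfl | hs
    · refine ⟨fun x y hxy => (s0 M).injective (hM.1 (((map_smul (s0 M) f x).symm.trans (congrArg _ hxy)).trans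
        (map_smul (s0 M) f y))), fun y => ?_⟩
      obtain ⟨m, hm⟩ := hM.2 (s0 M y)
      exact ⟨(s0 M).symm m, (s0 M).injective (by rw [map_smul, LinearEquiv.apply_symm_apply]; exact hm)⟩
    · exact ⟨fun x y _ => hs.elim _ _, fun y => ⟨y, hs.elim _ _⟩⟩
  | g :: t, M, hM, q => by
    have h1 := bijective_smul_C f t M hM q
    have h2 := bijective_smul_C f t ((loc g).obj M) (bijective_loc g hM) (q - 1)
    refine ⟨fun x y hxy => cocone_ext (step g t (𝟭 _) M) (show q - 1 + 1 = q by omega) (h1.1 ?_) (h2.1 ?_), fun y => ?_⟩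
    · exact ((afst_smul (step g t (𝟭 _) M) f x).symm.trans (congrArg _ hxy)).trans (afst_smul (step g t (𝟭 _) M) f y)
    · exact ((asnd_smul (step g t (𝟭 _) M) _ f x).symm.trans (congrArg _ hxy)).trans (asnd_smul (step g t (𝟭 _) M) _ f y)
    · obtain ⟨a, ha⟩ := h1.2 (afst (step g t (𝟭 _) M) y)
      obtain ⟨b, hb⟩ := h2.2 (asnd (step g t (𝟭 _) M) (show q - 1 + 1 = q by omega) y)
      exact ⟨amk (step g t (𝟭 _) M) (show q - 1 + 1 = q by omega) a b, cocone_ext (step g t (𝟭 _) M)
        (show q - 1 + 1 = q by omega) ((afst_smul _ f _).trans (by rw [afst_amk]; exact ha))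
        ((asnd_smul _ _ f _).trans (by rw [asnd_amk]; exact hb))⟩

theorem finv_C_loc (f : A) (t : List A) (M : ModuleCat.{u} A) :
    FInv f (DerivedCategory.Q.obj ((C t (𝟭 _)).obj ((loc f).obj M))) := by
  show IsIso (f • 𝟙 (DerivedCategory.Q.obj ((C t (𝟭 _)).obj ((loc f).obj M))))
  haveI : ∀ q, IsIso ((f • 𝟙 ((C t (𝟭 _)).obj ((loc f).obj M)) :
      (C t (𝟭 _)).obj ((loc f).obj M) ⟶ _).f q) := fun q =>
    (ConcreteCategory.isIso_iff_bijective _).2 (bijective_smul_C f t _ ((Module.End.isUnit_iff _).1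
      (IsLocalizedModule.map_units (LocalizedModule.mkLinearMap (Submonoid.powers f) M)
        (⟨f, Submonoid.mem_powers f⟩ : Submonoid.powers f))) q)
  haveI := HomologicalComplex.Hom.isIso_of_components (f • 𝟙 ((C t (𝟭 _)).obj ((loc f).obj M)))
  rw [← DerivedCategory.Q.map_id, ← DerivedCategory.Q.map_smul]
  infer_instance

theorem cIso_aug {I : Ideal A} : ∀ (t : List A), (∀ g ∈ t, g ∈ I) → ∀ M : ModuleCat.{u} A,
    CIso I (DerivedCategory.Q.map (aug (𝟭 _) t M))
  | [], _, M => by
    haveI : IsIso (aug (𝟭 _) ([] : List A) M) := inferInstanceAs (IsIso (𝟙 _))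
    exact cIso_of_isIso _
  | f :: t, h, M => by
    show CIso I (DerivedCategory.Q.map (CochainComplex.mappingCocone.fst (step f t (𝟭 _) M) ≫ aug (𝟭 _) t M))
    rw [Functor.map_comp]
    exact (cIso_of_finv (h f List.mem_cons_self) (distinguished_cocone (step f t (𝟭 _) M)) (finv_C_loc f t M)).comp
      (cIso_aug t (fun g hg => h g (List.mem_cons_of_mem _ hg)) M)

variable [IsNoetherianRing A] (J : Ideal A) [DRing.HasRgammaI J]

/-- `Γ`-torsion objects see nothing of objects on which an element acts invertibly. -/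
theorem eq_zero_of_tors_finv {f : A} (hf : f ∈ J) {Y L : Dual.D A} (hY : FInv f Y) (hL : Tors J L) (φ : L ⟶ Y) :
    φ = 0 := by
  obtain ⟨ψ, rfl⟩ := (bijective_comp_ε J hL Y).2 φ
  obtain ⟨s, rfl⟩ := exists_list J
  have h0 : IsZero ((DRing.RgammaI (Ideal.ofList s)).obj Y) := by
    refine isZero_of_tors_orth s s _ (fun g hg i y => ?_) (fun L' hL' χ => ?_) (fun g hg hgs => absurd hg hgs)
    · obtain ⟨n, hn⟩ := tors_RgammaI (Ideal.ofList s) Y i y
      exact ⟨n, hn _ (Ideal.pow_mem_pow (Ideal.subset_span (show g ∈ {r | r ∈ s} from hg)) n)⟩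
    · obtain ⟨θ, rfl⟩ := (cIso_ε (Ideal.ofList s) Y L' hL').2 χ
      show _ ≫ θ = 0
      rw [eq_zero_of_finv hY (dcf_of_isDerivedComplete hL' hf) θ, comp_zero]
  show ψ ≫ _ = 0
  rw [h0.eq_of_tgt ψ 0, zero_comp]

theorem bijective_comp_aug : ∀ (t : List A), (∀ g ∈ t, g ∈ J) → ∀ (M : ModuleCat.{u} A) {L : Dual.D A},
    Tors J L → Function.Bijective (fun ψ : L ⟶ DerivedCategory.Q.obj ((C t (𝟭 _)).obj M) =>
      ψ ≫ DerivedCategory.Q.map (aug (𝟭 _) t M))
  | [], _, M, L, _ => by
    haveI : IsIso (aug (𝟭 _) ([] : List A) M) := inferInstanceAs (IsIso (𝟙 _))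
    exact ⟨fun a b h => (cancel_mono (DerivedCategory.Q.map (aug (𝟭 _) ([] : List A) M))).1 h,
      fun φ => ⟨φ ≫ inv (DerivedCategory.Q.map (aug (𝟭 _) ([] : List A) M)), by simp⟩⟩
  | f :: t, h, M, L, hL => by
    let T := DerivedCategory.Q.mapTriangle.obj (CochainComplex.mappingCocone.triangle (step f t (𝟭 _) M))
    have hT : T ∈ distTriang _ := distinguished_cocone _
    have hf := h f List.mem_cons_self
    have hb : Function.Bijective (fun ψ : L ⟶ T.obj₁ => ψ ≫ T.mor₁) := by
      refine ⟨(injective_iff_map_eq_zero (Preadditive.rightComp L T.mor₁)).2 fun ψ hψ => ?_, fun φ => ?_⟩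
      · obtain ⟨θ, hθ⟩ := Triangle.coyoneda_exact₂ _ (inv_rot_of_distTriang _ hT) ψ hψ
        rw [hθ, eq_zero_of_tors_finv J hf ((finv_C_loc f t M).shift (-1)) hL θ, zero_comp]
      · obtain ⟨θ, hθ⟩ := Triangle.coyoneda_exact₂ _ hT φ (eq_zero_of_tors_finv J hf (finv_C_loc f t M) hL _)
        exact ⟨θ, hθ.symm⟩
    have e : (fun ψ : L ⟶ DerivedCategory.Q.obj ((C (f :: t) (𝟭 _)).obj M) =>
        ψ ≫ DerivedCategory.Q.map (aug (𝟭 _) (f :: t) M)) =
        (fun ψ => ψ ≫ DerivedCategory.Q.map (aug (𝟭 _) t M)) ∘ (fun ψ : L ⟶ T.obj₁ => ψ ≫ T.mor₁) := funext fun ψ => by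
      show ψ ≫ DerivedCategory.Q.map (CochainComplex.mappingCocone.fst (step f t (𝟭 _) M) ≫ aug (𝟭 _) t M) = _
      rw [Functor.map_comp]
      exact (Category.assoc _ _ _).symm
    rw [e]
    exact (bijective_comp_aug t (fun g hg => h g (List.mem_cons_of_mem _ hg)) M hL).comp hb

/-- The comparison with `RΓ_J`. -/
theorem exists_compare {s : List A} (hs : Ideal.ofList s = J) (M : ModuleCat.{u} A) :
    ∃ e : DerivedCategory.Q.obj ((C s (𝟭 _)).obj M) ≅ (DRing.RgammaI J).obj (DerivedCategory.Q.obj (single0 M)),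
      e.hom ≫ (DRing.RgammaIε J).app _ = DerivedCategory.Q.map (aug (𝟭 _) s M) := by
  subst hs
  set X := DerivedCategory.Q.obj ((C s (𝟭 _)).obj M)
  have hg : ∀ g ∈ s, g ∈ Ideal.ofList s := fun g hg => Ideal.subset_span hg
  have hX : Tors (Ideal.ofList s) X := (tors_Q_iff _).2 fun i y => mem_tor_of_forall y s fun g hgs => by
    obtain ⟨z, rfl⟩ := cl_surjective _ i y
    obtain ⟨n, w, hw⟩ := CechF.tors g s hgs M (i - 1) i (i + 1) (by omega) rfl z.1 z.2
    exact ⟨n, by rw [← map_smul, cl_eq_zero_iff]; exact ⟨w, hw⟩⟩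
  have hR := tors_RgammaI (Ideal.ofList s) (DerivedCategory.Q.obj (single0 M))
  obtain ⟨a, ha⟩ := (bijective_comp_ε (Ideal.ofList s) hX _).2 (DerivedCategory.Q.map (aug (𝟭 _) s M))
  obtain ⟨b, hb⟩ := (bijective_comp_aug (Ideal.ofList s) s hg M hR).2 ((DRing.RgammaIε (Ideal.ofList s)).app _)
  dsimp only at ha hb
  refine ⟨⟨a, b, (bijective_comp_aug (Ideal.ofList s) s hg M hX).1 ?_, (bijective_comp_ε (Ideal.ofList s) hR _).1 ?_⟩, ha⟩
  · exact ((Category.assoc _ _ _).trans ((congrArg (a ≫ ·) hb).trans ha)).trans (Category.id_comp _).symm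
  · exact ((Category.assoc _ _ _).trans ((congrArg (b ≫ ·) ha).trans hb)).trans (Category.id_comp _).symm

end Groth.Agent.CAlgH3.RGam
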