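import Groth.Agent.CAlgH3.RGam.CechH0
import Groth.Agent.CommAlg4.ExactProd
import Groth.Prelude.Def_DCoh2
import Mathlib.Algebra.Homology.DerivedCategory.ShortExact

/-!
The completed Čech complex is a derived limit of the Čech complexes of the reductions.
-/

set_option autoImplicit false
set_option backward.isDefEq.respectTransparency false
set_option backward.isDefEq.respectTransparency.types false
set_option backward.defeqAttrib.useBackward true
set_option linter.style.haveILetI false

universe u

open CategoryTheory CategoryTheory.Limits CategoryTheory.Pretriangulated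
open Groth.Agent.CAlgH3.ExtCech

attribute [local instance] HasDerivedCategory.standard

namespace Groth.Agent.CAlgH3.RGam.CechF

open Groth.Agent.DCat Groth.Agent.DCat.DC Lam

variable {A : Type u} [CommRing A] {F G H : ModuleCat.{u} A ⥤ ModuleCat.{u} A}

theorem cN_comp (η : F ⟶ G) (θ : G ⟶ H) : ∀ (t : List A) (M : ModuleCat.{u} A) (q : ℤ) (x : ((C t F).obj M).X q),
    (((cN (η ≫ θ) t).app M).f q).hom x = (((cN θ t).app M).f q).hom ((((cN η t).app M).f q).hom x)
  | [], M, q, x => by
    rcases single_cases (H.obj M) q with rfl | hs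
    · refine (s0 (H.obj M)).injective ((s0_map ((η ≫ θ).app M) x).trans ?_)
      refine Eq.trans ?_ ((s0_map (θ.app M) _).trans (congrArg (θ.app M).hom (s0_map (η.app M) x))).symm
      rfl
    · exact hs.elim _ _
  | f :: t, M, q, x => cocone_ext (step f t H M) (show q - 1 + 1 = q by omega)
      (by rw [afst_cN, afst_cN, afst_cN, cN_comp η θ t M q])
      (by rw [asnd_cN, asnd_cN, asnd_cN, cN_comp η θ t _ (q - 1)])

theorem cN_sub (η a b : F ⟶ G) (h : ∀ N x, (η.app N).hom x + (b.app N).hom x = (a.app N).hom x) :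
    ∀ (t : List A) (M : ModuleCat.{u} A) (q : ℤ) (x : ((C t F).obj M).X q),
      (((cN η t).app M).f q).hom x + (((cN b t).app M).f q).hom x = (((cN a t).app M).f q).hom x
  | [], M, q, x => by
    rcases single_cases (G.obj M) q with rfl | hs
    · refine (s0 (G.obj M)).injective ((map_add _ _ _).trans ?_)
      refine Eq.trans ?_ ((h M _).trans (s0_map (a.app M) x).symm)
      exact congrArg₂ (· + ·) (s0_map (η.app M) x) (s0_map (b.app M) x)
    · exact hs.elim _ _
  | f :: t, M, q, x => by
    refine cocone_ext (step f t G M) (show q - 1 + 1 = q by omega) ?_ ?_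
    · refine ((map_add ((CochainComplex.mappingCone.fst (step f t G M)).1.v (q + -1) q (by omega)).hom _ _) : _).trans ?_
      refine Eq.trans (congrArg₂ (· + ·) (afst_cN η f t M q x) (afst_cN b f t M q x)) ?_
      exact (cN_sub η a b h t M q _).trans (afst_cN a f t M q x).symm
    · refine Eq.trans ?_ (asnd_cN a f t M _ x).symm
      rw [← cN_sub η a b h t _ (q - 1), ← asnd_cN, ← asnd_cN]
      simp only [asnd, Misc15.Koszul.csnd, map_add]

variable {I : Ideal A}

/-- The terms are products. -/
theorem existsUnique_family : ∀ (t : List A) (M : ModuleCat.{u} A) (q : ℤ)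
    (y : ∀ n, ((C t (Qn I n)).obj M).X q), ∃! x : ((C t (PiQ I)).obj M).X q,
      ∀ n, (((cN (prj I n) t).app M).f q).hom x = y n
  | [], M, q, y => by
    rcases single_cases ((PiQ I).obj M) q with rfl | hs
    · refine ⟨(s0 ((PiQ I).obj M)).symm (fun n => s0 _ (y n)), fun n => (s0 ((Qn I n).obj M)).injective ?_,
        fun x hx => (s0 ((PiQ I).obj M)).injective ?_⟩
      · refine (s0_map ((prj I n).app M) _).trans ?_
        rw [LinearEquiv.apply_symm_apply]
        rfl
      · rw [LinearEquiv.apply_symm_apply]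
        exact funext fun n => (s0_map ((prj I n).app M) x).symm.trans (congrArg _ (hx n))
    · refine ⟨0, fun n => ?_, fun _ _ => hs.elim _ _⟩
      rcases single_cases ((Qn I n).obj M) q with rfl | hs'
      · haveI : Subsingleton ((PiQ I).obj M) := (s0 ((PiQ I).obj M)).symm.toEquiv.subsingleton
        haveI : Subsingleton (∀ k, (Qn I k).obj M) := ‹Subsingleton ((PiQ I).obj M)›
        haveI : Subsingleton ((Qn I n).obj M) :=
          (show Function.Surjective (fun g : ∀ k, (Qn I k).obj M => g n) from fun z =>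
            ⟨Function.update (0 : ∀ k, (Qn I k).obj M) n z, Function.update_self ..⟩).subsingleton
        exact (s0 ((Qn I n).obj M)).injective (Subsingleton.elim _ _)
      · exact hs'.elim _ _
  | f :: t, M, q, y => by
    obtain ⟨a, ha, ha'⟩ := existsUnique_family t M q fun n => afst (step f t (Qn I n) M) (y n)
    obtain ⟨b, hb, hb'⟩ := existsUnique_family t ((loc f).obj M) (q - 1) fun n =>
      asnd (step f t (Qn I n) M) (show q - 1 + 1 = q by omega) (y n)
    refine ⟨amk (step f t (PiQ I) M) (show q - 1 + 1 = q by omega) a b, fun n => ?_, fun x hx => ?_⟩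
    · refine cocone_ext (step f t (Qn I n) M) (show q - 1 + 1 = q by omega) ?_ ?_
      · rw [afst_cN, afst_amk, ha]
      · rw [asnd_cN, asnd_amk, hb]
    · refine cocone_ext (step f t (PiQ I) M) (show q - 1 + 1 = q by omega) ?_ ?_
      · rw [afst_amk]; exact ha' _ fun n => by rw [← afst_cN, hx n]
      · rw [asnd_amk]; exact hb' _ fun n => by rw [← asnd_cN, hx n]

/-- `v` is reduction modulo `I ^ n`. -/
def Red (I : Ideal A) (n : ℕ) {M N : ModuleCat.{u} A} (v : M ⟶ N) : Prop :=
  Function.Surjective v.hom ∧ LinearMap.ker v.hom = I ^ n • ⊤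

theorem Red.loc (f : A) {n : ℕ} {M N : ModuleCat.{u} A} {v : M ⟶ N} (h : Red I n v) :
    Red I n ((CechF.loc f).map v) := by
  let S := Submonoid.powers f
  let μM := LocalizedModule.mkLinearMap S M
  let μN := LocalizedModule.mkLinearMap S N
  haveI : IsLocalizedModule S μM := localizedModuleIsLocalizedModule S
  haveI : IsLocalizedModule S μN := localizedModuleIsLocalizedModule S
  have hnat : ∀ m, ((CechF.loc f).map v).hom (((lu f).app M).hom m) = ((lu f).app N).hom (v.hom m) :=
    fun m => (congrArg (fun φ => φ.hom m) ((lu f).naturality v)).symm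
  have hu : ∀ (k : ℕ) (P : ModuleCat.{u} A), Function.Bijective (fun z : (CechF.loc f).obj P => f ^ k • z) :=
    fun k P => (Module.End.isUnit_iff _).1 (IsLocalizedModule.map_units
      (LocalizedModule.mkLinearMap S P) (⟨f ^ k, k, rfl⟩ : S))
  refine ⟨fun y => ?_, le_antisymm (fun x hx => ?_) ?_⟩
  · obtain ⟨⟨y₀, ⟨_, k, rfl⟩⟩, hy⟩ := IsLocalizedModule.surj S μN y
    obtain ⟨m, rfl⟩ := h.1 y₀
    obtain ⟨x, hx⟩ := (hu k M).2 (((lu f).app M).hom m)
    refine ⟨x, (hu k N).1 ?_⟩
    show f ^ k • ((CechF.loc f).map v).hom x = f ^ k • y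
    rw [← map_smul, show f ^ k • x = ((lu f).app M).hom m from hx, hnat]
    exact hy.symm
  · obtain ⟨⟨m, ⟨_, k, rfl⟩⟩, hm⟩ := IsLocalizedModule.surj S μM x
    have hm' : f ^ k • x = ((lu f).app M).hom m := hm
    have h0 : ((lu f).app N).hom (v.hom m) = 0 := by
      rw [← hnat, ← hm', map_smul, show ((CechF.loc f).map v).hom x = 0 from hx, smul_zero]
    obtain ⟨⟨_, j, rfl⟩, hj⟩ := (IsLocalizedModule.eq_zero_iff S μN).1 h0
    have hjm : f ^ j • m ∈ (I ^ n • ⊤ : Submodule A M) := by
      rw [← h.2, LinearMap.mem_ker, map_smul]; exact hj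
    obtain ⟨u, hu'⟩ := IsUnit.exists_right_inv (IsLocalizedModule.map_units μM (⟨f ^ (j + k), j + k, rfl⟩ : S))
    let w : Module.End A ((CechF.loc f).obj M) := u
    have hw : ∀ z : (CechF.loc f).obj M, w (f ^ (j + k) • z) = z := fun z => by
      rw [map_smul]; exact congrArg (fun φ : Module.End A ((CechF.loc f).obj M) => φ z) hu'
    rw [← hw x, pow_add, mul_smul, hm', ← map_smul]
    exact Submodule.smul_top_le_comap_smul_top (I ^ n) (w.comp ((lu f).app M).hom) hjm
  · refine Submodule.smul_le.2 fun a ha z _ => ?_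
    rw [LinearMap.mem_ker, map_smul]
    obtain ⟨⟨y₀, ⟨_, k, rfl⟩⟩, hy⟩ := IsLocalizedModule.surj S μN (((CechF.loc f).map v).hom z)
    refine (hu k N).1 ?_
    obtain ⟨m, rfl⟩ := h.1 y₀
    show f ^ k • a • _ = f ^ k • (0 : (CechF.loc f).obj N)
    rw [smul_zero, smul_comm, show f ^ k • ((CechF.loc f).map v).hom z = ((lu f).app N).hom (v.hom m) from hy,
      ← map_smul]
    have h' : a • m ∈ LinearMap.ker v.hom := h.2 ▸ Submodule.smul_mem_smul ha Submodule.mem_top
    exact (congrArg ((lu f).app N).hom ((map_smul v.hom a m).symm.trans (LinearMap.mem_ker.1 h'))).trans (map_zero _)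

theorem red_mk (n : ℕ) (M : ModuleCat.{u} A) : Red I n ((mkN I n).app M) :=
  ⟨Submodule.mkQ_surjective _, Submodule.ker_mkQ _⟩

theorem red_compare {n : ℕ} : ∀ (t : List A) {M N : ModuleCat.{u} A} (v : M ⟶ N), Red I n v → ∀ q : ℤ,
    Function.Surjective ((((C t (𝟭 _)).map v).f q)).hom ∧
      ∀ x : ((C t (𝟭 _)).obj M).X q, (((C t (𝟭 _)).map v).f q).hom x = 0 ↔
        (((cN (mkN I n) t).app M).f q).hom x = 0
  | [], M, N, v, h, q => by
    rcases single_cases M q with rfl | hs
    · refine ⟨fun y => ?_, fun x => ?_⟩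
      · obtain ⟨m, hm⟩ := h.1 (s0 N y)
        exact ⟨(s0 M).symm m, (s0 N).injective ((s0_map v _).trans (by rw [LinearEquiv.apply_symm_apply]; exact hm))⟩
      · rw [← (s0 N).map_eq_zero_iff, ← (s0 ((Qn I n).obj M)).map_eq_zero_iff]
        refine Iff.trans ?_ (Iff.of_eq (congrArg (· = 0) (s0_map ((mkN I n).app M) x).symm))
        refine (Iff.of_eq (congrArg (· = 0) (s0_map v x))).trans ?_
        rw [← LinearMap.mem_ker, h.2]
        exact (Submodule.Quotient.mk_eq_zero _).symm
    · refine ⟨fun y => ?_, fun x => by rw [hs.elim x 0, map_zero, map_zero]; exact ⟨fun _ => rfl, fun _ => rfl⟩⟩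
      rcases single_cases N q with rfl | hs'
      · haveI : Subsingleton M := (s0 M).symm.toEquiv.subsingleton
        haveI : Subsingleton N := h.1.subsingleton
        exact ⟨0, (s0 N).injective (Subsingleton.elim _ _)⟩
      · exact ⟨0, hs'.elim _ _⟩
  | f :: t, M, N, v, h, q => by
    obtain ⟨s1, k1⟩ := red_compare t v h q
    obtain ⟨s2, k2⟩ := red_compare t ((CechF.loc f).map v) (h.loc f) (q - 1)
    refine ⟨fun y => ?_, fun x => ?_⟩
    · obtain ⟨a, ha⟩ := s1 (afst (step f t (𝟭 _) N) y)
      obtain ⟨b, hb⟩ := s2 (asnd (step f t (𝟭 _) N) (show q - 1 + 1 = q by omega) y)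
      refine ⟨amk (step f t (𝟭 _) M) (show q - 1 + 1 = q by omega) a b,
        cocone_ext (step f t (𝟭 _) N) (show q - 1 + 1 = q by omega) ?_ ?_⟩
      · rw [afst_map, afst_amk, ha]
      · rw [asnd_map, asnd_amk, hb]
    · have c1 := k1 (afst (step f t (𝟭 _) M) x)
      have c2 := k2 (asnd (step f t (𝟭 _) M) (show q - 1 + 1 = q by omega) x)
      rw [← afst_map, ← afst_cN] at c1
      rw [← asnd_map, ← asnd_cN] at c2
      constructor <;> intro hx
      · exact cocone_ext (step f t (Qn I n) M) (show q - 1 + 1 = q by omega)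
          ((c1.1 (by rw [hx]; exact afst_zero _)).trans (afst_zero _).symm)
          ((c2.1 (by rw [hx]; exact asnd_zero _ _)).trans (asnd_zero _ _).symm)
      · exact cocone_ext (step f t (𝟭 _) N) (show q - 1 + 1 = q by omega)
          ((c1.2 (by rw [hx]; exact afst_zero _)).trans (afst_zero _).symm)
          ((c2.2 (by rw [hx]; exact asnd_zero _ _)).trans (asnd_zero _ _).symm)

/-- Two surjections with the same kernel. -/
theorem exists_iso_of_ker {P X Y : DRing.Cx A} (a : P ⟶ X) (b : P ⟶ Y)
    (ha : ∀ q, Function.Surjective (a.f q).hom) (hb : ∀ q, Function.Surjective (b.f q).hom)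
    (hk : ∀ q x, (a.f q).hom x = 0 ↔ (b.f q).hom x = 0) : ∃ γ : X ≅ Y, a ≫ γ.hom = b := by
  let e : ∀ q, X.X q ≅ Y.X q := fun q =>
    (((LinearMap.quotKerEquivOfSurjective _ (ha q)).symm.trans
      (Submodule.quotEquivOfEq _ _ (Submodule.ext fun x => LinearMap.mem_ker.trans ((hk q x).trans LinearMap.mem_ker.symm)))).trans
        (LinearMap.quotKerEquivOfSurjective _ (hb q))).toModuleIso
  have he : ∀ q x, (e q).hom.hom ((a.f q).hom x) = (b.f q).hom x := fun q x => by
    show LinearMap.quotKerEquivOfSurjective _ (hb q) (Submodule.quotEquivOfEq _ _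
      (Submodule.ext fun x => LinearMap.mem_ker.trans ((hk q x).trans LinearMap.mem_ker.symm))
      ((LinearMap.quotKerEquivOfSurjective _ (ha q)).symm ((a.f q).hom x))) = _
    rw [show (LinearMap.quotKerEquivOfSurjective _ (ha q)).symm ((a.f q).hom x) = Submodule.Quotient.mk x from
      (LinearEquiv.symm_apply_eq _).2 rfl]
    rfl
  refine ⟨HomologicalComplex.Hom.isoOfComponents e fun i j _ => ?_, ?_⟩
  · ext y : 2
    obtain ⟨x, rfl⟩ := ha i y
    show (Y.d i j).hom ((e i).hom.hom ((a.f i).hom x)) = (e j).hom.hom ((X.d i j).hom ((a.f i).hom x))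
    rw [he, RGam.comm a, he, RGam.comm b]
  · ext q : 1
    ext x : 2
    exact he q x

/-- The complex of a reduction. -/
theorem exists_redIso (n : ℕ) (t : List A) (M : ModuleCat.{u} A) :
    ∃ γ : (C t (Qn I n)).obj M ≅ (C t (𝟭 _)).obj ((Qn I n).obj M),
      γ.hom ≫ aug (𝟭 _) t ((Qn I n).obj M) = aug (Qn I n) t M := by
  obtain ⟨γ, hγ⟩ := exists_iso_of_ker ((cN (mkN I n) t).app M) ((C t (𝟭 _)).map ((mkN I n).app M))
    (fun q => cN_surjective (mkN I n) (fun N => Submodule.mkQ_surjective _) t M q)
    (fun q => (red_compare t _ (red_mk n M) q).1) fun q x => ((red_compare t _ (red_mk n M) q).2 x).symm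
  haveI : Epi ((cN (mkN I n) t).app M) := by
    haveI : ∀ q, Epi (((cN (mkN I n) t).app M).f q) := fun q =>
      (ModuleCat.epi_iff_surjective _).2 (cN_surjective (mkN I n) (fun N => Submodule.mkQ_surjective _) t M q)
    exact HomologicalComplex.epi_of_epi_f _ inferInstance
  refine ⟨γ, (cancel_epi ((cN (mkN I n) t).app M)).1 ?_⟩
  rw [reassoc_of% hγ, aug_cN, aug_map]
  rfl

/-- The difference sequence. -/
theorem exists_triangle (t : List A) (M : ModuleCat.{u} A) :
    ∃ c : DerivedCategory.Q.obj ((C t (PiQ I)).obj M) ⟶ (DerivedCategory.Q.obj ((C t (Lam I)).obj M))⟦(1 : ℤ)⟧,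
      Triangle.mk (DerivedCategory.Q.map ((cN (incl I) t).app M)) (DerivedCategory.Q.map ((cN (δ I) t).app M)) c ∈
        distTriang (Dual.D A) := by
  let S : ShortComplex (DRing.Cx A) := ShortComplex.mk ((cN (incl I) t).app M) ((cN (δ I) t).app M) (by
    ext q x
    exact (cN_exact (incl I) (δ I) (exact_incl_δ I) t M q).apply_apply_eq_zero x)
  have hS : S.ShortExact := HomologicalComplex.shortExact_of_degreewise_shortExact S fun q =>
    { exact := (ShortComplex.ShortExact.moduleCat_exact_iff_function_exact _).2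
        (cN_exact (incl I) (δ I) (exact_incl_δ I) t M q)
      mono_f := (ModuleCat.mono_iff_injective _).2 (cN_injective (incl I) (injective_incl I) t M q)
      epi_g := (ModuleCat.epi_iff_surjective _).2 (cN_surjective (δ I) (surjective_δ I) t M q) }
  exact ⟨_, DerivedCategory.triangleOfSES_distinguished hS⟩

/-- The projections make a product in the derived category. -/
noncomputable def isLimitPi (t : List A) (M : ModuleCat.{u} A) :
    IsLimit (Fan.mk (DerivedCategory.Q.obj ((C t (PiQ I)).obj M))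
      (fun n => DerivedCategory.Q.map ((cN (prj I n) t).app M))) := by
  let Y : ℕ → DRing.Cx A := fun n => (C t (Qn I n)).obj M
  let c : Fan Y := Fan.mk ((C t (PiQ I)).obj M) fun n => (cN (prj I n) t).app M
  have hc : IsLimit c := HomologicalComplex.isLimitOfEval _ _ fun q =>
    (isLimitMapConeFanMkEquiv (HomologicalComplex.eval (ModuleCat.{u} A) (ComplexShape.up ℤ) q) Y _).symm
      (Fan.IsLimit.mk _
        (fun s => ModuleCat.ofHom
          { toFun := fun z => (existsUnique_family t M q fun n => (s.proj n).hom z).choose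
            map_add' := fun z z' => ((existsUnique_family t M q fun n => (s.proj n).hom (z + z')).choose_spec.2 _
              fun n => by
                rw [map_add, map_add, (existsUnique_family t M q fun n => (s.proj n).hom z).choose_spec.1 n,
                  (existsUnique_family t M q fun n => (s.proj n).hom z').choose_spec.1 n]).symm
            map_smul' := fun a z => ((existsUnique_family t M q fun n => (s.proj n).hom (a • z)).choose_spec.2 _
              fun n => by
                rw [RingHom.id_apply, map_smul, map_smul,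
                  (existsUnique_family t M q fun n => (s.proj n).hom z).choose_spec.1 n]).symm })
        (fun s n => ModuleCat.hom_ext (LinearMap.ext fun z =>
          (existsUnique_family t M q fun n => (s.proj n).hom z).choose_spec.1 n))
        (fun s m hm => ModuleCat.hom_ext (LinearMap.ext fun z =>
          (existsUnique_family t M q fun n => (s.proj n).hom z).choose_spec.2 _ fun n =>
            congrArg (fun φ => φ.hom z) (hm n))))
  let e : c.pt ≅ (CommAlg4.ExactProd.prodFan Y).pt :=
    hc.conePointUniqueUpToIso (CommAlg4.ExactProd.isLimitProdFan Y)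
  have he : ∀ n, e.hom ≫ (CommAlg4.ExactProd.prodFan Y).proj n = (cN (prj I n) t).app M := fun n =>
    hc.conePointUniqueUpToIso_hom_comp (CommAlg4.ExactProd.isLimitProdFan Y) ⟨n⟩
  let q := DerivedCategory.quotientCompQhIso (ModuleCat.{u} A)
  refine IsLimit.ofIsoLimit ((IsLimit.postcomposeHomEquiv
    (Discrete.natIso fun n : Discrete ℕ => q.app (Y n.as)) _).symm (CommAlg4.ExactProd.isLimitQh Y))
    (Fan.ext ((DerivedCategory.Q.mapIso e).trans (q.app _).symm) fun n => ?_).symm
  show DerivedCategory.Q.map ((cN (prj I n) t).app M) = (DerivedCategory.Q.map e.hom ≫ q.inv.app _) ≫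
    DerivedCategory.Qh.map (CommAlg4.ExactProd.qB.map ((CommAlg4.ExactProd.prodFan Y).proj n)) ≫ q.hom.app (Y n)
  rw [← he, Functor.map_comp, Category.assoc]
  refine congrArg (DerivedCategory.Q.map e.hom ≫ ·) ?_
  exact (NatIso.naturality_1 q _).symm

variable [IsNoetherianRing A]

/-- The derived limit. -/
theorem isRlim_C (J : Ideal A) [DRing.HasRgammaI J] {t : List A} (ht : Ideal.ofList t = J) (M : ModuleCat.{u} A)
    (K : ℕ → Dual.D A) (tK : ∀ n, K (n + 1) ⟶ K n) [HasProduct K]
    (ι : ∀ n, K n ⟶ DerivedCategory.Q.obj (single0 ((Qn I n).obj M)))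
    (e : ∀ n, ∃ e : K n ≅ (DRing.RgammaI J).obj (DerivedCategory.Q.obj (single0 ((Qn I n).obj M))),
      e.hom ≫ (DRing.RgammaIε J).app _ = ι n)
    (hι : ∀ n, tK n ≫ ι n = ι (n + 1) ≫ DerivedCategory.Q.map ((sgl A).map ((tr I n).app M))) :
    DCoh.IsRlim K tK (DerivedCategory.Q.obj ((C t (Lam I)).obj M)) := by
  choose e he using e
  choose γ hγ using fun n => exists_redIso (I := I) n t M
  choose e₁ he₁ using fun n => exists_compare J ht ((Qn I n).obj M)
  let ε : ∀ n, DerivedCategory.Q.obj ((C t (Qn I n)).obj M) ≅ K n := fun n =>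
    DerivedCategory.Q.mapIso (γ n) ≪≫ e₁ n ≪≫ (e n).symm
  have hε : ∀ n, (ε n).hom ≫ ι n = DerivedCategory.Q.map (aug (Qn I n) t M) := fun n => by
    rw [← hγ n, Functor.map_comp, ← he₁ n, ← he n]
    simp [ε]
  have hbij : ∀ n, ∀ {L : Dual.D A}, Tors J L → Function.Injective (fun ψ : L ⟶ K n => ψ ≫ ι n) := by
    intro n L hL a b hab
    refine (cancel_mono (e n).hom).1 ((bijective_comp_ε J hL _).1 ?_)
    simpa only [Category.assoc, he n] using hab
  have ht' : ∀ n, DerivedCategory.Q.map ((cN (tr I n) t).app M) ≫ (ε n).hom = (ε (n + 1)).hom ≫ tK n := fun n => by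
    refine hbij n (Tors.of_iso ((e (n + 1)).symm ≪≫ (ε (n + 1)).symm) (tors_RgammaI J _)) ?_
    show (_ ≫ (ε n).hom) ≫ ι n = ((ε (n + 1)).hom ≫ tK n) ≫ ι n
    rw [Category.assoc, Category.assoc, hε, hι, reassoc_of% (hε (n + 1)), ← Functor.map_comp, ← Functor.map_comp, aug_cN]
  obtain ⟨c, hT⟩ := exists_triangle (I := I) t M
  let p : DerivedCategory.Q.obj ((C t (PiQ I)).obj M) ⟶ ∏ᶜ K :=
    Pi.lift fun n => DerivedCategory.Q.map ((cN (prj I n) t).app M) ≫ (ε n).hom
  haveI : IsIso p := by
    let hl := (IsLimit.postcomposeHomEquiv (Discrete.natIso (G := Discrete.functor K) fun n : Discrete ℕ => ε n.as) _).symm (isLimitPi (I := I) t M)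
    have : p = (hl.conePointUniqueUpToIso (productIsProduct K)).hom := Pi.hom_ext _ _ fun n => by
      refine (Pi.lift_π _ n).trans ?_
      exact (hl.conePointUniqueUpToIso_hom_comp (productIsProduct K) ⟨n⟩).symm
    rw [this]; infer_instance
  refine ⟨DerivedCategory.Q.map ((cN (incl I) t).app M) ≫ p, inv p ≫ c, ?_⟩
  refine isomorphic_distinguished _ hT _ (Iso.symm (Triangle.isoMk _ _ (Iso.refl _) (asIso p) (asIso p) ?_ ?_ ?_))
  · simp
  · refine Pi.hom_ext _ _ fun n => ?_
    dsimp
    simp only [Category.assoc, Pi.lift_π, p, Preadditive.comp_sub, Pi.lift_π_assoc]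
    rw [← ht' n]
    simp only [← Category.assoc, ← Functor.map_comp, ← Preadditive.sub_comp, ← Functor.map_sub]
    congr 2
    ext q x
    have h := cN_sub (δ I ≫ prj I n) (prj I n) (prj I (n + 1) ≫ tr I n)
      (fun N z => sub_add_cancel (z n) _) t M q x
    rw [cN_comp, cN_comp] at h
    exact eq_sub_of_add_eq h
  · simp

end Groth.Agent.CAlgH3.RGam.CechF
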