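import Groth.Agent.CAlgH3.RGam.Torsion
import Groth.Prelude.Def_Wider

/-!
Torsion subcomplexes as complexes: quasi-isomorphism criteria.
-/

set_option autoImplicit false
set_option backward.isDefEq.respectTransparency false
set_option backward.defeqAttrib.useBackward true
set_option linter.style.haveILetI false

universe u

open CategoryTheory CategoryTheory.Limits

namespace Groth.Agent.CAlgH3.RGam

open Groth.Agent.DualLib.GammaHDI (GC cyMk iCycles_cyclesMk homologyπ_eq_zero_iff)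

variable {A : Type u} [CommRing A] {P Q : DRing.Cx A}

/-- The class of a cocycle. -/
noncomputable def cl (P : DRing.Cx A) (j : ℤ) : LinearMap.ker (P.d j (j + 1)).hom →ₗ[A] P.homology j :=
  (P.homologyπ j).hom ∘ₗ cyMk P j

theorem iCycles_cyMk (P : DRing.Cx A) (j : ℤ) (z : LinearMap.ker (P.d j (j + 1)).hom) :
    (P.iCycles j).hom (cyMk P j z) = z.1 :=
  iCycles_cyclesMk P j z.1 z.2

theorem cl_eq_zero_iff (P : DRing.Cx A) (j : ℤ) (z : LinearMap.ker (P.d j (j + 1)).hom) :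
    cl P j z = 0 ↔ ∃ w, (P.d (j - 1) j).hom w = z.1 := by
  rw [← iCycles_cyMk P j z]
  exact homologyπ_eq_zero_iff P j _

theorem cl_surjective (P : DRing.Cx A) (j : ℤ) : Function.Surjective (cl P j) := fun y => by
  obtain ⟨c, rfl⟩ := (ModuleCat.epi_iff_surjective (P.homologyπ j)).1 inferInstance y
  refine ⟨⟨(P.iCycles j).hom c, ?_⟩, congrArg (P.homologyπ j).hom
    ((ModuleCat.mono_iff_injective (P.iCycles j)).1 inferInstance (iCycles_cyMk P j _))⟩
  exact congrArg (fun f => f.hom c) (P.iCycles_d j (j + 1))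

/-- The image of a cocycle. -/
theorem map_cycle (φ : P ⟶ Q) {j : ℤ} (z : LinearMap.ker (P.d j (j + 1)).hom) :
    (φ.f j).hom z.1 ∈ LinearMap.ker (Q.d j (j + 1)).hom :=
  (comm φ j (j + 1) z.1).trans (by rw [show (P.d j (j + 1)).hom z.1 = 0 from z.2, map_zero])

theorem homologyMap_cl (φ : P ⟶ Q) (j : ℤ) (z : LinearMap.ker (P.d j (j + 1)).hom) :
    (HomologicalComplex.homologyMap φ j).hom (cl P j z) = cl Q j ⟨_, map_cycle φ z⟩ := by
  have h1 := congrArg (fun f => f.hom (cyMk P j z)) (HomologicalComplex.homologyπ_naturality φ j)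
  refine h1.trans (congrArg (Q.homologyπ j).hom ((ModuleCat.mono_iff_injective (Q.iCycles j)).1 inferInstance ?_))
  rw [iCycles_cyMk]
  have h2 := congrArg (fun f => f.hom (cyMk P j z)) (HomologicalComplex.cyclesMap_i φ j)
  refine h2.trans ?_
  show (φ.f j).hom ((P.iCycles j).hom (cyMk P j z)) = _
  rw [iCycles_cyMk]

theorem quasiIso_of_elem (φ : P ⟶ Q)
    (hinj : ∀ (i j k : ℤ), i + 1 = j → j + 1 = k → ∀ z, (P.d j k).hom z = 0 →
      ∀ w', (φ.f j).hom z = (Q.d i j).hom w' → ∃ w, (P.d i j).hom w = z)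
    (hsurj : ∀ (i j k : ℤ), i + 1 = j → j + 1 = k → ∀ z', (Q.d j k).hom z' = 0 →
      ∃ z, (P.d j k).hom z = 0 ∧ ∃ w', z' - (φ.f j).hom z = (Q.d i j).hom w') : QuasiIso φ := by
  refine ⟨fun j => ?_⟩
  rw [quasiIsoAt_iff_isIso_homologyMap]
  refine (ConcreteCategory.isIso_iff_bijective _).2 ⟨(injective_iff_map_eq_zero (HomologicalComplex.homologyMap φ j).hom).2
    fun y hy => ?_, fun y => ?_⟩
  · obtain ⟨z, rfl⟩ := cl_surjective P j y
    rw [homologyMap_cl, cl_eq_zero_iff] at hy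
    obtain ⟨w', hw'⟩ := hy
    exact (cl_eq_zero_iff P j z).2 (hinj (j - 1) j (j + 1) (by omega) rfl z.1 z.2 w' hw'.symm)
  · obtain ⟨z', rfl⟩ := cl_surjective Q j y
    obtain ⟨z, hz, w', hw'⟩ := hsurj (j - 1) j (j + 1) (by omega) rfl z'.1 z'.2
    refine ⟨cl P j ⟨z, hz⟩, ((homologyMap_cl φ j ⟨z, hz⟩).trans ?_)⟩
    rw [eq_comm, ← sub_eq_zero, ← map_sub, cl_eq_zero_iff]
    exact ⟨w', hw'.symm⟩

theorem elem_of_quasiIso (φ : P ⟶ Q) [QuasiIso φ] {i j k : ℤ} (hij : i + 1 = j) (hjk : j + 1 = k) :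
    (∀ z, (P.d j k).hom z = 0 → ∀ w', (φ.f j).hom z = (Q.d i j).hom w' → ∃ w, (P.d i j).hom w = z) ∧
    ∀ z', (Q.d j k).hom z' = 0 → ∃ z, (P.d j k).hom z = 0 ∧ ∃ w', z' - (φ.f j).hom z = (Q.d i j).hom w' := by
  obtain rfl : i = j - 1 := by omega
  subst hjk
  have hb := (ConcreteCategory.isIso_iff_bijective (HomologicalComplex.homologyMap φ j)).1
    ((quasiIsoAt_iff_isIso_homologyMap φ j).1 inferInstance)
  refine ⟨fun z hz w' hw' => (cl_eq_zero_iff P j ⟨z, hz⟩).1 (hb.1 ?_), fun z' hz' => ?_⟩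
  · show (HomologicalComplex.homologyMap φ j).hom _ = (HomologicalComplex.homologyMap φ j).hom 0
    rw [homologyMap_cl, map_zero, cl_eq_zero_iff]
    exact ⟨w', hw'.symm⟩
  · obtain ⟨y, hy⟩ := hb.2 (cl Q j ⟨z', hz'⟩)
    obtain ⟨z, rfl⟩ := cl_surjective P j y
    have h : (HomologicalComplex.homologyMap φ j).hom (cl P j z) = cl Q j ⟨z', hz'⟩ := hy
    rw [homologyMap_cl, eq_comm, ← sub_eq_zero, ← map_sub, cl_eq_zero_iff] at h
    obtain ⟨w', hw'⟩ := h
    exact ⟨z.1, z.2, w', hw'.symm⟩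

/-- The functorial inclusion `Γ_I ⊆ Γ_{I'}` for `I' ≤ I`. -/
def gammaMono {I I' : Ideal A} (h : I' ≤ I) : DRing.gammaI I ⟶ DRing.gammaI I' where
  app M := ModuleCat.ofHom (Submodule.inclusion (p := DRing.torsionSub I M) (p' := DRing.torsionSub I' M)
    fun _ ⟨n, hn⟩ => ⟨n, fun a ha => hn a (Ideal.pow_right_mono h n ha)⟩)
  naturality _ _ _ := rfl

/-- The chain map `Γ_I P ⟶ Γ_{I'} P`. -/
noncomputable def gcMono {I I' : Ideal A} (h : I' ≤ I) (P : DRing.Cx A) : GC I P ⟶ GC I' P :=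
  (NatTrans.mapHomologicalComplex (gammaMono h) (ComplexShape.up ℤ)).app P

/-- The chain map `Γ_I P ⟶ P`. -/
noncomputable def gcι (I : Ideal A) (P : DRing.Cx A) : GC I P ⟶ P where
  f i := (DRing.gammaIι I).app (P.X i)
  comm' _ _ _ := rfl

/-- The chain map `Γ_I σ`. -/
noncomputable abbrev gcMap (I : Ideal A) (σ : P ⟶ Q) : GC I P ⟶ GC I Q :=
  ((DRing.gammaI I).mapHomologicalComplex (ComplexShape.up ℤ)).map σ

theorem gcMono_ι {I I' : Ideal A} (h : I' ≤ I) (P : DRing.Cx A) : gcMono h P ≫ gcι I' P = gcι I P := rfl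

theorem gcMap_ι (I : Ideal A) (σ : P ⟶ Q) : gcMap I σ ≫ gcι I Q = gcι I P ≫ σ := rfl

theorem qi_nil (σ : P ⟶ Q) [QuasiIso σ] : Qi σ ([] : List A) where
  inj i j k hij hjk z _ hdz w' _ hw := by
    obtain ⟨w, hw⟩ := (elem_of_quasiIso σ hij hjk).1 z hdz w' hw
    exact ⟨w, mem_tor_nil w, hw⟩
  surj i j k hij hjk z' _ hdz := by
    obtain ⟨z, hz, w', hw'⟩ := (elem_of_quasiIso σ hij hjk).2 z' hdz
    exact ⟨z, mem_tor_nil z, hz, w', mem_tor_nil w', hw'⟩

theorem quasiIso_gcMap (σ : P ⟶ Q) [QuasiIso σ] {s : List A} (hP : AdC P s) (hQ : AdC Q s) :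
    QuasiIso (gcMap (Ideal.ofList s) σ) := by
  have h := qi_of_list (qi_nil σ) s hP hQ
  refine quasiIso_of_elem _ (fun i j k hij hjk z hz w' hw => ?_) fun i j k hij hjk z' hz' => ?_
  · obtain ⟨w, hw1, hw2⟩ := h.inj i j k hij hjk z.1 z.2 (congrArg Subtype.val hz) w'.1 w'.2 (congrArg Subtype.val hw)
    exact ⟨⟨w, hw1⟩, Subtype.ext hw2⟩
  · obtain ⟨z, hz1, hz2, w', hw1, hw2⟩ := h.surj i j k hij hjk z'.1 z'.2 (congrArg Subtype.val hz')
    exact ⟨⟨z, hz1⟩, Subtype.ext hz2, ⟨w', hw1⟩, Subtype.ext hw2⟩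

theorem htor_nil {g : A} (h : ∀ j : ℤ, ∀ y : P.homology j, ∃ a : ℕ, g ^ a • y = 0) : HTor g ([] : List A) P := by
  intro i j k hij hjk z _ hz
  obtain rfl : i = j - 1 := by omega
  subst hjk
  obtain ⟨a, ha⟩ := h j (cl P j ⟨z, hz⟩)
  rw [← map_smul, cl_eq_zero_iff] at ha
  obtain ⟨w, hw⟩ := ha
  exact ⟨a, w, mem_tor_nil w, hw.symm⟩

theorem homology_of_htor {g : A} {s : List A} (h : HTor g s P) (j : ℤ) (y : (GC (Ideal.ofList s) P).homology j) :
    ∃ a : ℕ, g ^ a • y = 0 := by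
  obtain ⟨z, rfl⟩ := cl_surjective _ j y
  obtain ⟨a, w, hw, hdw⟩ := h (j - 1) j (j + 1) (by omega) rfl z.1.1 z.1.2 (congrArg Subtype.val z.2)
  exact ⟨a, by rw [← map_smul, cl_eq_zero_iff]; exact ⟨⟨w, hw⟩, Subtype.ext hdw.symm⟩⟩

theorem isPowerTorsion_homology_gc (I : Ideal A) (P : DRing.Cx A) (j : ℤ) :
    LocCoh.IsPowerTorsion I ((GC I P).homology j) := by
  intro y
  obtain ⟨z, rfl⟩ := cl_surjective _ j y
  obtain ⟨n, hn⟩ := z.1.2
  exact ⟨n, fun a ha => by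
    rw [← map_smul, show a • z = 0 from Subtype.ext (Subtype.ext (hn a ha)), map_zero]⟩

theorem quasiIso_gcMono_cons {f : A} {t : List A} (hP : AdC P (f :: t)) (h : HTor f t P)
    (hle : Ideal.ofList t ≤ Ideal.ofList (f :: t)) : QuasiIso (gcMono hle P) := by
  have hI := h.incl hP
  refine quasiIso_of_elem _ (fun i j k hij hjk z hz w' hw => ?_) fun i j k hij hjk z' hz' => ?_
  · obtain ⟨w, hw1, hw2⟩ := hI.inj i j k hij hjk z.1 z.2 w'.1 w'.2 (congrArg Subtype.val hw).symm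
    exact ⟨⟨w, hw1⟩, Subtype.ext hw2⟩
  · obtain ⟨z, hz1, hz2, w', hw1, hw2⟩ := hI.surj i j k hij hjk z'.1 z'.2 (congrArg Subtype.val hz')
    exact ⟨⟨z, hz1⟩, Subtype.ext hz2, ⟨w', hw1⟩, Subtype.ext hw2⟩

theorem quasiIso_gcι : ∀ (s : List A), AdC P s → (∀ g ∈ s, HTor g ([] : List A) P) → QuasiIso (gcι (Ideal.ofList s) P)
  | [], _, _ => by
    have : ∀ i, IsIso ((gcι (Ideal.ofList ([] : List A)) P).f i) := fun i =>
      (ConcreteCategory.isIso_iff_bijective _).2 ⟨Subtype.val_injective, fun x => ⟨⟨x, mem_tor_nil x⟩, rfl⟩⟩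
    haveI := HomologicalComplex.Hom.isIso_of_components (gcι (Ideal.ofList ([] : List A)) P)
    infer_instance
  | f :: t, hP, h => by
    have hle : Ideal.ofList t ≤ Ideal.ofList (f :: t) := by rw [Ideal.ofList_cons]; exact le_sup_right
    haveI := quasiIso_gcι t hP.tail fun g hg => h g (List.mem_cons_of_mem _ hg)
    haveI := quasiIso_gcMono_cons hP (htor_of_list (h f List.mem_cons_self) t hP.tail) hle
    rw [← gcMono_ι hle P]
    infer_instance

end Groth.Agent.CAlgH3.RGam
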