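import Groth.Agent.CAlgH3.RGam.RHomBridge
import Groth.Agent.DCat.RHomCxProj
import Groth.Agent.DCat.DTenEval
import Groth.Agent.DualLib.ResidueHom
import Mathlib.Algebra.Homology.HomotopyCategory.HomComplexSingle

/-!
Duals of perfect objects of `D(A)`.
-/

set_option autoImplicit false
set_option backward.isDefEq.respectTransparency false
set_option backward.defeqAttrib.useBackward true
set_option linter.style.haveILetI false

universe u

open CategoryTheory CategoryTheory.Limits MonoidalCategory CochainComplex CochainComplex.HomComplex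

attribute [local instance] HasDerivedCategory.standard

namespace Groth.Agent.CAlgH3.RGam

open Groth.Agent.DCat Groth.Agent.DualLib

variable {A : Type u} [CommRing A]

/-- `Hom•(P, M[0])` in degree `n` is `Hom(P⁻ⁿ, M)`. -/
noncomputable def homCxSingleEquiv (P : DRing.Cx A) (M : ModuleCat.{u} A) (n : ℤ) :
    (DRing.homCx P ((CochainComplex.singleFunctor (ModuleCat.{u} A) 0).obj M)).X n ≃ₗ[A] (P.X (-n) →ₗ[A] M) where
  toFun (α : Cochain P ((CochainComplex.singleFunctor (ModuleCat.{u} A) 0).obj M) n) :=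
    ModuleCat.Hom.hom (Cochain.toSingleEquiv (neg_add_cancel n) α)
  map_add' α β := by
    show ModuleCat.Hom.hom ((Cochain.toSingleEquiv (neg_add_cancel n)) (α + β)) = _
    rw [map_add]; rfl
  map_smul' a α := rfl
  invFun f := (Cochain.toSingleEquiv (neg_add_cancel n)).symm (ModuleCat.ofHom f)
  left_inv α := (Cochain.toSingleEquiv (neg_add_cancel n)).symm_apply_apply α
  right_inv f := by
    show ModuleCat.Hom.hom (Cochain.toSingleEquiv (neg_add_cancel n)
      ((Cochain.toSingleEquiv (neg_add_cancel n)).symm (ModuleCat.ofHom f))) = f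
    rw [AddEquiv.apply_symm_apply]; rfl

/-- The dual of a bounded complex of finite projectives is one. -/
theorem isPerfect_homCx {P : DRing.Cx A} {a b : ℤ} (h0 : DRing.VanishesOutside P a b)
    (hp : DRing.TermwiseFiniteProjective P) :
    DRing.IsPerfect A (DRing.toD (DRing.homCx P
      ((CochainComplex.singleFunctor (ModuleCat.{u} A) 0).obj (ModuleCat.of A A)))) := by
  refine ⟨_, -b, -a, fun i hi => ?_, fun i => ?_, ⟨Iso.refl _⟩⟩
  · have hz : IsZero (P.X (-i)) := h0 (-i) (by omega)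
    haveI : Subsingleton (P.X (-i)) := ModuleCat.subsingleton_of_isZero hz
    haveI := (homCxSingleEquiv P (ModuleCat.of A A) i).toEquiv.subsingleton
    exact ModuleCat.isZero_of_subsingleton _
  · haveI := (hp (-i)).1
    haveI := (hp (-i)).2
    haveI : Module.Finite A (P.X (-i) →ₗ[A] ModuleCat.of A A) := inferInstanceAs (Module.Finite A (Module.Dual A (P.X (-i))))
    haveI : Module.Projective A (P.X (-i) →ₗ[A] ModuleCat.of A A) := inferInstanceAs (Module.Projective A (Module.Dual A (P.X (-i))))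
    exact ⟨Module.Finite.equiv (homCxSingleEquiv P (ModuleCat.of A A) i).symm,
      Module.Projective.of_equiv (homCxSingleEquiv P (ModuleCat.of A A) i).symm⟩

variable [DTen.HasLTen A] [DTen.HasRHom A]

/-- `RHom(K, A)` of a perfect `K` is perfect. -/
theorem isPerfect_RHomR_inD {K : Dual.D A} (hK : DRing.IsPerfect A K) :
    DRing.IsPerfect A ((DTen.RHomR A K).obj (Dual.inD A A)) := by
  obtain ⟨P, a, b, h0, hp, ⟨eP⟩⟩ := hK
  haveI := isKProjective_of_vanishesAbove P b (fun i hi => h0 i (Or.inr hi)) (fun i => (hp i).2)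
  haveI := Functor.hasPointwiseRightDerivedFunctor_of_inverts (DRing.homCxQ P) (homCxQ_inverts P)
  haveI : DRing.HasRHomCx P := inferInstance
  obtain ⟨β⟩ := nonempty_RHomCx_iso_RHomR P
  haveI := isIso_homCxUnit P ((CochainComplex.singleFunctor (ModuleCat.{u} A) 0).obj (ModuleCat.of A A))
  let e0 : DerivedCategory.Q.obj ((CochainComplex.singleFunctor (ModuleCat.{u} A) 0).obj (ModuleCat.of A A)) ≅
      Dual.inD A A :=
    ((DerivedCategory.singleFunctorIsoCompQ (ModuleCat.{u} A) 0).app (ModuleCat.of A A)).symm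
  obtain ⟨Q, a', b', q0, qp, ⟨eQ⟩⟩ := isPerfect_homCx h0 hp
  exact ⟨Q, a', b', q0, qp, ⟨eQ ≪≫ asIso (((DRing.homCxQ P).totalRightDerivedUnit DerivedCategory.Q
    (HomologicalComplex.quasiIso (ModuleCat.{u} A) (ComplexShape.up ℤ))).app _) ≪≫
      (DRing.RHomCx P).mapIso e0 ≪≫ β.app _ ≪≫ rhomCongr eP.symm _⟩⟩

/-- `RHom(RHom(K, A), A) ≅ K` for perfect `K`. -/
theorem nonempty_double_dual [DTen.HasLTen₃ A] [DTen.IsSymMonoidal A] {K : Dual.D A} (hK : DRing.IsPerfect A K) :
    Nonempty ((DTen.RHomR A ((DTen.RHomR A K).obj (Dual.inD A A))).obj (Dual.inD A A) ≅ K) := by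
  let u0 : DTen.unit A ≅ Dual.inD A A :=
    ((DerivedCategory.singleFunctorIsoCompQ (ModuleCat.{u} A) 0).app (ModuleCat.of A A)).symm
  haveI := isIso_evalHom (DTen.unit A) (DTen.unit A) hK
  exact ⟨rhomCongr ((DTen.RHomR A K).mapIso u0) _ ≪≫
    (DTen.RHomR A _).mapIso u0.symm ≪≫ (asIso (DTen.evalHom K (DTen.unit A) (DTen.unit A))).symm ≪≫
    (DTen.LTen₂ A).mapIso (Iso.prod (rhomUnit (DTen.unit A)) (Iso.refl K)) ≪≫ DTen.leftUnitor K⟩

end Groth.Agent.CAlgH3.RGam
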