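import Groth.Agent.DualLib.ShriekRes
import Groth.Agent.DCat.DTenExact
import Groth.Agent.DCat.DerivedPrecompRight
import Groth.Agent.DCat.RDUnbounded

/-!
`RHom(K, -)` is computed by `Hom•(P, I)` for a K-flat replacement `P` of `K` and K-injective `I`.
-/

set_option autoImplicit false
set_option backward.isDefEq.respectTransparency false
set_option backward.defeqAttrib.useBackward true
set_option linter.style.haveILetI false

universe u

open CategoryTheory CategoryTheory.Limits

attribute [local instance] HasDerivedCategory.standard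

namespace Groth.Agent.CAlgH3.RGam

open Groth.Agent.DCat

variable {A : Type u} [CommRing A]

/-- `Hom•(K, -)` on the homotopy category. -/
noncomputable def homCxKh (K : DRing.Cx A) :
    HomotopyCategory (ModuleCat.{u} A) (ComplexShape.up ℤ) ⥤ Dual.D A :=
  CategoryTheory.Quotient.lift _
    (DRing.homCxFunctor K ⋙ HomotopyCategory.quotient (ModuleCat.{u} A) (ComplexShape.up ℤ) ⋙ DerivedCategory.Qh)
    (fun _ _ f g ⟨h⟩ => congrArg DerivedCategory.Qh.map
      (HomotopyCategory.eq_of_homotopy _ _ (homCxHomotopy K h)))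

/-- The comparison. -/
noncomputable def homCxKhIso (K : DRing.Cx A) :
    HomotopyCategory.quotient (ModuleCat.{u} A) (ComplexShape.up ℤ) ⋙ homCxKh K ≅ DRing.homCxQ K :=
  NatIso.ofComponents (fun L => (DerivedCategory.quotientCompQhIso (ModuleCat.{u} A)).app ((DRing.homCxFunctor K).obj L))
    (fun f => (DerivedCategory.quotientCompQhIso (ModuleCat.{u} A)).hom.naturality ((DRing.homCxFunctor K).map f))

/-- K-injective complexes compute `RHom(K, -)`. -/
theorem isIso_unit_homCx (K : DRing.Cx A) [DRing.HasRHomCx K] (I : DRing.Cx A) [I.IsKInjective] :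
    IsIso (((DRing.homCxQ K).totalRightDerivedUnit DerivedCategory.Q
      (HomologicalComplex.quasiIso (ModuleCat.{u} A) (ComplexShape.up ℤ))).app I) := by
  let q := HomotopyCategory.quotient (ModuleCat.{u} A) (ComplexShape.up ℤ)
  let W := HomotopyCategory.quasiIso (ModuleCat.{u} A) (ComplexShape.up ℤ)
  haveI : (homCxKh K).HasRightDerivedFunctor W :=
    hasRightDerivedFunctor_of_enoughKInj enoughKInj_of_isGrothendieckAbelian _
  let α := (homCxKh K).totalRightDerivedUnit DerivedCategory.Qh W
  let RF := (homCxKh K).totalRightDerived DerivedCategory.Qh W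
  haveI hα : IsIso (α.app (q.obj I)) :=
    isIso_unit_of_kInj enoughKInj_of_isGrothendieckAbelian (homCxKh K) I inferInstance
  let β := (homCxKhIso K).inv ≫ Functor.whiskerLeft q α ≫ (Functor.associator _ _ _).inv ≫
      Functor.whiskerRight (DerivedCategory.quotientCompQhIso (ModuleCat.{u} A)).hom RF
  haveI hβ : IsIso (β.app I) :=
    @IsIso.comp_isIso _ _ _ _ _ _ _ inferInstance (@IsIso.comp_isIso _ _ _ _ _ _ _ hα
      (@IsIso.comp_isIso _ _ _ _ _ _ _ inferInstance inferInstance))
  haveI : RF.IsRightDerivedFunctor β (HomologicalComplex.quasiIso (ModuleCat.{u} A) (ComplexShape.up ℤ)) :=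
    isRightDerived_precomp q (DerivedCategory.quotientCompQhIso (ModuleCat.{u} A)) (homCxKhIso K) _ (W := W) α
  let c := (DRing.homCxQ K).totalRightDerivedUnit DerivedCategory.Q
    (HomologicalComplex.quasiIso (ModuleCat.{u} A) (ComplexShape.up ℤ))
  haveI : IsIso ((DRing.RHomCx K).rightDerivedDesc c
      (HomologicalComplex.quasiIso (ModuleCat.{u} A) (ComplexShape.up ℤ)) RF β) :=
    ((DRing.RHomCx K).isRightDerivedFunctor_iff_isIso_rightDerivedDesc c _ RF β).1 ‹_›
  exact IsIso.of_isIso_fac_right ((DRing.RHomCx K).rightDerived_fac_app c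
    (HomologicalComplex.quasiIso (ModuleCat.{u} A) (ComplexShape.up ℤ)) RF β I)

/-- `RHom(K, L) ≅ Hom•(P, I)`. -/
theorem nonempty_RHomCx_value {K P : DRing.Cx A} [DRing.HasRHomCx K] (s : P ⟶ K) [QuasiIso s] {L : Dual.D A}
    (I : DRing.Cx A) [I.IsKInjective] (e : DerivedCategory.Q.obj I ≅ L) :
    Nonempty ((DRing.RHomCx K).obj L ≅ DerivedCategory.Q.obj (DRing.homCx P I)) := by
  haveI := isIso_unit_homCx K I
  haveI := DualLib.Shriek.quasiIso_homPre (I := I) s
  haveI := isIso_Q_map_of_qis (homPre s I)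
  exact ⟨(DRing.RHomCx K).mapIso e.symm ≪≫ (asIso (((DRing.homCxQ K).totalRightDerivedUnit DerivedCategory.Q
    (HomologicalComplex.quasiIso (ModuleCat.{u} A) (ComplexShape.up ℤ))).app I)).symm ≪≫
      asIso (DerivedCategory.Q.map (homPre s I))⟩

end Groth.Agent.CAlgH3.RGam
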