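import Groth.Agent.CAlgH3.RGam.RHomTensor
import Groth.Agent.CAlgH3.RGam.RHomValue

/-!
`DRing.RHomCx K ≅ DTen.RHomR (Q K)`; `RHom(L, -)` commutes with derived completion for finitely generated ideals.
-/

set_option autoImplicit false
set_option backward.isDefEq.respectTransparency false
set_option backward.defeqAttrib.useBackward true
set_option linter.style.haveILetI false

universe u

open CategoryTheory CategoryTheory.Limits CategoryTheory.Pretriangulated

attribute [local instance] HasDerivedCategory.standard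

namespace Groth.Agent.CAlgH3.RGam

open Groth.Agent.DCat Groth.Agent.DCat.DC
open MonoidalCategory

variable {A : Type u} [CommRing A] [DTen.HasLTen A] [DTen.HasRHom A]

/-- The comparison of the two internal homs. -/
theorem nonempty_RHomCx_iso_RHomR (K : DRing.Cx A) [DRing.HasRHomCx K] :
    Nonempty (DRing.RHomCx K ≅ DTen.RHomR A (DerivedCategory.Q.obj K)) := by
  let W := HomologicalComplex.quasiIso (ModuleCat.{u} A) (ComplexShape.up ℤ)
  let τ : DRing.homCxQ K ⟶ DerivedCategory.Q ⋙ DTen.RHomR A (DerivedCategory.Q.obj K) :=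
    { app := fun I => homθ K I
      naturality := fun I I' j => (homθ_homCxMap K j).symm }
  let c := (DRing.homCxQ K).totalRightDerivedUnit DerivedCategory.Q W
  let θ := (DRing.RHomCx K).rightDerivedDesc c W (DTen.RHomR A (DerivedCategory.Q.obj K)) τ
  obtain ⟨P, s, hP, -, hs, -⟩ := exists_kflat K
  haveI := hs
  haveI := isIso_Q_map_of_qis s
  haveI : ∀ Y, IsIso (θ.app Y) := fun Y => by
    obtain ⟨I, hI, ⟨e⟩⟩ := exists_kInj_obj Y
    haveI := hI
    refine (NatTrans.isIso_app_iff_of_iso θ e).1 ?_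
    haveI := isIso_unit_homCx K I
    have h1 : c.app I ≫ θ.app (DerivedCategory.Q.obj I) = homθ K I :=
      (DRing.RHomCx K).rightDerived_fac_app c W _ τ I
    haveI := isIso_homθ (I := I) hP
    haveI := DualLib.Shriek.quasiIso_homPre (I := I) s
    haveI := isIso_Q_map_of_qis (homPre s I)
    haveI : IsIso (DTen.RHomMap (DerivedCategory.Q.map s) (DerivedCategory.Q.obj I)) :=
      inferInstanceAs (IsIso (((DTen.RHom A).map (DerivedCategory.Q.map s).op).app _))
    haveI : IsIso (homθ K I ≫ DTen.RHomMap (DerivedCategory.Q.map s) (DerivedCategory.Q.obj I)) := by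
      rw [homθ_homPre]; infer_instance
    haveI : IsIso (homθ K I) :=
      IsIso.of_isIso_comp_right _ (DTen.RHomMap (DerivedCategory.Q.map s) (DerivedCategory.Q.obj I))
    exact IsIso.of_isIso_fac_left h1
  haveI := NatIso.isIso_of_isIso_app θ
  exact ⟨asIso θ⟩

omit [DTen.HasRHom A] in
theorem tm_smul_id (f : A) (X Y : Dual.D A) : tm (f • 𝟙 X) (𝟙 Y) = f • 𝟙 (Tn X Y) := by
  obtain ⟨X', hX', ⟨e⟩⟩ := exists_kflat_obj X
  obtain ⟨P, hP, ⟨e'⟩⟩ := exists_kflat_obj Y
  haveI := isIso_ε_of_kflat hX' hP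
  haveI := isIso_LTen_map e.hom e'.hom
  have hQ : DerivedCategory.Q.map (f • 𝟙 X') = f • 𝟙 (DerivedCategory.Q.obj X') := by
    rw [DerivedCategory.Q.map_smul, DerivedCategory.Q.map_id]
  have h0 : tm (f • 𝟙 (DerivedCategory.Q.obj X')) (𝟙 (DerivedCategory.Q.obj P)) =
      f • 𝟙 (Tn (DerivedCategory.Q.obj X') (DerivedCategory.Q.obj P)) := by
    rw [← hQ, ← DerivedCategory.Q.map_id, ← cancel_mono ((DTen.ε A).app (X', P))]
    refine ((DTen.ε A).naturality ((Prod.mkHom (f • 𝟙 X') (𝟙 P)) : (X', P) ⟶ (X', P))).trans ?_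
    show (DTen.ε A).app (X', P) ≫ DerivedCategory.Q.map ((f • 𝟙 X') ▷ P ≫ X' ◁ 𝟙 P) = _
    rw [MonoidalCategory.whiskerLeft_id, Category.comp_id, smul_id_whiskerRight, DerivedCategory.Q.map_smul]
    erw [DerivedCategory.Q.map_id]
    rw [Linear.comp_smul, Linear.smul_comp]
    erw [Category.comp_id, Category.id_comp]
  rw [← cancel_epi (tm e.hom e'.hom), tm_comp, Linear.comp_smul, Category.comp_id, Category.comp_id,
    Linear.comp_smul, Category.comp_id]
  calc tm (f • e.hom) e'.hom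
      = tm (f • 𝟙 (DerivedCategory.Q.obj X')) (𝟙 _) ≫ tm e.hom e'.hom := by
        rw [tm_comp, Linear.smul_comp, Category.id_comp, Category.id_comp]
    _ = f • tm e.hom e'.hom := by rw [h0, Linear.smul_comp, Category.id_comp]

omit [DTen.HasRHom A] in
theorem tm_smul_left (f : A) {X X' Y : Dual.D A} (g : X ⟶ X') : tm (f • g) (𝟙 Y) = f • tm g (𝟙 Y) := by
  rw [show f • g = (f • 𝟙 X) ≫ g by rw [Linear.smul_comp, Category.id_comp],
    show tm ((f • 𝟙 X) ≫ g) (𝟙 Y) = tm (f • 𝟙 X) (𝟙 Y) ≫ tm g (𝟙 Y) by rw [tm_comp, Category.id_comp],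
    tm_smul_id, Linear.smul_comp, Category.id_comp]

theorem finv_RHomR {f : A} (L : Dual.D A) {M : Dual.D A} (h : FInv f M) :
    FInv f ((DTen.RHomR A L).obj M) := by
  haveI : IsIso (f • 𝟙 M) := h
  show IsIso (f • 𝟙 ((DTen.RHomR A L).obj M))
  rw [isIso_iff_yoneda_map_bijective]
  intro X
  let e := ((DTen.rhomAdj A L).homEquiv X M).symm
  have hc : ∀ g : X ⟶ (DTen.RHomR A L).obj M,
      e (g ≫ (f • 𝟙 _)) = e g ≫ (f • 𝟙 M) := fun g => by
    simp only [e, Adjunction.homEquiv_counit, Linear.comp_smul, Category.comp_id]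
    exact (congrArg (· ≫ _) (tm_smul_left f g)).trans (Linear.smul_comp _ _ _ f _ _)
  refine ⟨fun a b hab => e.injective ((cancel_mono (f • 𝟙 M)).1 ?_), fun y => ?_⟩
  · rw [← hc, ← hc]; exact congrArg e hab
  · exact ⟨e.symm (e y ≫ inv (f • 𝟙 M)), e.injective (by
      rw [hc, Equiv.apply_symm_apply, Category.assoc, IsIso.inv_hom_id, Category.comp_id])⟩

theorem isDerivedComplete_RHomR {I : Ideal A} (L : Dual.D A) {E : Dual.D A} (hE : DRing.IsDerivedComplete I E) :
    DRing.IsDerivedComplete I ((DTen.RHomR A L).obj E) :=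
  isDerivedComplete_of_generators (I : Set A) (Ideal.span_eq I) _ fun f hf n φ =>
    ((DTen.rhomAdj A L).homEquiv _ E).symm.injective
      ((eq_zero_of_finv (finv_tensor_left (finv_away.shift n) L) (dcf_of_isDerivedComplete hE hf) _).trans
        (eq_zero_of_finv (finv_tensor_left (finv_away.shift n) L) (dcf_of_isDerivedComplete hE hf) _).symm)

omit [DTen.HasLTen A] [DTen.HasRHom A] in
theorem finv_cone_of_univ {f : A} {K C W : Dual.D A} {q : K ⟶ C} {b : C ⟶ W} {c : W ⟶ K⟦(1 : ℤ)⟧}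
    (hT : Triangle.mk q b c ∈ distTriang _)
    (h : ∀ L, DCf f L → Function.Bijective (fun φ : C ⟶ L => q ≫ φ)) : FInv f W := by
  have horth : ∀ L, DCf f L → ∀ θ : W ⟶ L, θ = 0 := fun L hL θ => by
    obtain ⟨ω, rfl⟩ := Triangle.yoneda_exact₃ _ hT θ ((h L hL).1 (by
      dsimp only [Triangle.mk]
      rw [← Category.assoc, show q ≫ b = 0 from comp_distTriang_mor_zero₁₂ _ hT, zero_comp, comp_zero]))
    change K⟦(1 : ℤ)⟧ ⟶ L at ω
    show c ≫ ω = 0
    let sh := (shiftFunctorCompIsoId (Dual.D A) (-1) 1 (by omega)).app L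
    obtain ⟨ω', hω⟩ := (shiftFunctor (Dual.D A) (1 : ℤ)).map_surjective (ω ≫ sh.inv)
    obtain ⟨σ, rfl⟩ := (h _ (hL.shift f (-1))).2 ω'
    have hcq : c ≫ q⟦(1 : ℤ)⟧' = 0 := comp_distTriang_mor_zero₃₁ _ hT
    rw [← cancel_mono sh.inv, Category.assoc, zero_comp, ← hω, Functor.map_comp, ← Category.assoc, hcq, zero_comp]
  obtain ⟨T, i, δ, hT'⟩ := exists_fib (f := f) W
  let p := i ≫ Pi.π (fun _ : ℕ => W) 0
  obtain ⟨C'', q'', w'', hC''⟩ := distinguished_cocone_triangle p
  have hTi := finv_fib hT'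
  -- the cone of `p` is complete and receives zero from `W`, hence is zero
  have hq0 : ∀ (n : ℤ) (φ : (Dual.inD A (Localization.Away f))⟦n⟧ ⟶ C''), φ = 0 := by
    intro n φ
    have hX : FInv f ((Dual.inD A (Localization.Away f))⟦n⟧) := finv_away.shift n
    have hwp : w'' ≫ p⟦(1 : ℤ)⟧' = 0 := comp_distTriang_mor_zero₃₁ _ hC''
    have hw : φ ≫ w'' = 0 := by
      let e := (shiftFunctorCompIsoId (Dual.D A) (-1) 1 (by omega)).app
        ((Dual.inD A (Localization.Away f))⟦n⟧)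
      obtain ⟨χ, hχ⟩ := (shiftFunctor (Dual.D A) (1 : ℤ)).map_surjective (e.hom ≫ φ ≫ w'')
      have h0 : χ ≫ p = 0 := by
        apply (shiftFunctor (Dual.D A) (1 : ℤ)).map_injective
        rw [Functor.map_comp, hχ, Category.assoc, Category.assoc, hwp]
        simp
      have h1 : χ = 0 := (bijective_p hT' (hX.shift (-1))).1 (h0.trans zero_comp.symm)
      rw [h1, Functor.map_zero] at hχ
      exact (cancel_epi e.hom).1 (hχ.symm.trans comp_zero.symm)
    obtain ⟨ψ, hψ⟩ := Triangle.coyoneda_exact₃ _ hC'' φ hw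
    obtain ⟨χ, rfl⟩ := (bijective_p hT' hX).2 ψ
    rw [hψ]
    show (χ ≫ p) ≫ q'' = 0
    rw [Category.assoc, show p ≫ q'' = 0 from comp_distTriang_mor_zero₁₂ _ hC'', comp_zero]
  have hq : q'' = 0 := horth C'' hq0 q''
  have hz'' : IsZero C'' := by
    rw [IsZero.iff_id_eq_zero]
    obtain ⟨θ, hθ⟩ := Triangle.yoneda_exact₃ _ hC'' (𝟙 C'') (by
      show q'' ≫ 𝟙 _ = 0
      rw [hq, zero_comp])
    rw [hθ]
    show w'' ≫ θ = 0
    rw [eq_zero_of_finv (hTi.shift 1) hq0 θ, comp_zero]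
  haveI : IsIso p := (Triangle.isZero₃_iff_isIso₁ _ hC'').1 hz''
  exact finv_of_iso (asIso p) hTi

/-- Completion maps stay invertible after completion under `RHom(L, -)`. -/
theorem exists_iterate_RHomR {I : Ideal A} (L : Dual.D A) : ∀ (s : List A), (∀ g ∈ s, g ∈ I) → ∀ K : Dual.D A,
    ∃ (C : Dual.D A) (q : K ⟶ C), (∀ g ∈ s, DCf g C) ∧ (∀ g, DCf g K → DCf g C) ∧
      (∀ E, (∀ g ∈ s, DCf g E) → Function.Bijective (fun φ : C ⟶ E => q ≫ φ)) ∧
      CIso I ((DTen.RHomR A L).map q)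
  | [], _, K => ⟨K, 𝟙 K, by simp, fun _ h => h,
      fun E _ => by simp only [Category.id_comp]; exact Function.bijective_id, cIso_of_isIso _⟩
  | f :: t, hs, K => by
    obtain ⟨C₁, q₁, hf, hp₁, hu₁, -⟩ := exists_step f K
    obtain ⟨W, b, c, hW⟩ := distinguished_cocone_triangle q₁
    obtain ⟨δ, hδ⟩ := mapsTri_RHomR L _ hW
    have h1 : CIso I ((DTen.RHomR A L).map q₁) :=
      cIso_of_finv (hs f List.mem_cons_self) hδ (finv_RHomR L (finv_cone_of_univ hW hu₁))
    obtain ⟨C, q, ht, hp, hu, hc⟩ :=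
      exists_iterate_RHomR L t (fun g hg => hs g (List.mem_cons_of_mem _ hg)) C₁
    refine ⟨C, q₁ ≫ q, ?_, fun g hg => hp g (hp₁ g hg), fun E hE => ?_, ?_⟩
    · intro g hg
      rcases List.mem_cons.1 hg with rfl | hg
      · exact hp g hf
      · exact ht g hg
    · have e : (fun φ : C ⟶ E => (q₁ ≫ q) ≫ φ) = (fun φ : C₁ ⟶ E => q₁ ≫ φ) ∘ (fun φ => q ≫ φ) :=
        funext fun φ => Category.assoc _ _ _
      rw [e]
      exact (hu₁ E (hE f List.mem_cons_self)).comp (hu E fun g hg => hE g (List.mem_cons_of_mem _ hg))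
    · rw [Functor.map_comp]
      exact h1.comp hc

theorem cIso_RHomR_toDerivedCompletion {I : Ideal A} (hI : I.FG) [DRing.HasDerivedCompletion I] (L M : Dual.D A) :
    CIso I ((DTen.RHomR A L).map (DRing.toDerivedCompletion I M)) := by
  obtain ⟨s, hs⟩ := hI
  obtain ⟨C, q, hc, -, hu, hR⟩ := exists_iterate_RHomR L s.toList
    (fun g hg => hs ▸ Ideal.subset_span (Finset.mem_toList.1 hg)) M
  have hC : IsCompl I q := ⟨isDerivedComplete_of_generators _ hs C fun g hg => hc g (Finset.mem_toList.2 hg),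
    fun E hE => hu E fun g hg => dcf_of_isDerivedComplete hE
      (hs ▸ Ideal.subset_span (Finset.mem_toList.1 hg))⟩
  obtain ⟨e, he⟩ := hC.exists_iso (isCompl_toDerivedCompletion I M)
  rw [← he, Functor.map_comp]
  exact hR.comp (cIso_of_isIso _)

end Groth.Agent.CAlgH3.RGam
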