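import Groth.Agent.CAlgH3.RGam.RHomCech

/-!
`RHom(A_f, -)` is the coreflection onto objects on which `f` is invertible.
-/

set_option autoImplicit false
set_option backward.isDefEq.respectTransparency false
set_option backward.defeqAttrib.useBackward true
set_option linter.style.haveILetI false

universe u

open CategoryTheory CategoryTheory.Limits CategoryTheory.Pretriangulated

attribute [local instance] HasDerivedCategory.standard

namespace Groth.Agent.CAlgH3.RGam

open Groth.Agent.DCat Groth.Agent.DCat.DC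

variable {A : Type u} [CommRing A]

theorem finv_mul {f g : A} {X : Dual.D A} (hf : FInv f X) (hg : FInv g X) : FInv (f * g) X := by
  haveI : IsIso (f • 𝟙 X) := hf
  haveI : IsIso (g • 𝟙 X) := hg
  have e : (f * g) • 𝟙 X = (f • 𝟙 X) ≫ (g • 𝟙 X) := by
    rw [Linear.smul_comp, Category.id_comp, smul_smul]
  show IsIso ((f * g) • 𝟙 X)
  rw [e]
  infer_instance

theorem finv_of_mul {f g : A} {X : Dual.D A} (h : FInv (f * g) X) : FInv f X := by
  haveI : IsIso ((f * g) • 𝟙 X) := h
  refine ⟨⟨inv ((f * g) • 𝟙 X) ≫ (g • 𝟙 X), ?_, ?_⟩⟩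
  · have h1 := IsIso.inv_hom_id ((f * g) • 𝟙 X)
    rw [Linear.comp_smul, Category.comp_id] at h1
    rw [Linear.comp_smul, Category.comp_id, Linear.smul_comp, Category.id_comp, smul_comm, smul_smul, mul_comm, h1]
  · have h1 := IsIso.inv_hom_id ((f * g) • 𝟙 X)
    rw [Linear.comp_smul, Category.comp_id] at h1
    rw [Linear.comp_smul, Category.comp_id, Linear.comp_smul, Category.comp_id, smul_smul, h1]

variable [DTen.HasLTen A] [DTen.HasRHom A]

theorem isZero_tensor_gTors_finv {g : A} {Y : DRing.Cx A} (hY : CechExt.Tors g Y) {X : Dual.D A} (hX : FInv g X) :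
    IsZero (Tn X (DerivedCategory.Q.obj Y)) := by
  haveI := isIso_symm_app' X (DerivedCategory.Q.obj Y)
  refine (IsZero.iff_id_eq_zero _).2 ?_
  rw [← cancel_epi ((DTen.symm A).app (X, DerivedCategory.Q.obj Y)), comp_zero]
  refine ((DTen.rhomAdj A X).homEquiv _ _).injective ?_
  exact (eq_zero_of_gTors_finv hY (finv_RHomR_source hX _) _).trans
    (eq_zero_of_gTors_finv hY (finv_RHomR_source hX _) _).symm

theorem bijective_comp_RHomMap {L L' : Dual.D A} (u : L' ⟶ L) (X M : Dual.D A) [IsIso (tm (𝟙 X) u)] :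
    Function.Bijective fun χ : X ⟶ (DTen.RHomR A L).obj M => χ ≫ DTen.RHomMap u M := by
  let e := ((DTen.rhomAdj A L).homEquiv X M).symm
  let e' := ((DTen.rhomAdj A L').homEquiv X M).symm
  have hc : ∀ χ : X ⟶ (DTen.RHomR A L).obj M, e' (χ ≫ DTen.RHomMap u M) = tm (𝟙 X) u ≫ e χ := fun χ => by
    simp only [e, e', Adjunction.homEquiv_counit]
    rw [Functor.map_comp, Category.assoc]
    refine (congrArg (_ ≫ ·) (DTen.RHom_map_ev u M)).trans ?_
    have hsq : tm χ (𝟙 L') ≫ tm (𝟙 ((DTen.RHomR A L).obj M)) u = tm (𝟙 X) u ≫ tm χ (𝟙 L) := by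
      rw [tm_comp, tm_comp]; simp
    exact (reassoc_of% hsq) _
  refine ⟨fun a b h => e.injective ((cancel_epi (tm (𝟙 X) u)).1 ?_), fun y => ?_⟩
  · rw [← hc, ← hc]; exact congrArg e' h
  · exact ⟨e.symm (inv (tm (𝟙 X) u) ≫ e' y), e'.injective (by
      rw [hc, Equiv.apply_symm_apply, IsIso.hom_inv_id_assoc])⟩

/-- The universal property of `RHom(A_f, -)`. -/
theorem exists_coreflection [DTen.HasLTen₃ A] (f : A) (M : Dual.D A) :
    ∃ π : (DTen.RHomR A (DerivedCategory.Q.obj ((HomologicalComplex.single (ModuleCat.{u} A) (ComplexShape.up ℤ) 0).obj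
        (ModuleCat.of A (Localization.Away f))))).obj M ⟶ M,
      ∀ X : Dual.D A, FInv f X → Function.Bijective fun χ : X ⟶ _ => χ ≫ π := by
  haveI := DualLib.isSymMonoidal (A := A)
  let S := Submonoid.powers f
  let O : DRing.Cx A := (HomologicalComplex.single (ModuleCat.{u} A) (ComplexShape.up ℤ) 0).obj (ModuleCat.of A A)
  let ψ := DerCA.locCxUnit S O
  haveI : (DerCA.locFunctor (R := A) S).Additive := inferInstance
  let i : (DerCA.locCx S).obj O ≅ (HomologicalComplex.single (ModuleCat.{u} A) (ComplexShape.up ℤ) 0).obj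
      (ModuleCat.of A (Localization.Away f)) :=
    (HomologicalComplex.singleMapHomologicalComplex (DerCA.locFunctor S) (ComplexShape.up ℤ) 0).app (ModuleCat.of A A)
  let i0 : DTen.unit A ≅ DerivedCategory.Q.obj O := Iso.refl _
  let u : DTen.unit A ⟶ _ := i0.hom ≫ DerivedCategory.Q.map ψ ≫ (DerivedCategory.Q.mapIso i).hom
  refine ⟨DTen.RHomMap u M ≫ (DualLib.rhomUnit M).hom, fun X hX => ?_⟩
  haveI : IsIso (tm (𝟙 X) (DerivedCategory.Q.map ψ)) := by
    obtain ⟨δ, hδ⟩ := mapsTri_tensorLeft X _ (distinguished_cocone ψ)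
    exact (Triangle.isZero₁_iff_isIso₂ _ hδ).1
      (isZero_tensor_gTors_finv (CechExt.tors_self f O) hX)
  haveI : IsIso (tm (𝟙 X) u) := by
    have e : tm (𝟙 X) u = tm (𝟙 X) i0.hom ≫ tm (𝟙 X) (DerivedCategory.Q.map ψ) ≫
        tm (𝟙 X) (DerivedCategory.Q.mapIso i).hom := by
      rw [tm_comp, tm_comp]; simp [u]
    rw [e]
    haveI := isIso_LTen_map (𝟙 X) i0.hom
    haveI := isIso_LTen_map (𝟙 X) (DerivedCategory.Q.mapIso i).hom
    infer_instance
  have e : (fun χ => χ ≫ DTen.RHomMap u M ≫ (DualLib.rhomUnit M).hom) =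
      (fun ρ : X ⟶ _ => ρ ≫ (DualLib.rhomUnit M).hom) ∘ (fun χ => χ ≫ DTen.RHomMap u M) :=
    funext fun χ => (Category.assoc _ _ _).symm
  rw [e]
  exact Function.Bijective.comp ⟨fun a b h => (cancel_mono (DualLib.rhomUnit M).hom).1 h,
    fun y => ⟨y ≫ (DualLib.rhomUnit M).inv, by simp⟩⟩ (bijective_comp_RHomMap u X M)

theorem finv_RHom_away (f : A) (M : Dual.D A) :
    FInv f ((DTen.RHomR A (DerivedCategory.Q.obj ((HomologicalComplex.single (ModuleCat.{u} A) (ComplexShape.up ℤ) 0).obj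
        (ModuleCat.of A (Localization.Away f))))).obj M) :=
  finv_RHomR_source (finv_of_iso ((DerivedCategory.singleFunctorIsoCompQ _ 0).app _) finv_away) M

theorem nonempty_RHom_away_mul [DTen.HasLTen₃ A] (f g : A) (K : Dual.D A) :
    let R := fun h : A => DTen.RHomR A (DerivedCategory.Q.obj
      ((HomologicalComplex.single (ModuleCat.{u} A) (ComplexShape.up ℤ) 0).obj (ModuleCat.of A (Localization.Away h))))
    Nonempty ((R f).obj ((R g).obj K) ≅ (R (f * g)).obj K) := by
  intro R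
  obtain ⟨a, ha⟩ := exists_coreflection f ((R g).obj K)
  obtain ⟨b, hb⟩ := exists_coreflection g K
  obtain ⟨c, hc⟩ := exists_coreflection (f * g) K
  have h2 := finv_RHom_away (f * g) K
  have hbij : ∀ X : Dual.D A, FInv (f * g) X → Function.Bijective fun χ : X ⟶ (R f).obj ((R g).obj K) => χ ≫ a ≫ b :=
    fun X hX => by
      have e : (fun χ : X ⟶ (R f).obj ((R g).obj K) => χ ≫ a ≫ b) = (fun ρ => ρ ≫ b) ∘ (fun χ => χ ≫ a) :=
        funext fun χ => (Category.assoc _ _ _).symm
      rw [e]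
      exact (hb X (finv_of_mul (f := g) (g := f) (by rwa [mul_comm]))).comp (ha X (finv_of_mul hX))
  have h1 : FInv (f * g) ((R f).obj ((R g).obj K)) :=
    finv_mul (finv_RHom_away f _) (finv_RHomR _ (finv_RHom_away g K))
  obtain ⟨p, hp⟩ := (hc _ h1).2 (a ≫ b)
  obtain ⟨q, hq⟩ := (hbij _ h2).2 c
  dsimp only at hp hq
  exact ⟨⟨p, q, (hbij _ h1).1 (((Category.assoc _ _ _).trans ((congrArg (p ≫ ·) hq).trans hp)).trans
      (Category.id_comp _).symm),
    (hc _ h2).1 (((Category.assoc _ _ _).trans ((congrArg (q ≫ ·) hp).trans hq)).trans (Category.id_comp _).symm)⟩⟩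

end Groth.Agent.CAlgH3.RGam
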