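import Groth.Agent.DualLib.GammaHDI

/-!
Torsion subcomplexes of complexes with `f`-divisible terms, elementwise: quasi-isomorphisms and torsion
cohomology pass to the torsion subcomplex, one element at a time.
-/

set_option autoImplicit false
set_option linter.style.haveILetI false

universe u

open CategoryTheory CategoryTheory.Limits

namespace Groth.Agent.CAlgH3.RGam

variable {A : Type u} [CommRing A]

section module

variable {M N : Type u} [AddCommGroup M] [Module A M] [AddCommGroup N] [Module A N]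

/-- `M → M_f` is surjective, elementwise. -/
def Div (f : A) (M : Type u) [AddCommGroup M] [Module A M] : Prop :=
  ∀ m : M, ∃ (x : M) (k : ℕ), f ^ k • m = f ^ (k + 1) • x

theorem Div.pow {f : A} (h : Div f M) (m : M) : ∀ j : ℕ, ∃ (x : M) (k : ℕ), f ^ k • m = f ^ (k + j) • x
  | 0 => ⟨m, 0, rfl⟩
  | j + 1 => by
    obtain ⟨x, k, hx⟩ := Div.pow h m j
    obtain ⟨y, l, hy⟩ := h x
    refine ⟨y, k + l, ?_⟩
    calc f ^ (k + l) • m = f ^ l • f ^ k • m := by rw [← mul_smul, ← pow_add, add_comm]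
      _ = f ^ (k + j) • f ^ l • x := by rw [hx, smul_comm]
      _ = f ^ (k + l + (j + 1)) • y := by rw [hy, ← mul_smul, ← pow_add]; ring_nf

/-- Torsion along a list. -/
abbrev tor (t : List A) (M : Type u) [AddCommGroup M] [Module A M] : Submodule A M :=
  DRing.torsionSub (Ideal.ofList t) M

theorem mem_tor_nil (x : M) : x ∈ tor ([] : List A) M := ⟨1, fun a ha => by
  rw [pow_one, Ideal.ofList_nil, Submodule.mem_bot] at ha
  rw [ha, zero_smul]⟩

theorem mem_tor_cons {f : A} {t : List A} {x : M} :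
    x ∈ tor (f :: t) M ↔ x ∈ tor t M ∧ ∃ k : ℕ, f ^ k • x = 0 := by
  constructor
  · rintro ⟨n, hn⟩
    rw [Ideal.ofList_cons] at hn
    exact ⟨⟨n, fun a ha => hn a (Ideal.pow_right_mono le_sup_right n ha)⟩, n,
      hn _ (Ideal.pow_mem_pow (Ideal.mem_sup_left (Ideal.mem_span_singleton_self f)) n)⟩
  · rintro ⟨⟨n, hn⟩, k, hk⟩
    refine ⟨k + n, fun a ha => ?_⟩
    rw [Ideal.ofList_cons] at ha
    obtain ⟨b, hb, c, hc, rfl⟩ := Submodule.mem_sup.1 (Ideal.sup_pow_add_le_pow_sup_pow ha)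
    rw [Ideal.span_singleton_pow] at hb
    obtain ⟨r, rfl⟩ := Ideal.mem_span_singleton'.1 hb
    rw [add_smul, mul_smul, hk, smul_zero, hn c hc, add_zero]

theorem map_mem_tor {t : List A} (φ : M →ₗ[A] N) {x : M} (hx : x ∈ tor t M) : φ x ∈ tor t N :=
  DRing.map_mem_torsionSub _ φ hx

/-- Divisibility along every tail of the list. -/
def Ad (M : Type u) [AddCommGroup M] [Module A M] : List A → Prop
  | [] => True
  | f :: t => Ad M t ∧ Div f (tor t M)

theorem Ad.div {f : A} {t : List A} (h : Ad M (f :: t)) {m : M} (hm : m ∈ tor t M) (j : ℕ) :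
    ∃ x ∈ tor t M, ∃ k : ℕ, f ^ k • m = f ^ (k + j) • x := by
  obtain ⟨x, k, hx⟩ := h.2.pow ⟨m, hm⟩ j
  exact ⟨x, x.2, k, congrArg Subtype.val hx⟩

end module

section complexes

variable {C C' : DRing.Cx A}

theorem dd (C : DRing.Cx A) {i j k : ℤ} (x : C.X i) : (C.d j k).hom ((C.d i j).hom x) = 0 :=
  congrArg (fun φ => φ.hom x) (C.d_comp_d i j k)

theorem comm (σ : C ⟶ C') (i j : ℤ) (x : C.X i) :
    (C'.d i j).hom ((σ.f i).hom x) = (σ.f j).hom ((C.d i j).hom x) :=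
  congrArg (fun φ => φ.hom x) (σ.comm i j)

/-- All terms are divisible. -/
def AdC (C : DRing.Cx A) (s : List A) : Prop := ∀ i : ℤ, Ad (C.X i) s

theorem AdC.tail {f : A} {t : List A} (h : AdC C (f :: t)) : AdC C t := fun i => (h i).1

/-- `σ` is a quasi-isomorphism on the torsion subcomplexes, elementwise. -/
structure Qi (σ : C ⟶ C') (t : List A) : Prop where
  inj : ∀ (i j k : ℤ), i + 1 = j → j + 1 = k → ∀ z ∈ tor t (C.X j), (C.d j k).hom z = 0 →
    ∀ w' ∈ tor t (C'.X i), (σ.f j).hom z = (C'.d i j).hom w' → ∃ w ∈ tor t (C.X i), (C.d i j).hom w = z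
  surj : ∀ (i j k : ℤ), i + 1 = j → j + 1 = k → ∀ z' ∈ tor t (C'.X j), (C'.d j k).hom z' = 0 →
    ∃ z ∈ tor t (C.X j), (C.d j k).hom z = 0 ∧
      ∃ w' ∈ tor t (C'.X i), z' - (σ.f j).hom z = (C'.d i j).hom w'

theorem Qi.cons {f : A} {t : List A} {σ : C ⟶ C'} (hC : AdC C (f :: t)) (hC' : AdC C' (f :: t)) (h : Qi σ t) :
    Qi σ (f :: t) where
  inj i j k hij hjk z hz hdz w' hw' hzw := by
    obtain ⟨hz, a, ha⟩ := mem_tor_cons.1 hz
    obtain ⟨hw', b, hb⟩ := mem_tor_cons.1 hw'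
    obtain ⟨w, hw, hdw⟩ := h.inj i j k hij hjk z hz hdz w' hw' hzw
    have h0 : (C'.d i j).hom ((σ.f i).hom w - w') = 0 := by rw [map_sub, comm, hdw, hzw, sub_self]
    obtain ⟨c, hc, hdc, e, he, hce⟩ := h.surj (i - 1) i j (by omega) hij _
      (sub_mem (map_mem_tor _ hw) hw') h0
    set v := w - c with hv
    have hdv : (C.d i j).hom v = z := by rw [hv, map_sub, hdw, hdc, sub_zero]
    have hσv : (σ.f i).hom v = w' + (C'.d (i - 1) i).hom e := by
      rw [hv, map_sub, ← hce]; abel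
    have hcy : (C.d i j).hom (f ^ (a + b) • v) = 0 := by
      rw [map_smul, hdv, pow_add, mul_comm, mul_smul, ha, smul_zero]
    have hsm : (σ.f i).hom (f ^ (a + b) • v) = (C'.d (i - 1) i).hom (f ^ (a + b) • e) := by
      rw [map_smul, hσv, smul_add, map_smul, pow_add, mul_smul, hb, smul_zero, zero_add]
    have hvt : v ∈ tor t (C.X i) := sub_mem hw hc
    obtain ⟨u, hu, hdu⟩ := h.inj (i - 1) i j (by omega) hij _ (Submodule.smul_mem _ _ hvt) hcy _
      (Submodule.smul_mem _ _ he) hsm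
    obtain ⟨x, hx, m, hm⟩ := (hC (i - 1)).div hu (a + b)
    refine ⟨v - (C.d (i - 1) i).hom x, mem_tor_cons.2 ⟨sub_mem hvt (map_mem_tor _ hx), m + (a + b), ?_⟩, ?_⟩
    · rw [smul_sub, ← map_smul, ← hm, map_smul, hdu, ← mul_smul, ← pow_add, sub_self]
    · rw [map_sub, hdv, dd, sub_zero]
  surj i j k hij hjk z' hz' hdz' := by
    obtain ⟨hz', a, ha⟩ := mem_tor_cons.1 hz'
    obtain ⟨z, hz, hdz, e, he, hze⟩ := h.surj i j k hij hjk z' hz' hdz'
    have hsm : (σ.f j).hom (f ^ a • z) = (C'.d i j).hom (-(f ^ a • e)) := by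
      rw [map_neg, map_smul (C'.d i j).hom, ← hze, smul_sub, ha, zero_sub, neg_neg, map_smul]
    obtain ⟨u, hu, hdu⟩ := h.inj i j k hij hjk _ (Submodule.smul_mem _ _ hz) (by rw [map_smul, hdz, smul_zero]) _
      (neg_mem (Submodule.smul_mem _ _ he)) hsm
    obtain ⟨x, hx, m, hm⟩ := (hC i).div hu a
    set z2 := z - (C.d i j).hom x with hz2
    have hz2t : f ^ (m + a) • z2 = 0 := by
      rw [hz2, smul_sub, ← map_smul, ← hm, map_smul, hdu, ← mul_smul, ← pow_add, sub_self]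
    have hdz2 : (C.d j k).hom z2 = 0 := by rw [hz2, map_sub, hdz, dd, sub_zero]
    set e2 := e + (σ.f i).hom x with he2
    have hde2 : (C'.d i j).hom e2 = z' - (σ.f j).hom z2 := by
      rw [he2, map_add, comm, ← hze, hz2, map_sub]; abel
    have he2t : e2 ∈ tor t (C'.X i) := add_mem he (map_mem_tor _ hx)
    have hcy : (C'.d i j).hom (f ^ (m + a) • e2) = 0 := by
      rw [map_smul, hde2, smul_sub, ← map_smul (σ.f j).hom, hz2t, map_zero, sub_zero, pow_add, mul_smul, ha,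
        smul_zero]
    obtain ⟨c, hc, hdc, v, hv, hcv⟩ := h.surj (i - 1) i j (by omega) hij _ (Submodule.smul_mem _ _ he2t) hcy
    obtain ⟨y, hy, p, hp⟩ := (hC i).div hc (m + a)
    obtain ⟨v2, hv2, q, hq⟩ := (hC' (i - 1)).div hv (m + a)
    have hyt : f ^ (p + (m + a)) • (C.d i j).hom y = 0 := by rw [← map_smul, ← hp, map_smul, hdc, smul_zero]
    have hz3 : z2 + (C.d i j).hom y ∈ tor (f :: t) (C.X j) := mem_tor_cons.2
      ⟨add_mem (sub_mem hz (map_mem_tor _ hx)) (map_mem_tor _ hy), p + (m + a), by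
        rw [smul_add, hyt, add_zero, pow_add, mul_smul, hz2t, smul_zero]⟩
    refine ⟨_, hz3, by rw [map_add, hdz2, dd, add_zero], e2 - (σ.f i).hom y - (C'.d (i - 1) i).hom v2,
      mem_tor_cons.2 ⟨sub_mem (sub_mem he2t (map_mem_tor _ hy)) (map_mem_tor _ hv2), q + p + (m + a), ?_⟩, ?_⟩
    · have h1 : f ^ (q + p + (m + a)) • (σ.f i).hom y = f ^ (q + p) • (σ.f i).hom c := by
        rw [← map_smul, ← map_smul, add_assoc, pow_add, mul_smul, ← hp, ← mul_smul, ← pow_add]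
      have h2 : f ^ (q + p + (m + a)) • (C'.d (i - 1) i).hom v2 = f ^ (q + p) • (C'.d (i - 1) i).hom v := by
        rw [← map_smul, ← map_smul, show q + p + (m + a) = p + (q + (m + a)) by omega, pow_add, mul_smul, ← hq,
          ← mul_smul, ← pow_add, add_comm p q]
      rw [smul_sub, smul_sub, h1, h2, ← hcv, pow_add, mul_smul, ← smul_sub, ← smul_sub]
      simp
    · rw [map_sub, map_sub, hde2, dd, sub_zero, comm, map_add]; abel

theorem qi_of_list {σ : C ⟶ C'} (h : Qi σ ([] : List A)) :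
    ∀ s : List A, AdC C s → AdC C' s → Qi σ s
  | [], _, _ => h
  | _ :: t, hC, hC' => (qi_of_list h t hC.tail hC'.tail).cons hC hC'

/-- `g`-torsion cohomology of the torsion subcomplex. -/
def HTor (g : A) (t : List A) (C : DRing.Cx A) : Prop :=
  ∀ (i j k : ℤ), i + 1 = j → j + 1 = k → ∀ z ∈ tor t (C.X j), (C.d j k).hom z = 0 →
    ∃ (a : ℕ), ∃ w ∈ tor t (C.X i), g ^ a • z = (C.d i j).hom w

theorem HTor.cons {g f : A} {t : List A} (hC : AdC C (f :: t)) (h : HTor g t C) : HTor g (f :: t) C := by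
  intro i j k hij hjk z hz hdz
  obtain ⟨hz, b, hb⟩ := mem_tor_cons.1 hz
  obtain ⟨a, w, hw, haw⟩ := h i j k hij hjk z hz hdz
  have hcy : (C.d i j).hom (f ^ b • w) = 0 := by rw [map_smul, ← haw, smul_comm, hb, smul_zero]
  obtain ⟨c, u, hu, hcu⟩ := h (i - 1) i j (by omega) hij _ (Submodule.smul_mem _ _ hw) hcy
  obtain ⟨x, hx, m, hm⟩ := (hC (i - 1)).div hu b
  refine ⟨a + c, g ^ c • w - (C.d (i - 1) i).hom x, mem_tor_cons.2
    ⟨sub_mem (Submodule.smul_mem _ _ hw) (map_mem_tor _ hx), m + b, ?_⟩, ?_⟩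
  · rw [smul_sub, ← map_smul, ← hm, map_smul, ← hcu, pow_add, mul_smul, smul_comm (f ^ b) (g ^ c), sub_self]
  · rw [map_sub, map_smul, ← haw, dd, sub_zero, ← mul_smul, ← pow_add, add_comm]

theorem htor_of_list {g : A} (h : HTor g ([] : List A) C) : ∀ s : List A, AdC C s → HTor g s C
  | [], _ => h
  | _ :: t, hC => (htor_of_list h t hC.tail).cons hC

/-- The inclusion of a torsion subcomplex is a quasi-isomorphism, elementwise. -/
structure Incl (f : A) (t : List A) (C : DRing.Cx A) : Prop where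
  inj : ∀ (i j k : ℤ), i + 1 = j → j + 1 = k → ∀ z ∈ tor (f :: t) (C.X j),
    ∀ w ∈ tor t (C.X i), (C.d i j).hom w = z → ∃ w2 ∈ tor (f :: t) (C.X i), (C.d i j).hom w2 = z
  surj : ∀ (i j k : ℤ), i + 1 = j → j + 1 = k → ∀ z ∈ tor t (C.X j), (C.d j k).hom z = 0 →
    ∃ z2 ∈ tor (f :: t) (C.X j), (C.d j k).hom z2 = 0 ∧ ∃ w ∈ tor t (C.X i), z - z2 = (C.d i j).hom w

theorem HTor.incl {f : A} {t : List A} (hC : AdC C (f :: t)) (h : HTor f t C) : Incl f t C where
  inj i j k hij hjk z hz w hw hdw := by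
    obtain ⟨-, b, hb⟩ := mem_tor_cons.1 hz
    have hcy : (C.d i j).hom (f ^ b • w) = 0 := by rw [map_smul, hdw, hb]
    obtain ⟨c, u, hu, hcu⟩ := h (i - 1) i j (by omega) hij _ (Submodule.smul_mem _ _ hw) hcy
    obtain ⟨x, hx, m, hm⟩ := (hC (i - 1)).div hu (c + b)
    refine ⟨w - (C.d (i - 1) i).hom x, mem_tor_cons.2 ⟨sub_mem hw (map_mem_tor _ hx), m + (c + b), ?_⟩, ?_⟩
    · rw [smul_sub, ← map_smul, ← hm, map_smul, ← hcu, pow_add, pow_add, mul_smul, mul_smul, sub_self]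
    · rw [map_sub, hdw, dd, sub_zero]
  surj i j k hij hjk z hz hdz := by
    obtain ⟨a, u, hu, hau⟩ := h i j k hij hjk z hz hdz
    obtain ⟨x, hx, m, hm⟩ := (hC i).div hu a
    refine ⟨z - (C.d i j).hom x, mem_tor_cons.2 ⟨sub_mem hz (map_mem_tor _ hx), m + a, ?_⟩,
      by rw [map_sub, hdz, dd, sub_zero], x, hx, sub_sub_cancel _ _⟩
    rw [smul_sub, ← map_smul, ← hm, map_smul, ← hau, pow_add, mul_smul, sub_self]

end complexes

end Groth.Agent.CAlgH3.RGam
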